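import Cfsg.Agent.H929.UThreeClass
import Cfsg.Agent.H905.MdL
import Cfsg.Agent.H915.LD

/-!
# `PSU(3, q)` in its own characteristic, degree at most `12` (helper929)

* **`core_psu3`** : a core with `Soc P ≃* PSU 3 E q`, `3 ≤ q`, `n ≤ 12`, is self-dual or `|F| = q^2` and `n` is
  `3`, `6` (`p` odd), `9` (`q` not prime) or `10` (`p ≥ 5`);
* `core_psu_cj` : `Cj P q` for every degree.
-/

set_option autoImplicit false
set_option linter.unusedSectionVars false
set_option linter.style.haveILetI false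

namespace Cfsg.Agent.H929.U3

open Cfsg Cfsg.Geo Cfsg.Agent.LieClassical.HermSiegel Cfsg.Agent.LieClassical.HermBasic Matrix Cfsg.Agent.H906
  Cfsg.Agent.H915.LD Cfsg.Agent.H905.Md

universe u

/-- finite fields embed in algebraically closed fields of the same characteristic -/
theorem exists_embed (E K : Type*) [Field E] [Finite E] [Field K] [IsAlgClosed K] (p : ℕ) [Fact p.Prime] [CharP E p]
    [CharP K p] : Nonempty (E →+* K) := by
  letI := ZMod.algebra E p
  letI := ZMod.algebra K p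
  have : Algebra.IsAlgebraic (ZMod p) E := Algebra.IsAlgebraic.of_finite (ZMod p) E
  exact ⟨(IsAlgClosed.lift (R := ZMod p) (S := E) (M := K)).toRingHom⟩

section

variable {G F : Type*} {ι : Type} [Group G] [Fintype ι] [DecidableEq ι] [Field F]

theorem span_acRep {P : Subgroup (GL ι F)} {φ : G →* GL ι F} (hφ : φ.range = P)
    (hs : Submodule.span F (matrixSet P) = ⊤) :
    Submodule.span (AlgebraicClosure F) (Set.range (acRep φ)) = ⊤ := by
  have key : ∀ M : Matrix ι ι F, M.map (algebraMap F (AlgebraicClosure F)) ∈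
      Submodule.span (AlgebraicClosure F) (Set.range (acRep φ)) := by
    intro M
    have hM : M ∈ Submodule.span F (matrixSet P) := by rw [hs]; trivial
    induction hM using Submodule.span_induction with
    | mem x hx =>
      obtain ⟨g, hg, rfl⟩ := hx
      have hg' : g ∈ φ.range := by rw [hφ]; exact hg
      obtain ⟨y, rfl⟩ := hg'
      exact Submodule.subset_span ⟨y, rfl⟩
    | zero =>
      have h1 : (0 : Matrix ι ι F).map (algebraMap F (AlgebraicClosure F)) = 0 := by
        ext a b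
        simp
      rw [h1]
      exact Submodule.zero_mem _
    | add x y _ _ hx hy =>
      have h1 : (x + y).map (algebraMap F (AlgebraicClosure F)) =
          x.map (algebraMap F (AlgebraicClosure F)) + y.map (algebraMap F (AlgebraicClosure F)) := by
        ext a b
        simp
      rw [h1]
      exact Submodule.add_mem _ hx hy
    | smul c x _ hx =>
      have h1 : (c • x).map (algebraMap F (AlgebraicClosure F)) =
          algebraMap F (AlgebraicClosure F) c • x.map (algebraMap F (AlgebraicClosure F)) := by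
        ext a b
        simp
      rw [h1]
      exact Submodule.smul_mem _ _ hx
  rw [eq_top_iff]
  rintro X -
  rw [Matrix.matrix_eq_sum_single X]
  refine Submodule.sum_mem _ fun i _ => Submodule.sum_mem _ fun k _ => ?_
  have h1 : Matrix.single i k (X i k) = X i k • (Matrix.single i k (1 : F)).map (algebraMap F (AlgebraicClosure F)) := by
    ext a b
    simp [Matrix.single, Matrix.map_apply, apply_ite (algebraMap F (AlgebraicClosure F))]
  rw [h1]
  exact Submodule.smul_mem _ _ (key _)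

end

section Fix

variable {E : Type*} [Field E] [Fintype E] {q : ℕ} {K : Type*} [Field K] {κ : Type} [Fintype κ] [DecidableEq κ]
variable {j : E →+* K} {M : SU 3 E q →* Matrix κ κ K} {e : Fin 3 → E}
variable (hF : Fintype.card E = q ^ 2) (he : hermForm 3 E q e e = 0) (he0 : e ≠ 0)
  (hM : Submodule.span K (Set.range M) = ⊤)
variable (p : ℕ) [Fact p.Prime] [CharP E p] [CharP K p] [IsAlgClosed K]

include hF he he0 hM p in
/-- if the representation is fixed by `x ↦ x ^ r` then so is the weight -/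
theorem exp_fixed (hn : Fintype.card κ < q ^ 3) {a : ℕ} (ha : a ≠ 0) {φ v : κ → K} (hφ : IsWt j M e a φ) (hv0 : v ≠ 0)
    (hv : v ∈ fixSub M (Stab q e))
    (hc : ∀ g : SU 3 E q, φ ⬝ᵥ (M g⁻¹ *ᵥ v) = j (hermForm 3 E q (act g e) e) ^ a)
    (σ : K ≃+* K) {r : ℕ} (hr : r ≠ 0) (hσ : ∀ x, σ x = x ^ r) (hfix : ∀ g, (M g).map σ = M g) (t : E) :
    t ^ (a * r) = t ^ a := by
  have h1 : (σ ∘ v : κ → K) ∈ fixSub M (Stab q e) := by
    intro u hu
    have h2 := comp_mulVec σ (M u) v
    rw [hfix, hv u hu] at h2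
    exact h2.symm
  have h2 : (σ ∘ φ : κ → K) ∈ fixSub (contra M) (Stab q e) := by
    intro u hu
    have h3 := comp_mulVec σ (contra M u) φ
    have h4 : (contra M u).map σ = contra M u := by
      rw [contra_apply, Matrix.transpose_map, hfix]
    rw [h4, hφ.fix u hu] at h3
    exact h3.symm
  obtain ⟨k, hk⟩ := fix_unique (j := j) hF he he0 hM p hn hv h1 hv0
  obtain ⟨k', hk'⟩ := fix_unique' (j := j) hF he he0 hM p hn hφ.fix h2 hφ.1
  have key : ∀ g : SU 3 E q, (j (hermForm 3 E q (act g e) e) ^ a) ^ r =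
      (k' * k) * j (hermForm 3 E q (act g e) e) ^ a := by
    intro g
    rw [← hσ, ← hc g]
    have h3 := map_coef σ φ v (M g⁻¹)
    change (σ ∘ φ) ⬝ᵥ ((M g⁻¹).map σ *ᵥ (σ ∘ v)) = σ (φ ⬝ᵥ (M g⁻¹ *ᵥ v)) at h3
    rw [← h3, hfix, hk, hk', smul_dotProduct, Matrix.mulVec_smul, dotProduct_smul, smul_eq_mul, smul_eq_mul]
    ring
  obtain ⟨e₂, e₃, hfr⟩ := exists_fr hF he he0
  have hex : ∀ s : E, s ≠ 0 → ∃ g : SU 3 E q, hermForm 3 E q (act g e) e = s := by
    intro s hs
    have he3 : e₃ ≠ 0 := by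
      rintro rfl
      have := hfr.h13
      rw [herm_zero_right hF] at this
      exact zero_ne_one this
    obtain ⟨g, hg⟩ := exists_act hF he he0 (v := s • e₃) (by
      rw [herm_smul_left, herm_smul_right, hfr.h33, mul_zero, mul_zero]) (smul_ne_zero hs he3)
    exact ⟨g, by rw [hg, herm_smul_left, hfr.h31 hF, mul_one]⟩
  have hkk : k' * k = 1 := by
    obtain ⟨g, hg⟩ := hex 1 one_ne_zero
    have := key g
    rw [hg, map_one, one_pow, one_pow, mul_one] at this
    exact this.symm
  by_cases ht : t = 0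
  · subst ht
    rw [zero_pow ha, zero_pow (Nat.mul_ne_zero ha hr)]
  · obtain ⟨g, hg⟩ := hex t ht
    have h3 := key g
    rw [hg, hkk, one_mul, ← pow_mul, ← map_pow, ← map_pow] at h3
    exact j.injective h3

end Fix

/-- `x ^ (p ^ n) = x` on a field with `p ^ m` elements -/
theorem dvd_of_pow_eq {F : Type*} [Field F] [Fintype F] {p m n : ℕ} (hp : 2 ≤ p) (hF : Fintype.card F = p ^ m)
    (h : ∀ x : F, x ^ p ^ n = x) : m ∣ n := by
  classical
  obtain ⟨t, ht⟩ := IsCyclic.exists_generator (α := Fˣ)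
  have h1 : orderOf t = p ^ m - 1 := by
    rw [orderOf_eq_card_of_forall_mem_zpowers ht, Nat.card_eq_fintype_card, Fintype.card_units, hF]
  have hpn : 1 ≤ p ^ n := Nat.one_le_pow _ _ (by omega)
  have h2 : t ^ (p ^ n - 1) = 1 := by
    apply Units.ext
    rw [Units.val_pow_eq_pow_val, Units.val_one]
    have h3 := h (t : F)
    have h4 : (t : F) ^ (p ^ n - 1) * t = 1 * t := by
      rw [← pow_succ, Nat.sub_add_cancel hpn, h3, one_mul]
    exact mul_right_cancel₀ t.ne_zero h4
  have h3 := orderOf_dvd_of_pow_eq_one h2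
  rw [h1] at h3
  have h4 := Nat.pow_sub_one_mod_pow_sub_one p m n
  rw [Nat.mod_eq_zero_of_dvd h3] at h4
  have h5 : n % m = 0 := by
    by_contra h6
    have h7 : 1 < p ^ (n % m) := Nat.one_lt_pow h6 hp
    omega
  exact Nat.dvd_of_mod_eq_zero h5

/-- an exponent fixed by a small Frobenius is large -/
theorem le_of_fixed {E : Type*} [Field E] [Fintype E] {q p f m b : ℕ} (hp : 2 ≤ p) (hq2 : 2 ≤ q)
    (hF : Fintype.card E = q ^ 2) (hq : q = p ^ f) (hm : m ≠ 0) (hmf : m ≤ f) (hb : b ≠ 0)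
    (h : ∀ t : E, t ^ (b * p ^ m) = t ^ b) : q + 1 ≤ b := by
  classical
  obtain ⟨t, ht⟩ := IsCyclic.exists_generator (α := Eˣ)
  have h1 : orderOf t = q ^ 2 - 1 := by
    rw [orderOf_eq_card_of_forall_mem_zpowers ht, Nat.card_eq_fintype_card, Fintype.card_units, hF]
  have hpm : 1 < p ^ m := Nat.one_lt_pow hm hp
  have h2 : t ^ (b * (p ^ m - 1)) = 1 := by
    apply Units.ext
    rw [Units.val_pow_eq_pow_val, Units.val_one]
    have h3 := h (t : E)
    have h5 : b * p ^ m = b * (p ^ m - 1) + b := by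
      rw [Nat.mul_sub, mul_one, Nat.sub_add_cancel (Nat.le_mul_of_pos_right _ (by omega))]
    rw [h5, pow_add] at h3
    exact mul_right_cancel₀ (pow_ne_zero b t.ne_zero) (h3.trans (one_mul _).symm)
  have h3 := orderOf_dvd_of_pow_eq_one h2
  rw [h1] at h3
  have h4 := Nat.le_of_dvd (Nat.mul_pos (by omega) (by omega)) h3
  have h5 : p ^ m ≤ q := by rw [hq]; exact Nat.pow_le_pow_right (by omega) hmf
  have h6 : q ^ 2 - 1 = (q + 1) * (q - 1) := by
    obtain ⟨r, rfl⟩ : ∃ r, q = r + 1 := ⟨q - 1, by omega⟩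
    rw [Nat.add_sub_cancel]
    have : (r + 1) ^ 2 = (r + 1 + 1) * r + 1 := by ring
    rw [this, Nat.add_sub_cancel]
  rw [h6] at h4
  have h7 : b * (p ^ m - 1) ≤ b * (q - 1) := Nat.mul_le_mul_left _ (by omega)
  exact Nat.le_of_mul_le_mul_right (h4.trans h7) (by omega)

section Main

variable {F : Type u} [Field F] [Finite F] {ι : Type} [Fintype ι] [DecidableEq ι] {P : Subgroup (GL ι F)}
  (p : ℕ) [hp : Fact p.Prime] [hFp : CharP F p] {E : Type} [Field E] [Fintype E] [hEp : CharP E p]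

include p hp hFp hEp in
/-- `Cj P q` for cores of type `PSU(N, q)` in their own characteristic -/
theorem core_psu_cj {N q : ℕ} (hC : Core P) (hN : 3 ≤ N) (hE : Fintype.card E = q ^ 2) (h32 : ¬ (N = 3 ∧ q = 2))
    (e : Soc P ≃* PSU N E q) : Cj P q := by
  have hne := hC.nonempty
  intro g hg
  exact (psu_both p hC.absIrred hC.perfect hN hE h32 e hg).2.symm

include p hp hFp hEp in
/-- **cores of type `PSU(3, q)` in their own characteristic** -/
theorem core_psu3 {q : ℕ} (hC : Core P) (hq3 : 3 ≤ q) (hE : Fintype.card E = q ^ 2) (e : Soc P ≃* PSU 3 E q)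
    (hn : Fintype.card ι ≤ 12) :
    SD P ∨ (Nat.card F = q ^ 2 ∧ (Fintype.card ι = 3 ∨ (Fintype.card ι = 6 ∧ p ≠ 2) ∨
      (Fintype.card ι = 9 ∧ ∃ f, 2 ≤ f ∧ q = p ^ f) ∨ (Fintype.card ι = 10 ∧ 5 ≤ p))) := by
  classical
  have hne := hC.nonempty
  have hp2 := hp.out.two_le
  have : Fintype F := Fintype.ofFinite F
  obtain ⟨f, hq⟩ : ∃ f, q = p ^ f := by
    obtain ⟨m, -, hm⟩ := FiniteField.card E p
    rw [hE] at hm
    exact (Nat.dvd_prime_pow hp.out).1 (hm ▸ Dvd.intro_left q (by ring) : q ∣ p ^ (m : ℕ)) |>.imp fun k hk => hk.2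
  have hcj := core_psu_cj p hC le_rfl hE (by omega) e
  obtain ⟨φ₀, h1, -, -⟩ := psu_cover p hC.perfect le_rfl hE (by omega) e
  have hchar : CharP (AlgebraicClosure F) p := charP_of_injective_algebraMap (algebraMap F _).injective p
  obtain ⟨j⟩ := exists_embed E (AlgebraicClosure F) p
  have hM := span_acRep h1 (H920.span_eq_top hC.absIrred)
  have hn3 : Fintype.card ι < q ^ 3 := by
    have : 3 ^ 3 ≤ q ^ 3 := Nat.pow_le_pow_left hq3 3
    omega
  obtain ⟨e₀, he, he0⟩ : ∃ e : Fin 3 → E, hermForm 3 E q e e = 0 ∧ e ≠ 0 := by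
    obtain ⟨t, ht⟩ := exists_norm_eq hE (c := (-1 : E)) (by rw [neg_pow_q hE, one_pow])
    refine ⟨![1, t, 0], ?_, fun h0 => by simpa using congrFun h0 0⟩
    rw [herm_def, Fin.sum_univ_three]
    simp [zero_pow_q hE, ht]
  obtain ⟨a, ha1, ha2, ψ, v, hψ, hv0, hv, hc⟩ := exists_model (j := j) hE he he0 hM p hn3 hC.two_le
  obtain ⟨Φ, V, hK⟩ := exists_ker hE he he0 hM hψ hv0 hv hc
  obtain ⟨b, ⟨r, hrot⟩, hgood⟩ := hK.classify hE hq hq3 (by omega) ha2 hn
  -- the self-dual case
  by_cases hb : b = 1 + p ^ f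
  · left
    have hfix : ∀ x : E, (x ^ a) ^ q = x ^ a := by
      intro x
      have h2 : (x ^ p ^ r) ^ (q ^ 2) = x ^ p ^ r := by rw [← hE, FiniteField.pow_card]
      rw [hrot, pow_mul, hb, ← hq, ← pow_mul, add_mul, one_mul, ← pow_two, pow_add, h2, pow_add, pow_one, mul_comm]
    obtain ⟨σ, hσ⟩ := exists_frob F p f
    have hfr : H915.LD.Fr P q := by
      intro g hg
      rw [← h1] at hg
      obtain ⟨y, rfl⟩ := hg
      have h2 := trace_fixed_of_coef hM σ hψ.1 hv0 (one_ne_zero) (fun g => by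
        have h3 := hc g⁻¹
        rw [inv_inv] at h3
        rw [h3, hσ, ← hq, one_mul, ← map_pow, ← map_pow, hfix]) y
      rw [hσ, ← hq, trace_acRep, ← map_pow] at h2
      exact (algebraMap F (AlgebraicClosure F)).injective h2
    exact SD.of_fr_cj hfr hcj
  right
  constructor
  · obtain ⟨m, -, hm⟩ := FiniteField.card F p
    have hm0 : (m : ℕ) ≠ 0 := m.ne_zero
    have h2f : H915.LD.Fr P (p ^ (2 * f)) := by
      rw [two_mul, pow_add, ← hq]
      exact hcj.fr
    have hdvd : (m : ℕ) ∣ 2 * f := dvd_of_pow_eq hp2 hm (hC.pow_eq p h2f)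
    rw [Nat.card_eq_fintype_card, hm, hq, ← pow_mul]
    congr 1
    by_contra hne2
    have hf0 : f ≠ 0 := by
      rintro rfl
      rw [pow_zero] at hq
      omega
    have hmf : (m : ℕ) ≤ f := by
      obtain ⟨k, hk⟩ := hdvd
      have hk2 : 2 ≤ k := by
        by_contra hcon
        have : k = 0 ∨ k = 1 := by omega
        rcases this with rfl | rfl
        · omega
        · rw [mul_one] at hk
          exact hne2 (by omega)
      have : (m : ℕ) * 2 ≤ m * k := Nat.mul_le_mul_left _ hk2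
      omega
    obtain ⟨σ, hσ⟩ := exists_frob F p m
    have hfix : ∀ g, (acRep φ₀ g).map σ = acRep φ₀ g := by
      intro g
      ext x y
      rw [acRep_apply, Matrix.map_apply, Matrix.map_apply, hσ, ← map_pow, ← hm, FiniteField.pow_card]
    have hfa := exp_fixed hE he he0 hM p hn3 (by omega) hψ hv0 hv hc σ (pow_ne_zero _ hp.out.ne_zero) hσ hfix
    have hfb : ∀ t : E, t ^ (b * p ^ (m : ℕ)) = t ^ b := by
      intro t
      apply iterateFrobenius_inj E p r
      rw [iterateFrobenius_def, iterateFrobenius_def]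
      have h3 := hfa t
      rw [pow_mul, hrot] at h3
      rw [← pow_mul, ← pow_mul, mul_comm b (p ^ r), ← h3, ← pow_mul]
      congr 1
      ring
    have hp1 : 1 ≤ p ^ f := Nat.one_le_pow _ _ hp.out.pos
    have hb0 : b ≠ 0 := by
      rcases hgood with h | h | h | ⟨i, h⟩ | h
      · omega
      · omega
      · omega
      · have := h.2.2.1
        omega
      · omega
    have hle := le_of_fixed hp2 (by omega) hE hq hm0 hmf hb0 hfb
    rcases hgood with h | h | h | ⟨i, hi, hif, h, -⟩ | h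
    · omega
    · omega
    · have : p ^ 1 ≤ p ^ f := Nat.pow_le_pow_right hp.out.pos (by omega)
      rw [pow_one] at this
      omega
    · have : p ^ i < p ^ f := Nat.pow_lt_pow_right hp.out.one_lt hif
      omega
    · exact hb h
  · rcases hgood with h | h | h | ⟨i, hi, hif, h, h9⟩ | h
    · exact Or.inl h.2
    · exact Or.inr (Or.inl ⟨h.2.2, h.2.1⟩)
    · exact Or.inr (Or.inr (Or.inr ⟨h.2.2, h.2.1⟩))
    · exact Or.inr (Or.inr (Or.inl ⟨h9, f, by omega, hq⟩))
    · exact absurd h hb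

end Main

end Cfsg.Agent.H929.U3
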