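import Cfsg.Agent.H929.UThreeMod

/-!
# The rank of a power of the Hermitian form on isotropic vectors: tools (helper929)

* `Ker` : vectors `Φ u`, `V w` of `K^κ` with `Φ u ⬝ᵥ V w = j (h (u, w)) ^ a`;
* `Ker.le` : upper bound; `pivot` : lower bound from monomials on the Hermitian curve.
-/

set_option autoImplicit false
set_option linter.unusedSectionVars false

namespace Cfsg.Agent.H929.U3

open Cfsg Cfsg.Agent.LieClassical.HermSiegel Cfsg.Agent.LieClassical.HermBasic Matrix Cfsg.Agent.H906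

variable {E : Type*} [Field E] [Fintype E] {q : ℕ} {K : Type*} [Field K] {κ : Type} [Fintype κ] [DecidableEq κ]

/-- nonzero isotropic vectors -/
abbrev Iso (q : ℕ) (E : Type*) [Field E] := {u : Fin 3 → E // hermForm 3 E q u u = 0 ∧ u ≠ 0}

/-- the kernel `h ^ a` is realised in `K^κ` -/
structure Ker (q : ℕ) (j : E →+* K) (a : ℕ) (Φ V : Iso q E → κ → K) : Prop where
  coef : ∀ u w : Iso q E, Φ u ⬝ᵥ V w = j (hermForm 3 E q u.1 w.1) ^ a
  spanL : Submodule.span K (Set.range Φ) = ⊤
  spanR : Submodule.span K (Set.range V) = ⊤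

/-- change of the field embedding and the exponent -/
theorem Ker.congr {j j' : E →+* K} {a b : ℕ} {Φ V : Iso q E → κ → K} (h : Ker q j a Φ V)
    (hab : ∀ x, j' x ^ b = j x ^ a) : Ker q j' b Φ V :=
  ⟨fun u w => by rw [h.coef, hab], h.spanL, h.spanR⟩

/-- orbit vectors span -/
theorem span_orbit {G : Type*} [Group G] (ρ : G →* Matrix κ κ K) (hρ : Submodule.span K (Set.range ρ) = ⊤)
    {v : κ → K} (hv : v ≠ 0) : Submodule.span K (Set.range fun g => ρ g *ᵥ v) = ⊤ := by
  classical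
  obtain ⟨i, hi⟩ : ∃ i, v i ≠ 0 := by
    by_contra hcon
    push Not at hcon
    exact hv (funext hcon)
  rw [eq_top_iff]
  rintro x -
  have h1 : ∀ X : Matrix κ κ K, X *ᵥ v ∈ Submodule.span K (Set.range fun g => ρ g *ᵥ v) := by
    intro X
    have hX : X ∈ Submodule.span K (Set.range ρ) := by rw [hρ]; trivial
    induction hX using Submodule.span_induction with
    | mem x hx =>
      obtain ⟨g, rfl⟩ := hx
      exact Submodule.subset_span ⟨g, rfl⟩
    | zero => rw [Matrix.zero_mulVec]; exact Submodule.zero_mem _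
    | add x y _ _ hx hy => rw [Matrix.add_mulVec]; exact Submodule.add_mem _ hx hy
    | smul c x _ hx => rw [Matrix.smul_mulVec]; exact Submodule.smul_mem _ _ hx
  have h2 : x = (Matrix.of fun a b => if b = i then x a * (v i)⁻¹ else 0) *ᵥ v := by
    funext a
    simp only [Matrix.mulVec, dotProduct, Matrix.of_apply, ite_mul, zero_mul]
    rw [Finset.sum_ite_eq' Finset.univ i, if_pos (Finset.mem_univ _), mul_assoc, inv_mul_cancel₀ hi, mul_one]
  rw [h2]
  exact h1 _

section

variable {j : E →+* K} {M : SU 3 E q →* Matrix κ κ K} {e : Fin 3 → E}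

theorem exists_ker (hF : Fintype.card E = q ^ 2) (he : hermForm 3 E q e e = 0) (he0 : e ≠ 0)
    (hM : Submodule.span K (Set.range M) = ⊤) {a : ℕ} {φ v : κ → K} (hφ : IsWt j M e a φ) (hv0 : v ≠ 0)
    (hv : v ∈ fixSub M (Stab q e))
    (hc : ∀ g : SU 3 E q, φ ⬝ᵥ (M g⁻¹ *ᵥ v) = j (hermForm 3 E q (act g e) e) ^ a) :
    ∃ Φ V : Iso q E → κ → K, Ker q j a Φ V := by
  have hg : ∀ u : Iso q E, ∃ g : SU 3 E q, act g e = u.1 := fun u => exists_act hF he he0 u.2.1 u.2.2
  choose g hg using hg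
  have hiso : ∀ k : SU 3 E q, hermForm 3 E q (act k e) (act k e) = 0 ∧ act k e ≠ 0 := fun k =>
    ⟨by rw [herm_act, he], by rw [Ne, act_eq_zero]; exact he0⟩
  refine ⟨fun u => contra M (g u) *ᵥ φ, fun w => M (g w) *ᵥ v, ?_, ?_, ?_⟩
  · intro u w
    have h1 : (contra M (g u) *ᵥ φ) ⬝ᵥ (M (g w) *ᵥ v) = φ ⬝ᵥ (M ((g w)⁻¹ * g u)⁻¹ *ᵥ v) := by
      rw [dot_contra, _root_.mul_inv_rev, inv_inv, map_mul, Matrix.mulVec_mulVec]
    rw [h1, hc, act_mul, hg, ← herm_act (g w), act_act_inv, hg]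
  · rw [← span_orbit (contra M) (span_contra hM) hφ.1]
    congr 1
    ext x
    constructor
    · rintro ⟨u, rfl⟩
      exact ⟨_, rfl⟩
    · rintro ⟨k, rfl⟩
      refine ⟨⟨act k e, hiso k⟩, ?_⟩
      have h2 : (g ⟨act k e, hiso k⟩)⁻¹ * k ∈ Stab q e := by
        have h9 := act_inv_act (g ⟨act k e, hiso k⟩) e
        rw [hg] at h9
        rw [mem_Stab, act_mul]
        exact h9
      have h3 : k = g ⟨act k e, hiso k⟩ * ((g ⟨act k e, hiso k⟩)⁻¹ * k) := by group
      change contra M (g ⟨act k e, hiso k⟩) *ᵥ φ = contra M k *ᵥ φ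
      conv_rhs => rw [h3, rho_mul, hφ.fix _ h2]
  · rw [← span_orbit M hM hv0]
    congr 1
    ext x
    constructor
    · rintro ⟨u, rfl⟩
      exact ⟨_, rfl⟩
    · rintro ⟨k, rfl⟩
      refine ⟨⟨act k e, hiso k⟩, ?_⟩
      have h2 : (g ⟨act k e, hiso k⟩)⁻¹ * k ∈ Stab q e := by
        have h9 := act_inv_act (g ⟨act k e, hiso k⟩) e
        rw [hg] at h9
        rw [mem_Stab, act_mul]
        exact h9
      have h3 : k = g ⟨act k e, hiso k⟩ * ((g ⟨act k e, hiso k⟩)⁻¹ * k) := by group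
      change M (g ⟨act k e, hiso k⟩) *ᵥ v = M k *ᵥ v
      conv_rhs => rw [h3, rho_mul, hv _ h2]

end

section Ker

variable {j : E →+* K} {a : ℕ} {Φ V : Iso q E → κ → K}

/-- **upper bound** -/
theorem Ker.le (h : Ker q j a Φ V) {S : Type*} [Fintype S] (f g : S → Iso q E → K)
    (hfg : ∀ u w : Iso q E, j (hermForm 3 E q u.1 w.1) ^ a = ∑ s, f s u * g s w) :
    Fintype.card κ ≤ Fintype.card S := by
  classical
  let T : (κ → K) →ₗ[K] (Iso q E → K) :=
    { toFun := fun x u => Φ u ⬝ᵥ x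
      map_add' := fun x y => by funext u; simp [dotProduct_add]
      map_smul' := fun c x => by funext u; simp [dotProduct_smul] }
  have hT : ∀ x u, T x u = Φ u ⬝ᵥ x := fun _ _ => rfl
  have hinj : LinearMap.ker T = ⊥ := by
    rw [Submodule.eq_bot_iff]
    intro x hx
    rw [LinearMap.mem_ker] at hx
    have h1 : ∀ y : κ → K, y ⬝ᵥ x = 0 := by
      intro y
      have hy : y ∈ Submodule.span K (Set.range Φ) := by rw [h.spanL]; trivial
      induction hy using Submodule.span_induction with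
      | mem y hy =>
        obtain ⟨u, rfl⟩ := hy
        have := congrFun hx u
        rwa [hT] at this
      | zero => rw [zero_dotProduct]
      | add y z _ _ hy hz => rw [add_dotProduct, hy, hz, add_zero]
      | smul c y _ hy => rw [smul_dotProduct, hy, smul_zero]
    funext i
    have := h1 (Pi.single i 1)
    rwa [single_one_dotProduct] at this
  have hrange : LinearMap.range T ≤ Submodule.span K (Set.range f) := by
    rw [LinearMap.range_eq_map, ← h.spanR, Submodule.map_span, Submodule.span_le]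
    rintro _ ⟨_, ⟨w, rfl⟩, rfl⟩
    have h1 : T (V w) = ∑ s, g s w • f s := by
      funext u
      rw [hT, h.coef, hfg, Finset.sum_apply]
      exact Finset.sum_congr rfl fun s _ => by rw [Pi.smul_apply, smul_eq_mul, mul_comm]
    rw [SetLike.mem_coe, h1]
    exact Submodule.sum_mem _ fun s _ => Submodule.smul_mem _ _ (Submodule.subset_span ⟨s, rfl⟩)
  have h2 := LinearMap.finrank_range_of_inj (LinearMap.ker_eq_bot.1 hinj)
  rw [Module.finrank_fintype_fun_eq_card] at h2
  rw [← h2]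
  exact (Submodule.finrank_mono hrange).trans (finrank_range_le_card f)

/-- **lower bound** by vectors with nonsingular pairing matrix -/
theorem card_le_of_pairing {S : Type*} [Fintype S] (A B : S → κ → K)
    (hAB : ∀ x : S → K, (∀ s, ∑ t, (A s ⬝ᵥ B t) * x t = 0) → x = 0) : Fintype.card S ≤ Fintype.card κ := by
  classical
  have hli : LinearIndependent K B := by
    rw [Fintype.linearIndependent_iff]
    intro x hx
    have := hAB x (fun s => by
      have h1 := congrArg (fun y => A s ⬝ᵥ y) hx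
      simp only [dotProduct_sum, dotProduct_smul, dotProduct_zero, smul_eq_mul] at h1
      rw [← h1]
      exact Finset.sum_congr rfl fun t _ => mul_comm _ _)
    exact fun i => congrFun this i
  have h2 := hli.fintype_card_le_finrank
  rwa [Module.finrank_fintype_fun_eq_card] at h2

end Ker

/-! ### Monomials on the Hermitian curve -/

/-- the monomial `x ^ i * (x ^ q) ^ k * y ^ l` -/
def mono (j : E →+* K) (μ : ℕ × ℕ × ℕ) (z : HP q E) : K := j z.1.1 ^ μ.1 * (j z.1.1 ^ q) ^ μ.2.1 * j z.1.2 ^ μ.2.2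

/-- all exponents less than `q` -/
def Small (q : ℕ) (μ : ℕ × ℕ × ℕ) : Prop := μ.1 < q ∧ μ.2.1 < q ∧ μ.2.2 < q

theorem exists_root (hF : Fintype.card E = q ^ 2) (x : E) : ∃ y : E, y + y ^ q + x * x ^ q = 0 := by
  obtain ⟨y, hy⟩ := exists_trace_eq hF (neg_norm_fixed hF x)
  exact ⟨y, by rw [hy, neg_add_cancel]⟩

theorem mono_li (hF : Fintype.card E = q ^ 2) (j : E →+* K) :
    LinearIndependent K fun μ : Fin q × Fin q × Fin q => (mono j (μ.1.1, μ.2.1.1, μ.2.2.1) : HP q E → K) := by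
  classical
  have hq := two_le hF
  rw [Fintype.linearIndependent_iff]
  intro f hf
  -- fixed `x`
  have h1 : ∀ (x : E) (l : Fin q), ∑ i : Fin q, ∑ k : Fin q, f (i, k, l) * (j x ^ (i : ℕ) * (j x ^ q) ^ (k : ℕ)) = 0 := by
    intro x
    let P : Polynomial K := ∑ l : Fin q, Polynomial.monomial (l : ℕ)
      (∑ i : Fin q, ∑ k : Fin q, f (i, k, l) * (j x ^ (i : ℕ) * (j x ^ q) ^ (k : ℕ)))
    have hP : P = 0 := by
      have hfib : Fintype.card {y : E // y + y ^ q = -(x * x ^ q)} = q := by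
        rw [← Nat.card_eq_fintype_card, card_fiber hF (neg_norm_fixed hF x)]
      apply Polynomial.eq_zero_of_natDegree_lt_card_of_eval_eq_zero P
        (f := fun y : {y : E // y + y ^ q = -(x * x ^ q)} => j y.1)
      · intro y y' hyy
        exact Subtype.ext (j.injective hyy)
      · intro y
        have h2 := congrFun hf ⟨(x, y.1), by rw [y.2, neg_add_cancel]⟩
        rw [Finset.sum_apply, Pi.zero_apply, Fintype.sum_prod_type] at h2
        simp only [Pi.smul_apply, smul_eq_mul, mono, Fintype.sum_prod_type] at h2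
        rw [← h2]
        simp only [P, Polynomial.eval_finsetSum, Polynomial.eval_monomial, Finset.sum_mul]
        rw [Finset.sum_comm]
        refine Finset.sum_congr rfl fun i _ => ?_
        rw [Finset.sum_comm]
        refine Finset.sum_congr rfl fun k _ => Finset.sum_congr rfl fun l _ => ?_
        ring
      · rw [hfib]
        refine lt_of_le_of_lt (Polynomial.natDegree_sum_le_of_forall_le (n := q - 1) _ _ fun l _ => ?_) (by omega)
        refine (Polynomial.natDegree_monomial_le _).trans ?_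
        have := l.2
        omega
    intro l
    have h2 := congrArg (fun Q => Polynomial.coeff Q (l : ℕ)) hP
    simp only [P, Polynomial.finsetSum_coeff, Polynomial.coeff_monomial, Polynomial.coeff_zero] at h2
    rw [Finset.sum_eq_single l] at h2
    · rwa [if_pos rfl] at h2
    · intro b _ hb
      exact if_neg fun h => hb (Fin.ext h)
    · intro h
      exact absurd (Finset.mem_univ l) h
  rintro ⟨i, k, l⟩
  let P : Polynomial K := ∑ i : Fin q, ∑ k : Fin q, Polynomial.monomial ((i : ℕ) + q * (k : ℕ)) (f (i, k, l))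
  have hP : P = 0 := by
    apply Polynomial.eq_zero_of_natDegree_lt_card_of_eval_eq_zero P (f := j) j.injective
    · intro x
      rw [← h1 x l]
      simp only [P, Polynomial.eval_finsetSum, Polynomial.eval_monomial]
      refine Finset.sum_congr rfl fun i _ => Finset.sum_congr rfl fun k _ => ?_
      rw [pow_add, pow_mul]
    · rw [hF]
      refine lt_of_le_of_lt (Polynomial.natDegree_sum_le_of_forall_le (n := q ^ 2 - 1) _ _ fun i _ =>
        Polynomial.natDegree_sum_le_of_forall_le (n := q ^ 2 - 1) _ _ fun k _ => ?_) (by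
          have : 0 < q ^ 2 := by positivity
          omega)
      refine (Polynomial.natDegree_monomial_le _).trans ?_
      have h3 := i.2
      have h4 := k.2
      have h5 : q * (k : ℕ) ≤ q * (q - 1) := Nat.mul_le_mul_left _ (by omega)
      have h6 : q * (q - 1) + q = q ^ 2 := by
        rw [Nat.mul_sub, mul_one, pow_two, Nat.sub_add_cancel (Nat.le_mul_self q)]
      omega
  have h2 := congrArg (fun Q => Polynomial.coeff Q ((i : ℕ) + q * (k : ℕ))) hP
  simp only [P, Polynomial.finsetSum_coeff, Polynomial.coeff_monomial, Polynomial.coeff_zero] at h2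
  rw [Finset.sum_eq_single i, Finset.sum_eq_single k] at h2
  · rwa [if_pos rfl] at h2
  · intro b _ hb
    refine if_neg fun h => hb (Fin.ext ?_)
    have : q * (b : ℕ) = q * (k : ℕ) := by omega
    exact Nat.eq_of_mul_eq_mul_left (by omega) this
  · intro h
    exact absurd (Finset.mem_univ _) h
  · intro b _ hb
    refine Finset.sum_eq_zero fun c _ => if_neg fun h => hb (Fin.ext ?_)
    have h3 := congrArg (fun t => t % q) h
    simp only [Nat.add_mul_mod_self_left] at h3
    rwa [Nat.mod_eq_of_lt b.2, Nat.mod_eq_of_lt i.2] at h3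
  · intro h
    exact absurd (Finset.mem_univ _) h

/-- dual functionals of the monomials -/
theorem exists_dual [Fintype (HP q E)] (hF : Fintype.card E = q ^ 2) (j : E →+* K) :
    ∃ L : ℕ × ℕ × ℕ → HP q E → K, ∀ μ ν : ℕ × ℕ × ℕ, Small q μ → Small q ν →
      ∑ z, L μ z * mono j ν z = if μ = ν then 1 else 0 := by
  classical
  have hli := mono_li hF j
  let ex : ∀ μ : ℕ × ℕ × ℕ, Small q μ → Fin q × Fin q × Fin q := fun μ h => (⟨μ.1, h.1⟩, ⟨μ.2.1, h.2.1⟩, ⟨μ.2.2, h.2.2⟩)
  obtain ⟨b, hb⟩ : ∃ b : Module.Basis (Fin q × Fin q × Fin q) K (HP q E → K),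
      ⇑b = fun μ : Fin q × Fin q × Fin q => (mono j (μ.1.1, μ.2.1.1, μ.2.2.1) : HP q E → K) := by
    have hc : Fintype.card (Fin q × Fin q × Fin q) = Module.finrank K (HP q E → K) := by
      rw [Module.finrank_fintype_fun_eq_card, ← Nat.card_eq_fintype_card (α := HP q E), card_HP hF, Fintype.card_prod,
        Fintype.card_prod, Fintype.card_fin]
      ring
    have hne : Nonempty (Fin q × Fin q × Fin q) := by
      have hq := two_le hF
      exact ⟨(⟨0, by omega⟩, ⟨0, by omega⟩, ⟨0, by omega⟩)⟩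
    exact ⟨basisOfLinearIndependentOfCardEqFinrank hli hc, coe_basisOfLinearIndependentOfCardEqFinrank hli hc⟩
  refine ⟨fun μ z => if h : Small q μ then b.coord (ex μ h) (Pi.single z 1) else 0, fun μ ν hμ hν => ?_⟩
  have h1 : (mono j ν : HP q E → K) = b (ex ν hν) := by rw [hb]
  simp only [dif_pos hμ]
  have h2 : ∑ z, b.coord (ex μ hμ) (Pi.single z 1) * mono j ν z = b.coord (ex μ hμ) (mono j ν) := by
    rw [LinearMap.pi_apply_eq_sum_univ (b.coord (ex μ hμ)) (mono j ν)]
    refine Finset.sum_congr rfl fun z _ => ?_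
    rw [smul_eq_mul, mul_comm]
    congr 2
    funext y
    simp [Pi.single_apply, eq_comm]
  rw [h2, h1, Module.Basis.coord_apply, Module.Basis.repr_self, Finsupp.single_apply]
  congr 1
  apply propext
  constructor
  · intro h
    have h3 := congrArg (fun t : Fin q × Fin q × Fin q => ((t.1 : ℕ), (t.2.1 : ℕ), (t.2.2 : ℕ))) h
    exact h3.symm
  · rintro rfl
    rfl

/-- the kernel on the Hermitian curve -/
theorem Ker.curve (hF : Fintype.card E = q ^ 2) {j : E →+* K} {a : ℕ} {Φ V : Iso q E → κ → K} (h : Ker q j a Φ V) :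
    ∃ Φ' V' : HP q E → κ → K, ∀ z w : HP q E, Φ' z ⬝ᵥ V' w = j (z.1.2 + w.1.2 + z.1.1 * w.1.1) ^ a := by
  obtain ⟨e, he, he0⟩ : ∃ e : Fin 3 → E, hermForm 3 E q e e = 0 ∧ e ≠ 0 := by
    obtain ⟨t, ht⟩ := exists_norm_eq hF (c := (-1 : E)) (by rw [neg_pow_q hF, one_pow])
    refine ⟨![1, t, 0], ?_, fun h0 => by simpa using congrFun h0 0⟩
    rw [herm_def, Fin.sum_univ_three]
    simp [zero_pow_q hF, ht]
  obtain ⟨e₂, e₃, hfr⟩ := exists_fr hF he he0
  have hcj : ∀ w : HP q E, w.1.2 ^ q + (w.1.2 ^ q) ^ q + w.1.1 ^ q * (w.1.1 ^ q) ^ q = 0 := by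
    intro w
    rw [pow_q_pow_q hF, pow_q_pow_q hF]
    linear_combination w.2
  refine ⟨fun z => Φ ⟨pt e e₂ e₃ z.1, herm_pt_self hF hfr z, pt_ne_zero hF hfr _⟩,
    fun w => V ⟨pt e e₂ e₃ (w.1.1 ^ q, w.1.2 ^ q), herm_pt_self hF hfr ⟨(w.1.1 ^ q, w.1.2 ^ q), hcj w⟩,
      pt_ne_zero hF hfr _⟩, fun z w => ?_⟩
  rw [h.coef, herm_pt hF hfr, pow_q_pow_q hF, pow_q_pow_q hF]
  congr 2
  ring

section Pivot

variable (hF : Fintype.card E = q ^ 2) {j : E →+* K} {a : ℕ} {Φ V : Iso q E → κ → K} (h : Ker q j a Φ V)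

include hF h in
/-- **pivot lemma**, general form -/
theorem Ker.pivot {τ : Type*} (T : Finset τ) (c : τ → K) (ρ ν : τ → ℕ × ℕ × ℕ)
    (hρ : ∀ t ∈ T, c t ≠ 0 → Small q (ρ t)) (hν : ∀ t ∈ T, c t ≠ 0 → Small q (ν t))
    (hT : ∀ z w : HP q E, j (z.1.2 + w.1.2 + z.1.1 * w.1.1) ^ a = ∑ t ∈ T, c t * mono j (ρ t) z * mono j (ν t) w)
    {S : Type*} [Fintype S] (R C : S → ℕ × ℕ × ℕ) (hR : ∀ s, Small q (R s)) (hC : ∀ s, Small q (C s))
    (hA : ∀ x : S → K, (∀ s, ∑ s', (∑ t ∈ T, if R s = ρ t ∧ C s' = ν t then c t else 0) * x s' = 0) → x = 0) :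
    Fintype.card S ≤ Fintype.card κ := by
  classical
  obtain ⟨L, hL⟩ := exists_dual hF j
  obtain ⟨Φ', V', h'⟩ := h.curve hF
  apply card_le_of_pairing (fun s => ∑ z, L (R s) z • Φ' z) (fun s => ∑ w, L (C s) w • V' w)
  intro x hx
  apply hA x
  intro s
  refine Eq.trans (Finset.sum_congr rfl fun s' _ => ?_) (hx s)
  congr 1
  symm
  have h1 : (∑ z, L (R s) z • Φ' z) ⬝ᵥ (∑ w, L (C s') w • V' w) =
      ∑ z, ∑ w, L (R s) z * (L (C s') w * ∑ t ∈ T, c t * mono j (ρ t) z * mono j (ν t) w) := by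
    rw [sum_dotProduct]
    refine Finset.sum_congr rfl fun z _ => ?_
    rw [dotProduct_sum]
    refine Finset.sum_congr rfl fun w _ => ?_
    rw [smul_dotProduct, dotProduct_smul, h', hT, smul_eq_mul, smul_eq_mul]
  have h2 : (∑ z, ∑ w, L (R s) z * (L (C s') w * ∑ t ∈ T, c t * mono j (ρ t) z * mono j (ν t) w)) =
      ∑ t ∈ T, c t * (∑ z, L (R s) z * mono j (ρ t) z) * (∑ w, L (C s') w * mono j (ν t) w) := by
    calc _ = ∑ z, ∑ t ∈ T, ∑ w, L (R s) z * (L (C s') w * (c t * mono j (ρ t) z * mono j (ν t) w)) := by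
          refine Finset.sum_congr rfl fun z _ => ?_
          simp only [Finset.mul_sum]
          exact Finset.sum_comm
      _ = ∑ t ∈ T, ∑ z, ∑ w, L (R s) z * (L (C s') w * (c t * mono j (ρ t) z * mono j (ν t) w)) := Finset.sum_comm
      _ = _ := by
          refine Finset.sum_congr rfl fun t _ => ?_
          rw [mul_assoc, Finset.sum_mul_sum, Finset.mul_sum]
          refine Finset.sum_congr rfl fun z _ => ?_
          rw [Finset.mul_sum]
          refine Finset.sum_congr rfl fun w _ => ?_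
          ring
  rw [h1, h2]
  refine Finset.sum_congr rfl fun t ht => ?_
  by_cases hct : c t = 0
  · simp [hct]
  rw [hL _ _ (hR s) (hρ t ht hct), hL _ _ (hC s') (hν t ht hct)]
  by_cases h3 : R s = ρ t <;> by_cases h4 : C s' = ν t <;> simp [h3, h4]

include hF h in
/-- **pivot lemma**, diagonal form -/
theorem Ker.pivot_diag {τ : Type*} [DecidableEq τ] (T : Finset τ) (c : τ → K) (ρ ν : τ → ℕ × ℕ × ℕ)
    (hρ : ∀ t ∈ T, c t ≠ 0 → Small q (ρ t)) (hν : ∀ t ∈ T, c t ≠ 0 → Small q (ν t))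
    (hT : ∀ z w : HP q E, j (z.1.2 + w.1.2 + z.1.1 * w.1.1) ^ a = ∑ t ∈ T, c t * mono j (ρ t) z * mono j (ν t) w)
    (S : Finset τ) (hST : S ⊆ T) (hS : ∀ s ∈ S, c s ≠ 0)
    (hd : ∀ s ∈ S, ∀ s' ∈ S, ∀ t ∈ T, c t ≠ 0 → ρ s = ρ t → ν s' = ν t → t = s ∧ t = s') :
    S.card ≤ Fintype.card κ := by
  classical
  have h1 := h.pivot hF T c ρ ν hρ hν hT (S := S) (fun s => ρ s.1) (fun s => ν s.1)
    (fun s => hρ _ (hST s.2) (hS _ s.2)) (fun s => hν _ (hST s.2) (hS _ s.2)) ?_
  · rwa [Fintype.card_coe] at h1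
  intro x hx
  funext s
  have h2 := hx s
  have h3 : ∀ s' : S, (∑ t ∈ T, if ρ s.1 = ρ t ∧ ν s'.1 = ν t then c t else 0) = if s' = s then c s.1 else 0 := by
    intro s'
    split_ifs with hss
    · subst hss
      rw [Finset.sum_eq_single s'.1]
      · simp
      · intro t ht hts
        by_cases hc : c t = 0
        · simp [hc]
        · exact if_neg fun h4 => hts (hd _ s'.2 _ s'.2 t ht hc h4.1 h4.2).1
      · intro h4
        exact absurd (hST s'.2) h4
    · refine Finset.sum_eq_zero fun t ht => ?_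
      by_cases hc : c t = 0
      · simp [hc]
      · refine if_neg fun h4 => hss ?_
        have h5 := hd _ s.2 _ s'.2 t ht hc h4.1 h4.2
        exact Subtype.ext (h5.2.symm.trans h5.1)
  simp only [h3, ite_mul, zero_mul] at h2
  rw [Finset.sum_ite_eq' Finset.univ s, if_pos (Finset.mem_univ _)] at h2
  exact (mul_eq_zero.1 h2).resolve_left (hS _ s.2)

end Pivot

end Cfsg.Agent.H929.U3
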