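import Cfsg.Agent.H929.UThreeModel
import Cfsg.Agent.H919.U3Gram
import Cfsg.Agent.H914.Sub

/-!
# Self-dual cores of type `PSU(3, q)`: forms (helper929)

* `SU3Data.gram` : an invariant bilinear form is `c j (h (w, u)) ^ b` on the vectors `V`;
* **`not_fixA_psu3`** : no symplectic form in odd characteristic;
* **`fixQ_psu3`** : `n = 8`, `SD P` ⟹ `FixQ P`;
* **`card_psu3_sd`** : `SD P` ⟹ `|F| = q`.
-/

set_option autoImplicit false
set_option linter.unusedSectionVars false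
set_option linter.style.haveILetI false

namespace Cfsg.Agent.H929.U3

open Cfsg Cfsg.Geo Cfsg.Agent.LieClassical.HermSiegel Cfsg.Agent.LieClassical.HermBasic Matrix Cfsg.Agent.H906
  Cfsg.Agent.H915.LD Cfsg.Agent.H905.Md Cfsg.Agent.H914

universe u

section Gram

variable {F : Type u} [Field F] {ι : Type} [Fintype ι] [DecidableEq ι] {P : Subgroup (GL ι F)}

theorem form_eq_gram {f : (ι → F) → (ι → F) → F} (hf : IsBilinearForm f) (x y : ι → F) :
    f x y = x ⬝ᵥ (gramMatrix f *ᵥ y) := (IsSesq.of_bilinear hf).eq_gram x y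

theorem gram_fix {f : (ι → F) → (ι → F) → F} (hf : IsBilinearForm f) (h : FixesForm (matrixSet P) f) {g : GL ι F}
    (hg : g ∈ P) : (g : Matrix ι ι F)ᵀ * gramMatrix f * (g : Matrix ι ι F) = gramMatrix f := by
  have h1 := fixes_gram (IsSesq.of_bilinear hf) (M := (g : Matrix ι ι F)) (fun u v => h _ ⟨g, hg, rfl⟩ u v)
  have h2 : (g : Matrix ι ι F).map (RingEquiv.refl F) = (g : Matrix ι ι F) := by
    ext a b
    rfl
  rwa [h2] at h1

/-- real traces from an invertible invariant matrix -/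
theorem sd_of_gram {J : Matrix ι ι F} (hJ : J.det ≠ 0)
    (hinv : ∀ g ∈ P, (g : Matrix ι ι F)ᵀ * J * (g : Matrix ι ι F) = J) : SD P := by
  obtain ⟨u, rfl⟩ := (Matrix.isUnit_iff_isUnit_det J).2 hJ.isUnit
  intro g hg
  have h1 := hinv g hg
  have h3 : (g : Matrix ι ι F)ᵀ = u.val * ((g⁻¹ : GL ι F) : Matrix ι ι F) * u⁻¹.val := by
    have h5 : (g : Matrix ι ι F) * ((g⁻¹ : GL ι F) : Matrix ι ι F) = 1 := by
      rw [← Units.val_mul, mul_inv_cancel, Units.val_one]
    have h4 : (g : Matrix ι ι F)ᵀ * u.val = u.val * ((g⁻¹ : GL ι F) : Matrix ι ι F) := by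
      calc (g : Matrix ι ι F)ᵀ * u.val = (g : Matrix ι ι F)ᵀ * u.val * ((g : Matrix ι ι F) *
            ((g⁻¹ : GL ι F) : Matrix ι ι F)) := by rw [h5, Matrix.mul_one]
        _ = ((g : Matrix ι ι F)ᵀ * u.val * (g : Matrix ι ι F)) * ((g⁻¹ : GL ι F) : Matrix ι ι F) := by
            simp only [Matrix.mul_assoc]
        _ = _ := by rw [h1]
    rw [← h4, Matrix.mul_assoc, ← Units.val_mul, mul_inv_cancel, Units.val_one, Matrix.mul_one]
  unfold tr
  rw [← Matrix.trace_transpose (g : Matrix ι ι F), h3, Matrix.mul_assoc, Matrix.trace_mul_comm, Matrix.mul_assoc,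
    ← Units.val_mul, inv_mul_cancel, Units.val_one, Matrix.mul_one]

end Gram

section Data

variable {F : Type u} [Field F] {ι : Type} [Fintype ι] [DecidableEq ι] {P : Subgroup (GL ι F)} {p : ℕ}
  {E : Type} [Field E] [Fintype E] {q : ℕ} {e : Soc P ≃* PSU 3 E q} (D : SU3Data P p E q e)

theorem SU3Data.inv_map (J : Matrix ι ι F) (hJ : ∀ g ∈ P, (g : Matrix ι ι F)ᵀ * J * (g : Matrix ι ι F) = J)
    (g : SU 3 E q) : (acRep D.rep g)ᵀ * J.map (algebraMap F (AlgebraicClosure F)) * acRep D.rep g =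
      J.map (algebraMap F (AlgebraicClosure F)) := by
  have h0 : D.rep g ∈ P := D.range_rep.le ⟨g, rfl⟩
  have h1 := hJ (D.rep g) h0
  rw [acRep_apply, ← Matrix.transpose_map, ← Matrix.map_mul, ← Matrix.map_mul, h1]

variable (p) [hp : Fact p.Prime] [hFp : CharP F p] [hEp : CharP E p]

include p hp hFp hEp in
/-- an invariant matrix maps `V w` to a multiple of `Φ w` -/
theorem SU3Data.gram (hE : Fintype.card E = q ^ 2) (hn : Fintype.card ι < q ^ 3)
    {J : Matrix ι ι (AlgebraicClosure F)} (hJ : ∀ g : SU 3 E q, (acRep D.rep g)ᵀ * J * acRep D.rep g = J) :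
    ∃ c : AlgebraicClosure F, ∀ w, J *ᵥ D.V w = c • D.Φ w := by
  have hchar : CharP (AlgebraicClosure F) p := charP_of_injective_algebraMap (algebraMap F _).injective p
  have key : ∀ (g : SU 3 E q) (x : ι → AlgebraicClosure F),
      contra (acRep D.rep) g *ᵥ (J *ᵥ x) = J *ᵥ (acRep D.rep g *ᵥ x) := by
    intro g x
    rw [Matrix.mulVec_mulVec, Matrix.mulVec_mulVec, contra_apply]
    congr 1
    have h2 : acRep D.rep g⁻¹ * acRep D.rep g = 1 := by rw [← map_mul, inv_mul_cancel, map_one]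
    have h3 := congrArg Matrix.transpose h2
    rw [Matrix.transpose_mul, Matrix.transpose_one] at h3
    have h4 : acRep D.rep g * acRep D.rep g⁻¹ = 1 := by rw [← map_mul, mul_inv_cancel, map_one]
    have h5 := congrArg Matrix.transpose h4
    rw [Matrix.transpose_mul, Matrix.transpose_one] at h5
    calc (acRep D.rep g⁻¹)ᵀ * J = (acRep D.rep g⁻¹)ᵀ * ((acRep D.rep g)ᵀ * J * acRep D.rep g) := by rw [hJ]
      _ = ((acRep D.rep g⁻¹)ᵀ * (acRep D.rep g)ᵀ) * J * acRep D.rep g := by simp only [Matrix.mul_assoc]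
      _ = J * acRep D.rep g := by rw [h5, Matrix.one_mul]
  have h1 : J *ᵥ D.v ∈ fixSub (contra (acRep D.rep)) (Stab q D.e₀) := by
    intro s hs
    rw [key, D.v_mem s hs]
  obtain ⟨c, hc⟩ := fix_unique' (j := D.j) hE D.iso D.ne D.span p hn D.wt.fix h1 D.wt.1
  refine ⟨c, fun w => ?_⟩
  obtain ⟨g, rfl⟩ := exists_actIso hE D.iso D.ne w
  rw [D.V_eq, D.Φ_eq, ← key, hc, Matrix.mulVec_smul]

end Data

section Main

variable {F : Type u} [Field F] [Finite F] {ι : Type} [Fintype ι] [DecidableEq ι] {P : Subgroup (GL ι F)}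
  (p : ℕ) [hp : Fact p.Prime] [hFp : CharP F p] {E : Type} [Field E] [Fintype E] [hEp : CharP E p]

include p hp hFp hEp in
/-- **No symplectic form** in odd characteristic. -/
theorem not_fixA_psu3 (hp2 : p ≠ 2) {q : ℕ} (hC : Core P) (hA : FixA P) (hq3 : 3 ≤ q) (hE : Fintype.card E = q ^ 2)
    (e : Soc P ≃* PSU 3 E q) (hn : Fintype.card ι ≤ 12) : False := by
  classical
  obtain ⟨f, hf, hfix⟩ := hA
  have hJ0 := det_gram_ne_zero (IsSesq.of_bilinear hf.bilinear) hf.nondegenerate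
  have hJ : ∀ g ∈ P, (g : Matrix ι ι F)ᵀ * gramMatrix f * (g : Matrix ι ι F) = gramMatrix f :=
    fun g hg => gram_fix hf.bilinear hfix hg
  have hsd := sd_of_gram hJ0 hJ
  obtain ⟨D⟩ := core_model p hC hq3 hE e hn
  have hb := (D.sd_iff p hC hq3 hE hn).1 hsd
  have hn3 : Fintype.card ι < q ^ 3 := by
    have : 3 ^ 3 ≤ q ^ 3 := Nat.pow_le_pow_left hq3 3
    omega
  set J := (gramMatrix f).map (algebraMap F (AlgebraicClosure F)) with hJdef
  obtain ⟨c, hc⟩ := D.gram p hE hn3 (J := J) (D.inv_map _ hJ)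
  have hJt : Jᵀ = -J := by
    ext a b
    rw [Matrix.transpose_apply, hJdef, Matrix.map_apply, Matrix.neg_apply, Matrix.map_apply, ← map_neg]
    congr 1
    exact hf.skew _ _
  obtain ⟨e₂, e₃, hfr⟩ := exists_fr hE D.iso D.ne
  have h3 : e₃ ≠ 0 := by
    rintro rfl
    have := hfr.h13
    rw [herm_zero_right hE] at this
    exact zero_ne_one this
  have h1 : D.V ⟨e₃, hfr.h33, h3⟩ ⬝ᵥ (J *ᵥ D.V ⟨D.e₀, D.iso, D.ne⟩) = c := by
    rw [hc, dotProduct_smul, dotProduct_comm, D.ker.coef, hfr.h13, map_one, one_pow, smul_eq_mul, mul_one]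
  have h2 : D.V ⟨D.e₀, D.iso, D.ne⟩ ⬝ᵥ (J *ᵥ D.V ⟨e₃, hfr.h33, h3⟩) = c := by
    rw [hc, dotProduct_smul, dotProduct_comm, D.ker.coef, hfr.h31 hE, map_one, one_pow, smul_eq_mul, mul_one]
  have h4 : D.V ⟨D.e₀, D.iso, D.ne⟩ ⬝ᵥ (J *ᵥ D.V ⟨e₃, hfr.h33, h3⟩) = -c := by
    rw [← h1, dotProduct_comm (D.V ⟨e₃, hfr.h33, h3⟩), Matrix.dotProduct_mulVec, ← Matrix.mulVec_transpose, hJt,
      Matrix.neg_mulVec, neg_dotProduct]
  have hchar : CharP (AlgebraicClosure F) p := charP_of_injective_algebraMap (algebraMap F _).injective p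
  have h2' : (2 : AlgebraicClosure F) ≠ 0 := by
    have h5 := (cast_ne_iff (K := AlgebraicClosure F) (p := p) (m := 2)).2 (fun hd =>
      hp2 ((Nat.prime_dvd_prime_iff_eq hp.out Nat.prime_two).1 hd))
    simpa using h5
  have hc0 : c = 0 := by
    have h5 : (2 : AlgebraicClosure F) * c = 0 := by
      rw [h2] at h4
      linear_combination h4
    exact (mul_eq_zero.1 h5).resolve_left h2'
  -- `J = 0`
  have h6 : ∀ x, J *ᵥ x = 0 := by
    intro x
    have hx : x ∈ Submodule.span (AlgebraicClosure F) (Set.range D.V) := by rw [D.ker.spanR]; trivial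
    induction hx using Submodule.span_induction with
    | mem x hx =>
      obtain ⟨w, rfl⟩ := hx
      rw [hc, hc0, zero_smul]
    | zero => rw [Matrix.mulVec_zero]
    | add x y _ _ hx hy => rw [Matrix.mulVec_add, hx, hy, add_zero]
    | smul c x _ hx => rw [Matrix.mulVec_smul, hx, smul_zero]
  have h7 : J.det ≠ 0 := by
    rw [hJdef, ← RingHom.mapMatrix_apply, ← RingHom.map_det]
    exact (map_ne_zero _).2 hJ0
  apply h7
  have hne := hC.nonempty
  have h8 : J = 0 := by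
    ext a b
    have := congrFun (h6 (Pi.single b 1)) a
    rwa [Matrix.mulVec_single_one, Matrix.col_apply] at this
  rw [h8, Matrix.det_zero]

include p hp hFp hEp in
/-- **`n = 8`** : a quadratic form (helper919's `fixQ_eight`) -/
theorem fixQ_psu3 {q : ℕ} (hC : Core P) (hsd : SD P) (hq3 : 3 ≤ q) (hE : Fintype.card E = q ^ 2)
    (e : Soc P ≃* PSU 3 E q) (h8 : Fintype.card ι = 8) : FixQ P := by
  obtain ⟨D⟩ := core_model p hC hq3 hE e (by omega)
  have hb := (D.sd_iff p hC hq3 hE (by omega)).1 hsd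
  refine H919.U3.fixQ_eight (j := D.j) hC h8 hE D.iso D.ne D.span ?_ D.wt.1 D.wt.fix D.v_ne D.v_mem ?_
  · intro g hg
    rw [← D.range_rep] at hg
    obtain ⟨h, rfl⟩ := hg
    exact ⟨h, rfl⟩
  · intro g
    rw [D.coef, hb]

include p hp hFp hEp in
/-- **`SD P` ⟹ `|F| = q`** -/
theorem card_psu3_sd {q : ℕ} (hC : Core P) (hsd : SD P) (hq3 : 3 ≤ q) (hE : Fintype.card E = q ^ 2)
    (e : Soc P ≃* PSU 3 E q) (hn : Fintype.card ι ≤ 12) : Nat.card F = q := by
  classical
  have : Fintype F := Fintype.ofFinite F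
  have hp2 := hp.out.two_le
  obtain ⟨D⟩ := core_model p hC hq3 hE e hn
  have hb := (D.sd_iff p hC hq3 hE hn).1 hsd
  have hcj := core_psu_cj p hC le_rfl hE (by omega) e
  have hfr : H915.LD.Fr P q := H915.LD.Fr.of_sd_cj hsd hcj
  have hchar : CharP (AlgebraicClosure F) p := charP_of_injective_algebraMap (algebraMap F _).injective p
  have hn3 : Fintype.card ι < q ^ 3 := by
    have : 3 ^ 3 ≤ q ^ 3 := Nat.pow_le_pow_left hq3 3
    omega
  have hx := hC.pow_eq p (k := D.f) (by rw [← D.hq]; exact hfr)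
  obtain ⟨m, -, hm⟩ := FiniteField.card F p
  have hm0 : (m : ℕ) ≠ 0 := m.ne_zero
  have hdvd : (m : ℕ) ∣ D.f := dvd_of_pow_eq hp2 hm hx
  have hf0 : D.f ≠ 0 := by
    intro h
    have := D.hq
    rw [h, pow_zero] at this
    omega
  have hmf : (m : ℕ) ≤ D.f := Nat.le_of_dvd (Nat.pos_of_ne_zero hf0) hdvd
  rw [Nat.card_eq_fintype_card, hm]
  rcases hmf.eq_or_lt with h | h
  · rw [h, ← D.hq]
  exfalso
  obtain ⟨σ, hσ⟩ := exists_frob F p m
  have hfix : ∀ g, (acRep D.rep g).map σ = acRep D.rep g := by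
    intro g
    ext x y
    rw [acRep_apply, Matrix.map_apply, Matrix.map_apply, hσ, ← map_pow, ← hm, FiniteField.pow_card]
  have hfb := exp_fixed hE D.iso D.ne D.span p hn3 (by rw [hb]; omega) D.wt D.v_ne D.v_mem D.coef σ
    (pow_ne_zero _ hp.out.ne_zero) hσ hfix
  -- order of a generator
  obtain ⟨t, ht⟩ := IsCyclic.exists_generator (α := Eˣ)
  have h1 : orderOf t = q ^ 2 - 1 := by
    rw [orderOf_eq_card_of_forall_mem_zpowers ht, Nat.card_eq_fintype_card, Fintype.card_units, hE]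
  have hpm : 1 < p ^ (m : ℕ) := Nat.one_lt_pow hm0 hp.out.one_lt
  have h2 : t ^ (D.b * (p ^ (m : ℕ) - 1)) = 1 := by
    apply Units.ext
    rw [Units.val_pow_eq_pow_val, Units.val_one]
    have h3 := hfb (t : E)
    have h5 : D.b * p ^ (m : ℕ) = D.b * (p ^ (m : ℕ) - 1) + D.b := by
      rw [Nat.mul_sub, mul_one, Nat.sub_add_cancel (Nat.le_mul_of_pos_right _ (by omega))]
    rw [h5, pow_add] at h3
    exact mul_right_cancel₀ (pow_ne_zero D.b t.ne_zero) (h3.trans (one_mul _).symm)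
  have h3 := orderOf_dvd_of_pow_eq_one h2
  have h6 : q ^ 2 - 1 = (1 + q) * (q - 1) := by
    obtain ⟨r, rfl⟩ : ∃ r, q = r + 1 := ⟨q - 1, by omega⟩
    rw [Nat.add_sub_cancel]
    have : (r + 1) ^ 2 = (1 + (r + 1)) * r + 1 := by ring
    rw [this, Nat.add_sub_cancel]
  rw [h1, hb, h6] at h3
  have h7 : q - 1 ∣ p ^ (m : ℕ) - 1 := Nat.dvd_of_mul_dvd_mul_left (by omega) h3
  have h8 := Nat.le_of_dvd (by omega) h7
  have h9 : p ^ (m : ℕ) < p ^ D.f := Nat.pow_lt_pow_right hp.out.one_lt h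
  rw [← D.hq] at h9
  omega

end Main

end Cfsg.Agent.H929.U3
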