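import Cfsg.Agent.H929.UThreeSD

/-!
# Self-dual cores of type `PSU(3, q)` in dimension eight: the type of the form (helper929)

* `SU3Data.exists_rat` : the vectors `V` are multiples of vectors over `F`;
* `SU3Data.polar_rat` : their Gram matrix;
* **`plus_psu3`** : `q ≡ 2 mod 3` ⟹ every fixed quadratic form is of plus type;
* **`mod_three_psu3`** : a fixed quadratic form that is not of plus type ⟹ `q ≡ 1 mod 3`.
-/

set_option autoImplicit false
set_option linter.unusedSectionVars false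
set_option linter.style.haveILetI false

namespace Cfsg.Agent.H929.U3

open Cfsg Cfsg.Geo Cfsg.Agent.LieClassical.HermSiegel Cfsg.Agent.LieClassical.HermBasic Matrix Cfsg.Agent.H906
  Cfsg.Agent.H915.LD Cfsg.Agent.H905.Md Cfsg.Agent.H914

universe u

/-- elements fixed by the Frobenius of `F` come from `F` -/
theorem exists_alg {F K : Type*} [Field F] [Fintype F] [Field K] (i : F →+* K) {x : K}
    (h : x ^ Fintype.card F = x) : ∃ y, i y = x := by
  classical
  have h1 := Fintype.one_lt_card (α := F)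
  set P : Polynomial K := Polynomial.X ^ Fintype.card F - Polynomial.X with hP
  have hP0 : P ≠ 0 := FiniteField.X_pow_card_sub_X_ne_zero K h1
  have h2 : (Finset.univ.image i) ⊆ P.roots.toFinset := by
    intro y hy
    obtain ⟨a, -, rfl⟩ := Finset.mem_image.1 hy
    rw [Multiset.mem_toFinset, Polynomial.mem_roots hP0, Polynomial.IsRoot.def, hP, Polynomial.eval_sub,
      Polynomial.eval_pow, Polynomial.eval_X, ← map_pow, FiniteField.pow_card, sub_self]
  have h3 : P.roots.toFinset.card ≤ (Finset.univ.image i).card := by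
    rw [Finset.card_image_of_injective _ i.injective, Finset.card_univ]
    refine (Multiset.toFinset_card_le _).trans ((Polynomial.card_roots' P).trans ?_)
    rw [hP, FiniteField.X_pow_card_sub_X_natDegree_eq K h1]
  have h4 := Finset.eq_of_subset_of_card_le h2 h3
  have h5 : x ∈ P.roots.toFinset := by
    rw [Multiset.mem_toFinset, Polynomial.mem_roots hP0, Polynomial.IsRoot.def, hP, Polynomial.eval_sub,
      Polynomial.eval_pow, Polynomial.eval_X, h, sub_self]
  rw [← h4] at h5
  obtain ⟨a, -, ha⟩ := Finset.mem_image.1 h5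
  exact ⟨a, ha⟩

section Data

variable {F : Type u} [Field F] [Finite F] {ι : Type} [Fintype ι] [DecidableEq ι] {P : Subgroup (GL ι F)}
  (p : ℕ) [hp : Fact p.Prime] [hFp : CharP F p] {E : Type} [Field E] [Fintype E] [hEp : CharP E p]

include p hp hFp hEp in
/-- **rational vectors** -/
theorem SU3Data.exists_rat {q : ℕ} (hC : Core P) (hsd : SD P) (hq3 : 3 ≤ q) (hE : Fintype.card E = q ^ 2)
    {e : Soc P ≃* PSU 3 E q} (hn : Fintype.card ι ≤ 12) (D : SU3Data P p E q e) :
    ∃ (lam : AlgebraicClosure F) (V : Iso q E → ι → F), lam ≠ 0 ∧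
      ∀ w, (fun i => algebraMap F (AlgebraicClosure F) (V w i)) = lam • D.V w := by
  classical
  have : Fintype F := Fintype.ofFinite F
  have hchar : CharP (AlgebraicClosure F) p := charP_of_injective_algebraMap (algebraMap F _).injective p
  have hcard := card_psu3_sd p hC hsd hq3 hE e hn
  rw [Nat.card_eq_fintype_card] at hcard
  have hn3 : Fintype.card ι < q ^ 3 := by
    have : 3 ^ 3 ≤ q ^ 3 := Nat.pow_le_pow_left hq3 3
    omega
  obtain ⟨σ, hσ⟩ := exists_frob F p D.f
  have hσq : ∀ x, σ x = x ^ q := fun x => by rw [hσ, ← D.hq]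
  have hpow : ∀ x : F, x ^ q = x := by
    intro x
    rw [← hcard]
    exact FiniteField.pow_card x
  have hfix : ∀ g, (acRep D.rep g).map σ = acRep D.rep g := by
    intro g
    ext x y
    rw [acRep_apply, Matrix.map_apply, Matrix.map_apply, hσq, ← map_pow, hpow]
  have h1 : (σ ∘ D.v : ι → AlgebraicClosure F) ∈ fixSub (acRep D.rep) (Stab q D.e₀) := by
    intro u hu
    have h2 := comp_mulVec σ (acRep D.rep u) D.v
    rw [hfix, D.v_mem u hu] at h2
    exact h2.symm
  obtain ⟨k, hk⟩ := fix_unique (j := D.j) hE D.iso D.ne D.span p hn3 D.v_mem h1 D.v_ne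
  have hk0 : k ≠ 0 := by
    rintro rfl
    rw [zero_smul] at hk
    apply D.v_ne
    funext i
    have h3 := congrFun hk i
    rw [Function.comp_apply, Pi.zero_apply] at h3
    exact (map_eq_zero σ).1 h3
  obtain ⟨lam, hlam⟩ := IsAlgClosed.exists_pow_nat_eq k⁻¹ (n := q - 1) (by omega)
  have hlam0 : lam ≠ 0 := by
    rintro rfl
    rw [zero_pow (by omega)] at hlam
    exact inv_ne_zero hk0 hlam.symm
  have hlq : lam ^ q * k = lam := by
    have h3 : lam ^ q = lam ^ (q - 1) * lam := by rw [← pow_succ, Nat.sub_add_cancel (by omega)]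
    rw [h3, hlam]
    field_simp
  have key : ∀ (w : Iso q E) (i : ι), ∃ y : F, algebraMap F (AlgebraicClosure F) y = lam * D.V w i := by
    intro w i
    apply exists_alg
    rw [hcard]
    obtain ⟨g, rfl⟩ := exists_actIso hE D.iso D.ne w
    have h4 := congrFun (comp_mulVec σ (acRep D.rep g) D.v) i
    rw [hfix, hk, Matrix.mulVec_smul, Pi.smul_apply, smul_eq_mul, ← D.V_eq] at h4
    rw [mul_pow, ← hσq (D.V _ i)]
    have h5 : σ (D.V (actIso g ⟨D.e₀, D.iso, D.ne⟩) i) = k * D.V (actIso g ⟨D.e₀, D.iso, D.ne⟩) i := h4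
    rw [h5, ← mul_assoc, hlq]
  choose V hV using key
  exact ⟨lam, V, hlam0, fun w => funext fun i => hV w i⟩

include p hp hFp hEp in
/-- **the Gram matrix of the rational vectors** -/
theorem SU3Data.polar_rat {q : ℕ} (hC : Core P) (hsd : SD P) (hq4 : 4 ≤ q) (hE : Fintype.card E = q ^ 2)
    {e : Soc P ≃* PSU 3 E q} (hn : Fintype.card ι ≤ 12) (D : SU3Data P p E q e) {Q : (ι → F) → F}
    (hQ : IsNondegenerateQuadraticForm Q) (hfix : FixesQuadForm (matrixSet P) Q) :
    ∃ (V : Iso q E → ι → F) (c : F), c ≠ 0 ∧ (∀ w, Q (V w) = 0) ∧ ∀ u w,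
      algebraMap F (AlgebraicClosure F) (QuadraticMap.polar Q (V u) (V w)) =
        algebraMap F (AlgebraicClosure F) c * D.j (hermForm 3 E q w.1 u.1) ^ (1 + q) := by
  classical
  have hne := hC.nonempty
  have hq3 : 3 ≤ q := by omega
  have hchar : CharP (AlgebraicClosure F) p := charP_of_injective_algebraMap (algebraMap F _).injective p
  have hb := (D.sd_iff p hC hq3 hE hn).1 hsd
  have hn3 : Fintype.card ι < q ^ 3 := by
    have : 3 ^ 3 ≤ q ^ 3 := Nat.pow_le_pow_left hq3 3
    omega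
  obtain ⟨lam, V, hlam, hV⟩ := D.exists_rat p hC hsd hq3 hE hn
  set f := QuadraticMap.polar Q with hf
  have hfb : IsBilinearForm f := hQ.polar_bilinear
  have hff : FixesForm (matrixSet P) f := by
    intro s hs v w
    rw [hf]
    unfold QuadraticMap.polar
    rw [← Matrix.mulVec_add, hfix s hs, hfix s hs, hfix s hs]
  have hJ0 := det_gram_ne_zero (IsSesq.of_bilinear hfb) hQ.nondegenerate
  have hJ : ∀ g ∈ P, (g : Matrix ι ι F)ᵀ * gramMatrix f * (g : Matrix ι ι F) = gramMatrix f :=
    fun g hg => gram_fix hfb hff hg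
  obtain ⟨c, hc⟩ := D.gram p hE hn3 (J := (gramMatrix f).map (algebraMap F (AlgebraicClosure F))) (D.inv_map _ hJ)
  -- the form over the closure
  have hfe : ∀ x y : ι → F, algebraMap F (AlgebraicClosure F) (f x y) =
      (fun i => algebraMap F (AlgebraicClosure F) (x i)) ⬝ᵥ
        ((gramMatrix f).map (algebraMap F (AlgebraicClosure F)) *ᵥ
          (fun i => algebraMap F (AlgebraicClosure F) (y i))) := by
    intro x y
    rw [form_eq_gram hfb]
    simp only [dotProduct, Matrix.mulVec, map_sum, map_mul, Matrix.map_apply]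
  have hfV : ∀ u w, algebraMap F (AlgebraicClosure F) (f (V u) (V w)) =
      (lam * lam * c) * D.j (hermForm 3 E q w.1 u.1) ^ (1 + q) := by
    intro u w
    rw [hfe, hV, hV, Matrix.mulVec_smul, hc, smul_dotProduct, dotProduct_smul, dotProduct_smul, dotProduct_comm,
      D.ker.coef, hb]
    simp only [smul_eq_mul]
    ring
  obtain ⟨e₂, e₃, hfr⟩ := exists_fr hE D.iso D.ne
  have h3 : e₃ ≠ 0 := by
    rintro rfl
    have := hfr.h13
    rw [herm_zero_right hE] at this
    exact zero_ne_one this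
  have hc1 : algebraMap F (AlgebraicClosure F) (f (V ⟨D.e₀, D.iso, D.ne⟩) (V ⟨e₃, hfr.h33, h3⟩)) = lam * lam * c := by
    rw [hfV, hfr.h31 hE, map_one, one_pow, mul_one]
  have hc0 : c ≠ 0 := by
    rintro rfl
    have h6 : ∀ x, (gramMatrix f).map (algebraMap F (AlgebraicClosure F)) *ᵥ x = 0 := by
      intro x
      have hx : x ∈ Submodule.span (AlgebraicClosure F) (Set.range D.V) := by rw [D.ker.spanR]; trivial
      induction hx using Submodule.span_induction with
      | mem x hx =>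
        obtain ⟨w, rfl⟩ := hx
        rw [hc, zero_smul]
      | zero => rw [Matrix.mulVec_zero]
      | add x y _ _ hx hy => rw [Matrix.mulVec_add, hx, hy, add_zero]
      | smul c x _ hx => rw [Matrix.mulVec_smul, hx, smul_zero]
    have h7 : ((gramMatrix f).map (algebraMap F (AlgebraicClosure F))).det ≠ 0 := by
      rw [← RingHom.mapMatrix_apply, ← RingHom.map_det]
      exact (map_ne_zero _).2 hJ0
    apply h7
    have h8 : (gramMatrix f).map (algebraMap F (AlgebraicClosure F)) = 0 := by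
      ext a b
      have := congrFun (h6 (Pi.single b 1)) a
      rwa [Matrix.mulVec_single_one, Matrix.col_apply] at this
    rw [h8, Matrix.det_zero]
  refine ⟨V, f (V ⟨D.e₀, D.iso, D.ne⟩) (V ⟨e₃, hfr.h33, h3⟩), ?_, ?_, ?_⟩
  · intro h0
    rw [h0, map_zero] at hc1
    exact mul_ne_zero (mul_ne_zero hlam hlam) hc0 hc1.symm
  · intro w
    -- a generator of the multiplicative group
    obtain ⟨t, ht⟩ := IsCyclic.exists_generator (α := Eˣ)
    have hord : orderOf t = q ^ 2 - 1 := by
      rw [orderOf_eq_card_of_forall_mem_zpowers ht, Nat.card_eq_fintype_card, Fintype.card_units, hE]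
    have ht0 : (t : E) ≠ 0 := t.ne_zero
    let tw : Iso q E := ⟨(t : E) • w.1, by rw [herm_smul_left, herm_smul_right, w.2.1, mul_zero, mul_zero],
      smul_ne_zero ht0 w.2.2⟩
    -- `V (t w) = N (t) V w`
    have h4 : D.V tw = D.j (t : E) ^ (1 + q) • D.V w := by
      have h5 : ∀ y : ι → AlgebraicClosure F, y ⬝ᵥ (D.V tw - D.j (t : E) ^ (1 + q) • D.V w) = 0 := by
        intro y
        have hy : y ∈ Submodule.span (AlgebraicClosure F) (Set.range D.Φ) := by rw [D.ker.spanL]; trivial
        induction hy using Submodule.span_induction with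
        | mem y hy =>
          obtain ⟨u, rfl⟩ := hy
          rw [dotProduct_sub, dotProduct_smul, D.ker.coef, D.ker.coef, hb]
          change D.j (hermForm 3 E q u.1 ((t : E) • w.1)) ^ (1 + q) - _ = 0
          rw [herm_smul_right, smul_eq_mul, ← mul_pow, ← map_mul, ← map_pow, ← map_pow, mul_pow, mul_pow, sub_eq_zero]
          congr 2
          rw [pow_add, pow_add, pow_one, pow_one, pow_q_pow_q hE, mul_comm]
        | zero => rw [zero_dotProduct]
        | add x y _ _ hx hy => rw [add_dotProduct, hx, hy, add_zero]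
        | smul c x _ hx => rw [smul_dotProduct, hx, smul_zero]
      funext i
      have h6 := h5 (Pi.single i 1)
      rw [single_dotProduct, one_mul, Pi.sub_apply, sub_eq_zero] at h6
      exact h6
    -- both are in the same orbit
    obtain ⟨g, hg⟩ : ∃ g : SU 3 E q, actIso g w = tw := by
      obtain ⟨g, hg⟩ := exists_act hE w.2.1 w.2.2 tw.2.1 tw.2.2
      exact ⟨g, Subtype.ext hg⟩
    have hgP : D.rep g ∈ P := D.range_rep.le ⟨g, rfl⟩
    have h7 : (D.rep g : Matrix ι ι F) *ᵥ V w = V tw := by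
      funext i
      apply (algebraMap F (AlgebraicClosure F)).injective
      have h8 := congrFun (hV tw) i
      rw [h8, ← hg, D.V_act hE, Pi.smul_apply, ← Pi.smul_apply, ← Matrix.mulVec_smul, ← hV]
      simp only [Matrix.mulVec, dotProduct, map_sum, map_mul, acRep_apply, Matrix.map_apply]
    -- `N (t)` is rational
    obtain ⟨n, hn'⟩ : ∃ n : F, algebraMap F (AlgebraicClosure F) n = D.j (t : E) ^ (1 + q) := by
      have : Fintype F := Fintype.ofFinite F
      have hcard := card_psu3_sd p hC hsd hq3 hE e hn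
      rw [Nat.card_eq_fintype_card] at hcard
      apply exists_alg
      rw [hcard, ← map_pow, ← map_pow]
      congr 1
      have h9 : (t : E) ^ (q ^ 2) = t := by rw [← hE, FiniteField.pow_card]
      rw [← pow_mul, add_mul, one_mul, ← pow_two, pow_add, h9, pow_add, pow_one, mul_comm]
    have h8 : V tw = n • V w := by
      funext i
      apply (algebraMap F (AlgebraicClosure F)).injective
      have h9 := congrFun (hV tw) i
      have h10 := congrFun (hV w) i
      rw [h9, h4, Pi.smul_apply, Pi.smul_apply, Pi.smul_apply, smul_eq_mul, smul_eq_mul, smul_eq_mul, map_mul, hn', h10,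
        Pi.smul_apply, smul_eq_mul]
      ring
    have h9 := hfix _ ⟨D.rep g, hgP, rfl⟩ (V w)
    rw [h7, h8, hQ.smul] at h9
    by_contra h0
    have h10 : n ^ 2 = 1 := by
      have h11 : (n ^ 2 - 1) * Q (V w) = 0 := by linear_combination h9
      exact sub_eq_zero.1 ((mul_eq_zero.1 h11).resolve_right h0)
    have h11 : t ^ ((1 + q) * 2) = 1 := by
      apply Units.ext
      rw [Units.val_pow_eq_pow_val, Units.val_one]
      apply D.j.injective
      rw [map_one, pow_mul, map_pow, map_pow, ← hn', ← map_pow, h10, map_one]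
    have h12 := orderOf_dvd_of_pow_eq_one h11
    have h13 : q ^ 2 - 1 = (1 + q) * (q - 1) := by
      obtain ⟨r, rfl⟩ : ∃ r, q = r + 1 := ⟨q - 1, by omega⟩
      rw [Nat.add_sub_cancel]
      have : (r + 1) ^ 2 = (1 + (r + 1)) * r + 1 := by ring
      rw [this, Nat.add_sub_cancel]
    rw [hord, h13] at h12
    have h14 : q - 1 ∣ 2 := Nat.dvd_of_mul_dvd_mul_left (by omega) h12
    have := Nat.le_of_dvd (by norm_num) h14
    omega
  · intro u w
    rw [hfV, hc1]

end Data

/-! ### The explicit totally singular subspace -/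

section Explicit

/-- the Gram matrix of eight isotropic vectors -/
def G8 : Fin 8 → Fin 8 → ℤ :=
  ![![0, 1, 1, 1, 1, 1, 1, 1], ![1, 0, 1, 1, 1, 1, 1, 1], ![1, 1, 0, 3, 3, 3, 3, 9], ![1, 1, 3, 0, 3, 9, 3, 3],
    ![1, 1, 3, 3, 0, 3, 9, 3], ![1, 1, 3, 9, 3, 0, 3, 3], ![1, 1, 3, 3, 9, 3, 0, 3], ![1, 1, 9, 3, 3, 3, 3, 0]]

/-- a totally singular subspace -/
def A8 : Fin 4 → Fin 8 → ℤ :=
  ![![1, 0, 0, 0, 0, 0, 0, 0], ![0, 0, 1, -1, 0, -1, 1, 0], ![0, 0, 0, 1, -1, 0, -1, 1], ![-3, -3, 1, 1, 1, 0, 0, 0]]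

/-- the dual vectors -/
def B8 : Fin 4 → Fin 8 → ℤ :=
  ![![0, 9, 0, 0, 0, 0, 0, 0], ![0, 0, 0, -1, 1, 0, 0, 0], ![0, 0, 1, -1, 0, 0, 0, 0], ![0, 0, -1, 0, 0, 1, 0, 0]]

theorem AGA : ∀ s t, ∑ i, ∑ j, A8 s i * A8 t j * G8 i j = 0 := by decide

theorem AGB : ∀ s t, ∑ i, ∑ j, A8 s i * B8 t j * G8 i j = if s = t then 9 else 0 := by decide

theorem AGd : ∀ s, ∑ i, ∑ j, (if i < j then A8 s i * A8 s j * G8 i j else 0) = 0 := by decide

theorem G8_self : ∀ i, G8 i i = 0 := by decide

/-- `(a, b)` stands for `a + b ω` -/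
def zm (u v : ℤ × ℤ) : ℤ × ℤ := (u.1 * v.1 - u.2 * v.2, u.1 * v.2 + u.2 * v.1 - u.2 * v.2)

/-- conjugate -/
def zc (u : ℤ × ℤ) : ℤ × ℤ := (u.1 - u.2, -u.2)

/-- norm -/
def zn (u : ℤ × ℤ) : ℤ := u.1 * u.1 - u.1 * u.2 + u.2 * u.2

/-- Hermitian form -/
def zh (u v : Fin 3 → ℤ × ℤ) : ℤ × ℤ := zm (u 0) (zc (v 2)) + zm (u 1) (zc (v 1)) + zm (u 2) (zc (v 0))

/-- coordinates of the eight vectors -/
def W8 : Fin 8 → Fin 3 → ℤ × ℤ :=
  ![![(1, 0), (0, 0), (0, 0)], ![(0, 0), (0, 0), (1, 0)], ![(0, 1), (1, 0), (1, 0)], ![(0, 1), (0, 1), (1, 0)],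
    ![(0, 1), (-1, -1), (1, 0)], ![(-1, -1), (1, 0), (1, 0)], ![(-1, -1), (0, 1), (1, 0)],
    ![(-1, -1), (-1, -1), (1, 0)]]

theorem W8_G8 : ∀ i j, zn (zh (W8 i) (W8 j)) = G8 i j := by decide

theorem W8_self : ∀ i, zh (W8 i) (W8 i) = (0, 0) := by decide

theorem W8_ne : ∀ i, (W8 i 0 = (1, 0) ∧ W8 i 1 = (0, 0) ∧ W8 i 2 = (0, 0)) ∨ W8 i 2 = (1, 0) := by decide

theorem exists_eight {E : Type*} [Field E] [Fintype E] {q : ℕ} (hE : Fintype.card E = q ^ 2) (p : ℕ)
    [hp : Fact p.Prime] [CharP E p] {f : ℕ} (hq : q = p ^ f) (h3 : q % 3 = 2) {e₁ e₂ e₃ : Fin 3 → E}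
    (h : Fr q e₁ e₂ e₃) (h1 : e₁ ≠ 0) :
    ∃ w : Fin 8 → Iso q E, ∀ i j, hermForm 3 E q (w i).1 (w j).1 ^ (1 + q) = ((G8 i j : ℤ) : E) := by
  classical
  obtain ⟨ω, hω⟩ : ∃ ω : Eˣ, orderOf ω = 3 := by
    have : Fact (Nat.Prime 3) := ⟨Nat.prime_three⟩
    apply exists_prime_orderOf_dvd_card 3
    rw [Fintype.card_units, hE]
    obtain ⟨r, rfl⟩ : ∃ r, q = 3 * r + 2 := ⟨q / 3, by omega⟩
    refine ⟨3 * r ^ 2 + 4 * r + 1, ?_⟩
    have : (3 * r + 2) ^ 2 = 3 * (3 * r ^ 2 + 4 * r + 1) + 1 := by ring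
    rw [this, Nat.add_sub_cancel]
  have hω3 : (ω : E) ^ 3 = 1 := by
    have := pow_orderOf_eq_one ω
    rw [hω] at this
    rw [← Units.val_pow_eq_pow_val, this, Units.val_one]
  have hω1 : (ω : E) - 1 ≠ 0 := by
    intro h0
    have : ω = 1 := Units.ext (sub_eq_zero.1 h0)
    rw [this, orderOf_one] at hω
    norm_num at hω
  have hω2 : (ω : E) ^ 2 + ω + 1 = 0 := by
    have : ((ω : E) - 1) * ((ω : E) ^ 2 + ω + 1) = 0 := by linear_combination hω3
    exact (mul_eq_zero.1 this).resolve_left hω1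
  have hωq : (ω : E) ^ q = -1 - ω := by
    obtain ⟨r, hr⟩ : ∃ r, q = 3 * r + 2 := ⟨q / 3, by omega⟩
    rw [hr, pow_add, pow_mul, hω3, one_pow, one_mul]
    linear_combination hω2
  set φ : ℤ × ℤ → E := fun u => (u.1 : E) + u.2 * ω with hφ
  have hφm : ∀ u v, φ (zm u v) = φ u * φ v := by
    intro u v
    simp only [hφ, zm]
    push_cast
    linear_combination (-(u.2 : E) * v.2) * hω2
  have hφa : ∀ u v, φ (u + v) = φ u + φ v := by
    intro u v
    simp only [hφ, Prod.fst_add, Prod.snd_add]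
    push_cast
    ring
  have hφc : ∀ u, φ (zc u) = φ u ^ q := by
    intro u
    have h4 : ∀ x : E, x ^ q = iterateFrobenius E p f x := fun x => by rw [iterateFrobenius_def, hq]
    simp only [hφ, zc]
    rw [h4, map_add, map_mul, map_intCast, map_intCast, ← h4, hωq]
    push_cast
    ring
  have hφn : ∀ u, φ u ^ (1 + q) = ((zn u : ℤ) : E) := by
    intro u
    rw [pow_add, pow_one, ← hφc]
    simp only [hφ, zc, zn]
    push_cast
    linear_combination (-(u.2 : E) * u.2) * hω2
  let W : Fin 8 → Fin 3 → E := fun i => φ (W8 i 0) • e₁ + φ (W8 i 1) • e₂ + φ (W8 i 2) • e₃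
  have hW : ∀ i j, hermForm 3 E q (W i) (W j) = φ (zh (W8 i) (W8 j)) := by
    intro i j
    simp only [W, zh]
    rw [h.herm_comb hE, hφa, hφa, hφm, hφm, hφm, hφc, hφc, hφc]
  have hφ0 : φ (0, 0) = 0 := by simp [hφ]
  have hφ1 : φ (1, 0) = 1 := by simp [hφ]
  refine ⟨fun i => ⟨W i, by rw [hW, W8_self, hφ0], ?_⟩, fun i j => ?_⟩
  · rcases W8_ne i with ⟨h5, h6, h7⟩ | h5
    · simp only [W]
      rw [h5, h6, h7, hφ0, hφ1, zero_smul, zero_smul, add_zero, add_zero, one_smul]
      exact h1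
    · exact h.comb_ne_zero hE (by rw [h5, hφ1]; exact one_ne_zero)
  · rw [hW, hφn, W8_G8]

variable {F : Type u} [Field F] {ι : Type} [Fintype ι] [DecidableEq ι] {Q : (ι → F) → F}

theorem quad_add (Q : (ι → F) → F) (x y : ι → F) : Q (x + y) = Q x + Q y + QuadraticMap.polar Q x y := by
  rw [QuadraticMap.polar]
  ring

theorem quad_zero (hQ : IsNondegenerateQuadraticForm Q) : Q 0 = 0 := by
  have := hQ.smul 0 0
  rwa [zero_smul, zero_pow two_ne_zero, zero_mul] at this

theorem polar_self (hQ : IsNondegenerateQuadraticForm Q) (x : ι → F) : QuadraticMap.polar Q x x = 2 * Q x := by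
  rw [QuadraticMap.polar, ← two_smul F x, hQ.smul]
  ring

theorem polar_sum_left (hQ : IsNondegenerateQuadraticForm Q) {τ : Type*} (s : Finset τ) (x : τ → ι → F) (y : ι → F) :
    QuadraticMap.polar Q (∑ i ∈ s, x i) y = ∑ i ∈ s, QuadraticMap.polar Q (x i) y :=
  (IsSesq.of_bilinear hQ.polar_bilinear).sum_left s x y

theorem polar_sum_right (hQ : IsNondegenerateQuadraticForm Q) {τ : Type*} (s : Finset τ) (x : τ → ι → F) (y : ι → F) :
    QuadraticMap.polar Q y (∑ i ∈ s, x i) = ∑ i ∈ s, QuadraticMap.polar Q y (x i) :=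
  (IsSesq.of_bilinear hQ.polar_bilinear).sum_right s x y

theorem quad_sum (hQ : IsNondegenerateQuadraticForm Q) (n : ℕ) (x : Fin n → ι → F) :
    Q (∑ i, x i) = ∑ i, Q (x i) + ∑ i, ∑ j, if i < j then QuadraticMap.polar Q (x i) (x j) else 0 := by
  induction n with
  | zero => simp [quad_zero hQ]
  | succ n ih =>
    rw [Fin.sum_univ_castSucc, quad_add Q, ih, Fin.sum_univ_castSucc, Fin.sum_univ_castSucc, polar_sum_left hQ]
    have h1 : ∑ j, (if Fin.last n < j then QuadraticMap.polar Q (x (Fin.last n)) (x j) else 0) = 0 :=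
      Finset.sum_eq_zero fun j _ => if_neg (not_lt.2 (Fin.le_last j))
    have h2 : ∀ i : Fin n, ∑ j, (if i.castSucc < j then QuadraticMap.polar Q (x i.castSucc) (x j) else 0) =
        (∑ j : Fin n, if i < j then QuadraticMap.polar Q (x i.castSucc) (x j.castSucc) else 0) +
          QuadraticMap.polar Q (x i.castSucc) (x (Fin.last n)) := by
      intro i
      rw [Fin.sum_univ_castSucc, if_pos (Fin.castSucc_lt_last i)]
      simp only [Fin.castSucc_lt_castSucc_iff]
    rw [h1, add_zero]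
    simp only [h2, Finset.sum_add_distrib]
    ring

/-- **the criterion** -/
theorem plus_of_gram (hQ : IsNondegenerateQuadraticForm Q) (h8 : Fintype.card ι = 8) (h3 : (3 : F) ≠ 0) {c : F}
    (hc : c ≠ 0) (x : Fin 8 → ι → F) (h0 : ∀ i, Q (x i) = 0)
    (hG : ∀ i j, QuadraticMap.polar Q (x i) (x j) = c * ((G8 i j : ℤ) : F)) : IsPlusTypeOn Q ⊤ := by
  classical
  have hb := hQ.polar_bilinear
  have hpol : ∀ (A B : Fin 8 → ℤ), QuadraticMap.polar Q (∑ i, (A i : F) • x i) (∑ j, (B j : F) • x j) =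
      c * ((∑ i, ∑ j, A i * B j * G8 i j : ℤ) : F) := by
    intro A B
    rw [polar_sum_left hQ]
    push_cast
    rw [Finset.mul_sum]
    refine Finset.sum_congr rfl fun i _ => ?_
    rw [polar_sum_right hQ, Finset.mul_sum]
    refine Finset.sum_congr rfl fun j _ => ?_
    rw [hb.smul_left, hb.smul_right, hG]
    ring
  let y : Fin 4 → ι → F := fun s => ∑ i, (A8 s i : F) • x i
  let z : Fin 4 → ι → F := fun s => ∑ i, (B8 s i : F) • x i
  have hyy : ∀ s t, QuadraticMap.polar Q (y s) (y t) = 0 := by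
    intro s t
    rw [hpol, AGA, Int.cast_zero, mul_zero]
  have hyz : ∀ s t, QuadraticMap.polar Q (y s) (z t) = if s = t then c * 9 else 0 := by
    intro s t
    rw [hpol, AGB]
    split_ifs
    · norm_num
    · rw [Int.cast_zero, mul_zero]
  have hy : ∀ s, Q (y s) = 0 := by
    intro s
    change Q (∑ i, (A8 s i : F) • x i) = 0
    rw [quad_sum hQ]
    have h4 : ∑ i, Q ((A8 s i : F) • x i) = 0 := Finset.sum_eq_zero fun i _ => by rw [hQ.smul, h0, mul_zero]
    have h5 : c * ((∑ i, ∑ j, (if i < j then A8 s i * A8 s j * G8 i j else 0) : ℤ) : F) = c * ((0 : ℤ) : F) := by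
      rw [AGd]
    rw [h4, zero_add]
    rw [Int.cast_zero, mul_zero] at h5
    refine Eq.trans ?_ h5
    push_cast
    rw [Finset.mul_sum]
    refine Finset.sum_congr rfl fun i _ => ?_
    rw [Finset.mul_sum]
    refine Finset.sum_congr rfl fun j _ => ?_
    split_ifs
    · rw [hb.smul_left, hb.smul_right, hG]
      ring
    · rw [mul_zero]
  have h9 : c * 9 ≠ 0 := by
    have : (9 : F) = 3 * 3 := by norm_num
    rw [this]
    exact mul_ne_zero hc (mul_ne_zero h3 h3)
  have hli : LinearIndependent F y := by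
    rw [Fintype.linearIndependent_iff]
    intro b hb0 t
    have h4 : QuadraticMap.polar Q (∑ s, b s • y s) (z t) = 0 := by
      rw [hb0]
      exact (IsSesq.of_bilinear hb).zero_left _
    rw [polar_sum_left hQ] at h4
    simp only [hb.smul_left, hyz, mul_ite, mul_zero] at h4
    rw [Finset.sum_ite_eq' Finset.univ t, if_pos (Finset.mem_univ _)] at h4
    exact (mul_eq_zero.1 h4).resolve_right h9
  have hspan : ∀ v ∈ Submodule.span F (Set.range y), Q v = 0 ∧ ∀ s, QuadraticMap.polar Q v (y s) = 0 := by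
    have hp' : ∀ v ∈ Submodule.span F (Set.range y), ∀ s, QuadraticMap.polar Q v (y s) = 0 := by
      intro v hv
      induction hv using Submodule.span_induction with
      | mem v hv => obtain ⟨t, rfl⟩ := hv; exact fun s => hyy t s
      | zero => exact fun s => (IsSesq.of_bilinear hb).zero_left _
      | add v w _ _ hv hw => exact fun s => by rw [hb.add_left, hv, hw, add_zero]
      | smul a v _ hv => exact fun s => by rw [hb.smul_left, hv, mul_zero]
    have hp'' : ∀ v ∈ Submodule.span F (Set.range y), ∀ w ∈ Submodule.span F (Set.range y),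
        QuadraticMap.polar Q v w = 0 := by
      intro v hv w hw
      induction hw using Submodule.span_induction with
      | mem w hw => obtain ⟨t, rfl⟩ := hw; exact hp' v hv t
      | zero => exact (IsSesq.of_bilinear hb).zero_right _
      | add w w' _ _ hw hw' => rw [hb.add_right, hw, hw', add_zero]
      | smul a w _ hw => rw [hb.smul_right, hw, mul_zero]
    intro v hv
    refine ⟨?_, hp' v hv⟩
    induction hv using Submodule.span_induction with
    | mem v hv => obtain ⟨t, rfl⟩ := hv; exact hy t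
    | zero => exact quad_zero hQ
    | add v w hv hw hv' hw' => rw [quad_add Q, hv', hw', hp'' v hv w hw, add_zero, add_zero]
    | smul a v _ hv => rw [hQ.smul, hv, mul_zero]
  refine ⟨Submodule.span F (Set.range y), le_top, fun v hv => (hspan v hv).1, ?_⟩
  rw [finrank_span_eq_card hli, finrank_top, Module.finrank_fintype_fun_eq_card, h8, Fintype.card_fin]

end Explicit

section Main

variable {F : Type u} [Field F] [Finite F] {ι : Type} [Fintype ι] [DecidableEq ι] {P : Subgroup (GL ι F)}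
  (p : ℕ) [hp : Fact p.Prime] [hFp : CharP F p] {E : Type} [Field E] [Fintype E] [hEp : CharP E p]

include p hp hFp hEp in
/-- **`q ≡ 2 mod 3` : plus type** -/
theorem plus_psu3 {q : ℕ} (hC : Core P) (hq3 : 3 ≤ q) (hE : Fintype.card E = q ^ 2) (e : Soc P ≃* PSU 3 E q)
    (h8 : Fintype.card ι = 8) {Q : (ι → F) → F} (hQ : IsNondegenerateQuadraticForm Q)
    (hfix : FixesQuadForm (matrixSet P) Q) (h3 : q % 3 = 2) : IsPlusTypeOn Q ⊤ := by
  classical
  have hsd : SD P := by
    have hff : FixesForm (matrixSet P) (QuadraticMap.polar Q) := by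
      intro s hs v w
      unfold QuadraticMap.polar
      rw [← Matrix.mulVec_add, hfix s hs, hfix s hs, hfix s hs]
    exact sd_of_gram (det_gram_ne_zero (IsSesq.of_bilinear hQ.polar_bilinear) hQ.nondegenerate)
      (fun g hg => gram_fix hQ.polar_bilinear hff hg)
  obtain ⟨D⟩ := core_model p hC hq3 hE e (by omega)
  obtain ⟨V, c, hc, h0, hV⟩ := D.polar_rat p hC hsd (by omega) hE (by omega) hQ hfix
  obtain ⟨e₂, e₃, hfr⟩ := exists_fr hE D.iso D.ne
  obtain ⟨w, hw⟩ := exists_eight hE p D.hq h3 hfr D.ne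
  have h3F : (3 : F) ≠ 0 := by
    have h5 := (cast_ne_iff (K := F) (p := p) (m := 3)).2 (fun hd => by
      have h6 := (Nat.prime_dvd_prime_iff_eq hp.out Nat.prime_three).1 hd
      have h7 := D.hq
      rcases Nat.eq_zero_or_pos D.f with h8 | h8
      · rw [h8, pow_zero] at h7
        omega
      · have : p ∣ q := by
          rw [h7]
          exact dvd_pow_self p h8.ne'
        rw [h6] at this
        omega)
    simpa using h5
  refine plus_of_gram hQ h8 h3F hc (fun i => V (w i)) (fun i => h0 _) (fun i j => ?_)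
  apply (algebraMap F (AlgebraicClosure F)).injective
  rw [hV, ← map_pow, hw, map_mul, map_intCast, map_intCast]
  congr 2
  revert i j
  decide

include p hp hFp hEp in
/-- **not of plus type ⟹ `|F| = q ≡ 1 mod 3`** -/
theorem mod_three_psu3 {q : ℕ} (hC : Core P) (hq3 : 3 ≤ q) (hE : Fintype.card E = q ^ 2) (e : Soc P ≃* PSU 3 E q)
    (h8 : Fintype.card ι = 8) {Q : (ι → F) → F} (hQ : IsNondegenerateQuadraticForm Q)
    (hfix : FixesQuadForm (matrixSet P) Q) (hm : ¬ IsPlusTypeOn Q ⊤) : Nat.card F = q ∧ q % 3 = 1 := by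
  have hsd : SD P := by
    have hff : FixesForm (matrixSet P) (QuadraticMap.polar Q) := by
      intro s hs v w
      unfold QuadraticMap.polar
      rw [← Matrix.mulVec_add, hfix s hs, hfix s hs, hfix s hs]
    exact sd_of_gram (det_gram_ne_zero (IsSesq.of_bilinear hQ.polar_bilinear) hQ.nondegenerate)
      (fun g hg => gram_fix hQ.polar_bilinear hff hg)
  refine ⟨card_psu3_sd p hC hsd hq3 hE e (by omega), ?_⟩
  have h1 : q % 3 ≠ 2 := fun h => hm (plus_psu3 p hC hq3 hE e h8 hQ hfix h)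
  have h2 : q % 3 ≠ 0 := by
    intro h
    have h3 : 3 ∣ q := Nat.dvd_of_mod_eq_zero h
    obtain ⟨f, hq⟩ : ∃ f, q = p ^ f := by
      obtain ⟨m, -, hm⟩ := FiniteField.card E p
      rw [hE] at hm
      exact (Nat.dvd_prime_pow hp.out).1 (hm ▸ Dvd.intro_left q (by ring) : q ∣ p ^ (m : ℕ)) |>.imp fun k hk => hk.2
    rw [hq] at h3
    have h4 := Nat.prime_three.dvd_of_dvd_pow h3
    have h5 := (Nat.prime_dvd_prime_iff_eq Nat.prime_three hp.out).1 h4
    rcases core_psu3_sd p hC hq3 hE e (by omega) hsd with h6 | h6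
    · omega
    · exact h6.1 h5.symm
  omega

end Main

end Cfsg.Agent.H929.U3
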