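import Cfsg.Agent.LieClassical.HermSiegel
import Cfsg.Agent.LieClassical.HermCount
import Cfsg.Agent.ClassicalGeometry.HermFrame
import Cfsg.Agent.S0278

/-!
# The action of `SU_3(q)` on isotropic vectors (helper929)

* `exists_act` : transitivity on nonzero isotropic vectors;
* `exists_act_fix` : the stabiliser of `e` is transitive on the isotropic `v` with given `h(v, e) ≠ 0`;
* `isPGroup_stab` : the stabiliser of an isotropic vector is a `p`-group;
* `Fr` : hyperbolic frames; `Fr.decomp`; `exists_fr`.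
-/

set_option autoImplicit false

namespace Cfsg.Agent.H929.U3

open Cfsg Cfsg.Agent.LieClassical.HermSiegel Cfsg.Agent.LieClassical.HermBasic Matrix

variable {E : Type*} [Field E] [Fintype E] {q : ℕ}

/-- A hyperbolic frame of the Hermitian space of dimension three. -/
structure Fr (q : ℕ) (e₁ e₂ e₃ : Fin 3 → E) : Prop where
  h11 : hermForm 3 E q e₁ e₁ = 0
  h12 : hermForm 3 E q e₁ e₂ = 0
  h13 : hermForm 3 E q e₁ e₃ = 1
  h22 : hermForm 3 E q e₂ e₂ = 1
  h23 : hermForm 3 E q e₂ e₃ = 0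
  h33 : hermForm 3 E q e₃ e₃ = 0

theorem exists_fr (hF : Fintype.card E = q ^ 2) {e : Fin 3 → E} (he : hermForm 3 E q e e = 0) (he0 : e ≠ 0) :
    ∃ e₂ e₃, Fr q e e₂ e₃ := by
  classical
  have hfr : Module.finrank E (Submodule.span E {e}) = 1 := finrank_span_singleton he0
  have hW : ∀ u ∈ Submodule.span E {e}, ∀ v ∈ Submodule.span E {e}, hermForm 3 E q u v = 0 := by
    intro u hu v hv
    obtain ⟨a, rfl⟩ := Submodule.mem_span_singleton.1 hu
    obtain ⟨b, rfl⟩ := Submodule.mem_span_singleton.1 hv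
    rw [herm_smul_left, herm_smul_right, he, mul_zero, mul_zero]
  obtain ⟨e', g, f, h1, h2, h3, h4, h5, h6, h7⟩ :=
    Cfsg.Agent.ClassicalGeometry.HermFrame.exists_frame hF (k := 1) (m := 1) (by norm_num) hfr hW
  have h8 : e ∈ Submodule.span E (Set.range e') := by rw [h1]; exact Submodule.mem_span_singleton_self e
  have h9 : Set.range e' = {e' 0} := by
    ext x
    simp [Set.mem_range, Fin.exists_fin_one, eq_comm]
  rw [h9] at h8
  obtain ⟨c, hc⟩ := Submodule.mem_span_singleton.1 h8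
  have hc0 : c ≠ 0 := by
    rintro rfl
    rw [zero_smul] at hc
    exact he0 hc.symm
  have hcq : c ^ q ≠ 0 := pow_ne_zero _ hc0
  refine ⟨g 0, (c ^ q)⁻¹ • f 0, he, ?_, ?_, ?_, ?_, ?_⟩
  · rw [← hc, herm_smul_left, h3, mul_zero]
  · rw [← hc, herm_smul_left, herm_smul_right, h4, if_pos rfl, mul_one, inv_pow, pow_q_pow_q hF, mul_inv_cancel₀ hc0]
  · rw [h5, if_pos rfl]
  · rw [herm_smul_right, h6, mul_zero]
  · rw [herm_smul_left, herm_smul_right, h7, mul_zero, mul_zero]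

namespace Fr

variable {e₁ e₂ e₃ : Fin 3 → E}

theorem h21 (hF : Fintype.card E = q ^ 2) (h : Fr q e₁ e₂ e₃) : hermForm 3 E q e₂ e₁ = 0 := herm_eq_zero_swap hF h.h12

theorem h31 (hF : Fintype.card E = q ^ 2) (h : Fr q e₁ e₂ e₃) : hermForm 3 E q e₃ e₁ = 1 := by
  rw [herm_swap hF, h.h13, one_pow]

theorem h32 (hF : Fintype.card E = q ^ 2) (h : Fr q e₁ e₂ e₃) : hermForm 3 E q e₃ e₂ = 0 := herm_eq_zero_swap hF h.h23

theorem herm_comb (hF : Fintype.card E = q ^ 2) (h : Fr q e₁ e₂ e₃) (y x z y' x' z' : E) :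
    hermForm 3 E q (y • e₁ + x • e₂ + z • e₃) (y' • e₁ + x' • e₂ + z' • e₃) = y * z' ^ q + x * x' ^ q + z * y' ^ q := by
  simp only [herm_add_left, herm_add_right hF, herm_smul_left, herm_smul_right, h.h11, h.h12, h.h13, h.h22, h.h23,
    h.h33, h.h21 hF, h.h31 hF, h.h32 hF]
  ring

theorem linearIndependent (hF : Fintype.card E = q ^ 2) (h : Fr q e₁ e₂ e₃) :
    LinearIndependent E ![e₁, e₂, e₃] := by
  rw [Fintype.linearIndependent_iff]
  intro g hg
  rw [Fin.sum_univ_three] at hg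
  simp only [Matrix.cons_val_zero, Matrix.cons_val_one, Matrix.cons_val] at hg
  have key : ∀ w, hermForm 3 E q (g 0 • e₁ + g 1 • e₂ + g 2 • e₃) w = 0 := by
    intro w
    rw [hg, herm_zero_left]
  have k1 := h.herm_comb hF (g 0) (g 1) (g 2) 0 0 1
  have k2 := h.herm_comb hF (g 0) (g 1) (g 2) 0 1 0
  have k3 := h.herm_comb hF (g 0) (g 1) (g 2) 1 0 0
  rw [key] at k1 k2 k3
  simp only [one_pow, zero_pow_q hF, mul_one, mul_zero, add_zero, zero_add] at k1 k2 k3
  intro i
  fin_cases i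
  · exact k1.symm
  · exact k2.symm
  · exact k3.symm

theorem span_eq (hF : Fintype.card E = q ^ 2) (h : Fr q e₁ e₂ e₃) : Submodule.span E (Set.range ![e₁, e₂, e₃]) = ⊤ :=
  (h.linearIndependent hF).span_eq_top_of_card_eq_finrank' (by simp)

theorem exists_comb (hF : Fintype.card E = q ^ 2) (h : Fr q e₁ e₂ e₃) (u : Fin 3 → E) :
    ∃ y x z : E, u = y • e₁ + x • e₂ + z • e₃ := by
  have h1 : u ∈ Submodule.span E (Set.range ![e₁, e₂, e₃]) := by rw [h.span_eq hF]; trivial
  rw [Submodule.mem_span_range_iff_exists_fun] at h1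
  obtain ⟨c, hc⟩ := h1
  rw [Fin.sum_univ_three] at hc
  exact ⟨c 0, c 1, c 2, hc.symm⟩

theorem comb_ne_zero (hF : Fintype.card E = q ^ 2) (h : Fr q e₁ e₂ e₃) {y x z : E} (hz : z ≠ 0) :
    y • e₁ + x • e₂ + z • e₃ ≠ 0 := by
  intro h0
  have k3 := h.herm_comb hF y x z 1 0 0
  rw [h0, herm_zero_left] at k3
  simp only [one_pow, zero_pow_q hF, mul_one, mul_zero, zero_add] at k3
  exact hz k3.symm

end Fr

/-- isotropic vectors orthogonal to `e` are multiples of `e` -/
theorem eq_smul_of_orth (hF : Fintype.card E = q ^ 2) {e u : Fin 3 → E} (he : hermForm 3 E q e e = 0) (he0 : e ≠ 0)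
    (hu : hermForm 3 E q u u = 0) (hue : hermForm 3 E q u e = 0) : ∃ t : E, u = t • e := by
  obtain ⟨e₂, e₃, h⟩ := exists_fr hF he he0
  obtain ⟨y, x, z, rfl⟩ := h.exists_comb hF u
  have h1 := h.herm_comb hF y x z 1 0 0
  simp only [one_smul, zero_smul, add_zero, one_pow, zero_pow_q hF, mul_zero, mul_one, zero_add] at h1
  rw [hue] at h1
  subst h1
  have h2 := h.herm_comb hF y x 0 y x 0
  rw [hu] at h2
  simp only [zero_mul, mul_zero, zero_pow_q hF, add_zero, zero_add] at h2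
  have h3 : x = 0 := (norm_eq_zero hF).1 h2.symm
  subst h3
  exact ⟨y, by simp⟩

theorem exists_act_fix (hF : Fintype.card E = q ^ 2) {e v v' : Fin 3 → E} (he : hermForm 3 E q e e = 0)
    (hv : hermForm 3 E q v v = 0) (hv' : hermForm 3 E q v' v' = 0) (h1 : hermForm 3 E q v e = hermForm 3 E q v' e)
    (h0 : hermForm 3 E q v e ≠ 0) : ∃ g : SU 3 E q, act g e = e ∧ act g v = v' := by
  obtain ⟨c, μ, h, hm⟩ := exists_siegel_map hF he (hv.trans hv'.symm) h1 h0
  exact ⟨_, act_siegel_self hF h, hm⟩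

/-- nonorthogonal isotropic vectors are in the same orbit -/
theorem exists_act_aux (hF : Fintype.card E = q ^ 2) {u v : Fin 3 → E} (hu : hermForm 3 E q u u = 0)
    (hv : hermForm 3 E q v v = 0) (hvu : hermForm 3 E q v u ≠ 0) : ∃ g : SU 3 E q, act g u = v := by
  have hu0 : u ≠ 0 := by
    rintro rfl
    exact hvu (herm_zero_right hF _)
  obtain ⟨e₂, e₃, h⟩ := exists_fr hF hu hu0
  set s := hermForm 3 E q v u with hs
  have hsq : s ^ q ≠ 0 := pow_ne_zero _ hvu
  -- `z = a u + b e₂ + e₃` with `h(u, z) = 1 = h(s e₃, z)`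
  have key : ∃ g : SU 3 E q, act g u = s • e₃ := by
    obtain ⟨b, hb⟩ : ∃ b : E, b * b ^ q = -(s⁻¹ + (s⁻¹) ^ q) := by
      apply exists_norm_eq hF
      rw [neg_pow_q hF, add_pow_q hF, pow_q_pow_q hF, add_comm]
    have h1 := h.herm_comb hF 1 0 0 ((s⁻¹) ^ q) b 1
    have h2 := h.herm_comb hF 0 0 s ((s⁻¹) ^ q) b 1
    have h3 := h.herm_comb hF ((s⁻¹) ^ q) b 1 ((s⁻¹) ^ q) b 1
    have h4 := h.herm_comb hF 0 0 s 0 0 s
    set z := (s⁻¹) ^ q • u + b • e₂ + (1 : E) • e₃ with hz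
    simp only [one_smul, zero_smul, add_zero, zero_add, zero_mul, one_pow, mul_one, one_mul, pow_q_pow_q hF,
      mul_inv_cancel₀ hvu] at h1 h2 h3
    simp only [zero_smul, zero_add, zero_mul, zero_pow_q hF, mul_zero, add_zero] at h4
    obtain ⟨c, μ, h', hm⟩ := exists_siegel_map hF (u := z) (v := u) (v' := s • e₃) (by
      rw [h3, hb]
      ring) (by rw [hu, h4]) (by rw [h1, h2]) (by rw [h1]; exact one_ne_zero)
    exact ⟨_, hm⟩
  obtain ⟨g₁, hg₁⟩ := key
  have h5 : hermForm 3 E q (s • e₃) (s • e₃) = 0 := by rw [herm_smul_left, herm_smul_right, h.h33, mul_zero, mul_zero]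
  have h6 : hermForm 3 E q (s • e₃) u = s := by rw [herm_smul_left, h.h31 hF, mul_one]
  obtain ⟨g₂, -, hg₂⟩ := exists_act_fix hF hu h5 hv h6 (by rw [h6]; exact hvu)
  exact ⟨g₂ * g₁, by rw [act_mul, hg₁, hg₂]⟩

/-- **transitivity on isotropic vectors** -/
theorem exists_act (hF : Fintype.card E = q ^ 2) {u v : Fin 3 → E} (hu : hermForm 3 E q u u = 0) (hu0 : u ≠ 0)
    (hv : hermForm 3 E q v v = 0) (hv0 : v ≠ 0) : ∃ g : SU 3 E q, act g u = v := by
  by_cases h : hermForm 3 E q v u = 0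
  · obtain ⟨t, rfl⟩ := eq_smul_of_orth hF hu hu0 hv h
    have ht : t ≠ 0 := by
      rintro rfl
      exact hv0 (zero_smul _ _)
    obtain ⟨e₂, e₃, hfr⟩ := exists_fr hF hu hu0
    obtain ⟨g₁, hg₁⟩ := exists_act_aux hF hu hfr.h33 (by rw [hfr.h31 hF]; exact one_ne_zero)
    obtain ⟨g₂, hg₂⟩ := exists_act_aux hF hfr.h33 hv (by
      rw [herm_smul_left, hfr.h13, mul_one]; exact ht)
    exact ⟨g₂ * g₁, by rw [act_mul, hg₁, hg₂]⟩
  · exact exists_act_aux hF hu hv h

/-- the stabiliser of a vector -/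
def Stab (q : ℕ) (e : Fin 3 → E) : Subgroup (SU 3 E q) where
  carrier := {g | act g e = e}
  mul_mem' {a b} ha hb := by
    change act (a * b) e = e
    rw [act_mul, hb, ha]
  one_mem' := act_one e
  inv_mem' {a} ha := by
    change act a⁻¹ e = e
    conv_lhs => rw [← ha, act_inv_act]

omit [Fintype E] in
theorem mem_Stab {e : Fin 3 → E} {g : SU 3 E q} : g ∈ Stab q e ↔ act g e = e := Iff.rfl

theorem card_SU3 (hF : Fintype.card E = q ^ 2) : Nat.card (SU 3 E q) = q ^ 3 * ((q ^ 3 + 1) * (q ^ 2 - 1)) := by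
  have h := Cfsg.Agent.S0278.result hF 3 (by norm_num)
  simp only [Finset.prod_range_succ, Finset.prod_range_zero, one_mul] at h
  norm_num at h
  have h1 : Even 2 := ⟨1, rfl⟩
  have h0 : 0 < q + 1 := by omega
  apply Nat.eq_of_mul_eq_mul_left h0
  rw [h]
  ring

theorem card_Stab (hF : Fintype.card E = q ^ 2) {e : Fin 3 → E} (he : hermForm 3 E q e e = 0) (he0 : e ≠ 0) :
    Nat.card (Stab q e) = q ^ 3 := by
  classical
  let inst : MulAction (SU 3 E q) (Fin 3 → E) :=
    { smul := fun g v => act g v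
      one_smul := act_one
      mul_smul := fun g h v => act_mul g h v }
  have h1 := MulAction.card_orbit_mul_card_stabilizer_eq_card_group (SU 3 E q) e
  rw [← Nat.card_eq_fintype_card, ← Nat.card_eq_fintype_card, ← Nat.card_eq_fintype_card] at h1
  have h2 : Nat.card (MulAction.stabilizer (SU 3 E q) e) = Nat.card (Stab q e) := by
    apply Nat.card_congr
    exact Equiv.subtypeEquivRight fun g => Iff.rfl
  have h3 : MulAction.orbit (SU 3 E q) e = {v | hermForm 3 E q v v = 0} \ {0} := by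
    ext v
    constructor
    · rintro ⟨g, rfl⟩
      refine ⟨?_, ?_⟩
      · change hermForm 3 E q (act g e) (act g e) = 0
        rw [herm_act, he]
      · change act g e ≠ 0
        rw [Ne, act_eq_zero]
        exact he0
    · rintro ⟨hv, hv0⟩
      obtain ⟨g, hg⟩ := exists_act hF he he0 hv hv0
      exact ⟨g, hg⟩
  have h4 : Nat.card (MulAction.orbit (SU 3 E q) e) = (q ^ 3 + 1) * (q ^ 2 - 1) := by
    have h5 := Cfsg.Agent.LieClassical.HermCount.card_isotropic hF 3
    rw [if_neg (by decide)] at h5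
    simp only [Nat.reduceSub] at h5
    rw [h3]
    have h6 : (0 : Fin 3 → E) ∈ {v | hermForm 3 E q v v = 0} := herm_zero_left _
    have h7 := Set.ncard_sdiff_singleton_add_one h6 (Set.toFinite _)
    rw [← Nat.card_coe_set_eq, ← Nat.card_coe_set_eq] at h7
    have h8 : Nat.card ({v | hermForm 3 E q v v = 0} : Set (Fin 3 → E)) = (q ^ 3 + 1) * (q ^ 2 - 1) + 1 := h5
    omega
  have h10 : (q ^ 3 + 1) * (q ^ 2 - 1) * Nat.card (Stab q e) = Nat.card (SU 3 E q) := by
    rw [← h4, ← h2]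
    exact h1
  rw [card_SU3 hF] at h10
  have hq := two_le hF
  have h9 : 0 < (q ^ 3 + 1) * (q ^ 2 - 1) := by
    have : 1 < q ^ 2 := Nat.one_lt_pow (by norm_num) (by omega)
    exact Nat.mul_pos (by positivity) (by omega)
  apply Nat.eq_of_mul_eq_mul_left h9
  rw [h10]
  ring

theorem isPGroup_Stab (hF : Fintype.card E = q ^ 2) {p : ℕ} [hp : Fact p.Prime] [CharP E p] {e : Fin 3 → E}
    (he : hermForm 3 E q e e = 0) (he0 : e ≠ 0) : IsPGroup p (Stab q e) := by
  obtain ⟨n, hn⟩ : ∃ n, q = p ^ n := by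
    obtain ⟨m, -, hm⟩ := FiniteField.card E p
    rw [hF] at hm
    exact (Nat.dvd_prime_pow hp.out).1 (hm ▸ Dvd.intro_left q (by ring) : q ∣ p ^ (m : ℕ)) |>.imp fun k hk => hk.2
  apply IsPGroup.of_card (n := n * 3)
  rw [card_Stab hF he he0, hn, pow_mul]

end Cfsg.Agent.H929.U3
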