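import Cfsg.Agent.H929.UThreeMain

/-!
# Cores of type `PSU(3, q)`: the model (helper929)

* `Model` / **`core_model`** : the representation of `SU_3(q)`, the weight `b`, vectors, the kernel, equivariance;
* `sd_iff` : `SD P` iff `b = 1 + q`, and then `(p = 3 ∧ n = 7) ∨ (p ≠ 3 ∧ n = 8)` (**`core_psu3_sd`**).
-/

set_option autoImplicit false
set_option linter.unusedSectionVars false
set_option linter.style.haveILetI false

namespace Cfsg.Agent.H929.U3

open Cfsg Cfsg.Geo Cfsg.Agent.LieClassical.HermSiegel Cfsg.Agent.LieClassical.HermBasic Matrix Cfsg.Agent.H906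
  Cfsg.Agent.H915.LD Cfsg.Agent.H905.Md

universe u

/-! ### The adjoint module -/

/-- terms -/
def T11 : List (ℤ × (ℕ × ℕ × ℕ) × (ℕ × ℕ × ℕ)) :=
  [(-1, (0, 0, 2), (0, 0, 0)), (-2, (0, 0, 1), (0, 0, 1)), (-1, (0, 0, 0), (0, 0, 2)), (-1, (1, 1, 1), (0, 0, 0)),
    (-1, (1, 1, 0), (0, 0, 1)), (-1, (0, 0, 1), (1, 1, 0)), (-1, (0, 0, 0), (1, 1, 1)), (1, (0, 1, 1), (0, 1, 0)),
    (1, (0, 1, 0), (0, 1, 1)), (-1, (1, 0, 1), (1, 0, 0)), (-1, (1, 0, 0), (1, 0, 1)), (-1, (2, 1, 0), (1, 0, 0)),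
    (-1, (1, 0, 0), (2, 1, 0)), (1, (1, 1, 0), (1, 1, 0))]

/-- rows -/
def R11 : Fin 8 → ℕ × ℕ × ℕ :=
  ![(0, 0, 2), (0, 0, 1), (0, 0, 0), (1, 1, 0), (0, 1, 1), (0, 1, 0), (1, 0, 1), (1, 0, 0)]

/-- columns -/
def C11 : Fin 8 → ℕ × ℕ × ℕ :=
  ![(0, 0, 0), (0, 0, 1), (0, 0, 2), (1, 1, 0), (0, 1, 0), (0, 1, 1), (1, 0, 0), (1, 0, 1)]

/-- coefficients -/
def A11 : Fin 8 → Fin 8 → ℤ :=
  ![![-1, 0, 0, 0, 0, 0, 0, 0],
    ![0, -2, 0, -1, 0, 0, 0, 0],
    ![0, 0, -1, 0, 0, 0, 0, 0],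
    ![0, -1, 0, 1, 0, 0, 0, 0],
    ![0, 0, 0, 0, 1, 0, 0, 0],
    ![0, 0, 0, 0, 0, 1, 0, 0],
    ![0, 0, 0, 0, 0, 0, -1, 0],
    ![0, 0, 0, 0, 0, 0, 0, -1]]

/-- inverse -/
def B11 : Fin 8 → Fin 8 → ℤ :=
  ![![-3, 0, 0, 0, 0, 0, 0, 0],
    ![0, -1, 0, -1, 0, 0, 0, 0],
    ![0, 0, -3, 0, 0, 0, 0, 0],
    ![0, -1, 0, 2, 0, 0, 0, 0],
    ![0, 0, 0, 0, 3, 0, 0, 0],
    ![0, 0, 0, 0, 0, 3, 0, 0],
    ![0, 0, 0, 0, 0, 0, -3, 0],
    ![0, 0, 0, 0, 0, 0, 0, -3]]

theorem ent11 : ∀ s s', ent T11 (R11 s) (C11 s') = A11 s s' := by decide +kernel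

theorem inv11 : ∀ s s', ∑ t, B11 s t * A11 t s' = if s = s' then 3 else 0 := by decide +kernel

section

variable {E : Type*} [Field E] [Fintype E] {q : ℕ} {K : Type*} [Field K] {κ : Type} [Fintype κ] [DecidableEq κ]
  {j : E →+* K} {Φ V : Iso q E → κ → K}

theorem Ker.rank_11 (hF : Fintype.card E = q ^ 2) (h : Ker q j (1 + q * 1) Φ V) (hq : 3 ≤ q) (h3 : (3 : K) ≠ 0) :
    8 ≤ Fintype.card κ := by
  refine h.pivot_list hF T11 (fun t ht => ?_) ?_ R11 C11 (fun s => ?_) (fun s => ?_) A11 B11 3 ?_ ent11 inv11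
  · have : ∀ t ∈ T11, Small 3 t.2.1 ∧ Small 3 t.2.2 := by decide
    exact ⟨(this t ht).1.mono hq, (this t ht).2.mono hq⟩
  · intro z w
    rw [pow_expand hF]
    simp only [T11, List.map_cons, List.map_nil, List.sum_cons, List.sum_nil, Cfsg.Agent.H929.U3.mono]
    push_cast
    ring
  · have : ∀ s, Small 3 (R11 s) := by decide
    exact (this s).mono hq
  · have : ∀ s, Small 3 (C11 s) := by decide
    exact (this s).mono hq
  · have : ((3 : ℤ) : K) = 3 := by norm_num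
    rw [this]
    exact h3

theorem iso_sum (j : E →+* K) (u : Iso q E) :
    j (u.1 0) * j (u.1 0) ^ q + j (u.1 1) * j (u.1 1) ^ q + j (u.1 2) * j (u.1 2) ^ q = 0 := by
  have h1 := u.2.1
  rw [herm_three] at h1
  have h2 := congrArg j h1
  simpa using h2

theorem herm_q (hF : Fintype.card E = q ^ 2) (j : E →+* K) (u w : Fin 3 → E) :
    j (hermForm 3 E q u w) ^ q = j (u 0) ^ q * j (w 0) + j (u 1) ^ q * j (w 1) + j (u 2) ^ q * j (w 2) := by
  rw [← map_pow, herm_three, add_pow_q hF, add_pow_q hF, mul_pow, mul_pow, mul_pow, pow_q_pow_q hF, pow_q_pow_q hF,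
    pow_q_pow_q hF]
  simp only [map_add, map_mul, map_pow]

theorem Ker.le_adj (hF : Fintype.card E = q ^ 2) (h : Ker q j (1 + q) Φ V) : Fintype.card κ ≤ 8 := by
  have := h.le (S := Fin 8)
    ![fun u => j (u.1 0) * j (u.1 1) ^ q, fun u => j (u.1 0) * j (u.1 2) ^ q, fun u => j (u.1 1) * j (u.1 2) ^ q,
      fun u => j (u.1 1) * j (u.1 0) ^ q, fun u => j (u.1 2) * j (u.1 0) ^ q, fun u => j (u.1 2) * j (u.1 1) ^ q,
      fun u => j (u.1 0) * j (u.1 0) ^ q, fun u => j (u.1 1) * j (u.1 1) ^ q]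
    ![fun w => j (w.1 0) ^ q * j (w.1 1), fun w => j (w.1 0) ^ q * j (w.1 2), fun w => j (w.1 1) ^ q * j (w.1 2),
      fun w => j (w.1 1) ^ q * j (w.1 0), fun w => j (w.1 2) ^ q * j (w.1 0), fun w => j (w.1 2) ^ q * j (w.1 1),
      fun w => j (w.1 0) ^ q * j (w.1 0) - j (w.1 2) ^ q * j (w.1 2),
      fun w => j (w.1 1) ^ q * j (w.1 1) - j (w.1 2) ^ q * j (w.1 2)] (fun u w => by
    rw [pow_add, pow_one, herm_q hF, herm_three]
    have h1 := iso_sum j u
    simp only [map_add, map_mul, map_pow, Fin.sum_univ_succ, Matrix.cons_val_zero, Matrix.cons_val_succ,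
      Finset.univ_eq_empty, Finset.sum_empty]
    linear_combination (j (w.1 2) ^ q * j (w.1 2)) * h1)
  simpa using this

theorem Ker.le_adj' (hF : Fintype.card E = q ^ 2) (h3 : (3 : K) = 0) (h : Ker q j (1 + q) Φ V) :
    Fintype.card κ ≤ 7 := by
  have := h.le (S := Fin 7)
    ![fun u => j (u.1 0) * j (u.1 1) ^ q, fun u => j (u.1 0) * j (u.1 2) ^ q, fun u => j (u.1 1) * j (u.1 2) ^ q,
      fun u => j (u.1 1) * j (u.1 0) ^ q, fun u => j (u.1 2) * j (u.1 0) ^ q, fun u => j (u.1 2) * j (u.1 1) ^ q,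
      fun u => j (u.1 1) * j (u.1 1) ^ q - j (u.1 0) * j (u.1 0) ^ q]
    ![fun w => j (w.1 0) ^ q * j (w.1 1), fun w => j (w.1 0) ^ q * j (w.1 2), fun w => j (w.1 1) ^ q * j (w.1 2),
      fun w => j (w.1 1) ^ q * j (w.1 0), fun w => j (w.1 2) ^ q * j (w.1 0), fun w => j (w.1 2) ^ q * j (w.1 1),
      fun w => j (w.1 0) ^ q * j (w.1 0) - j (w.1 1) ^ q * j (w.1 1)] (fun u w => by
    rw [pow_add, pow_one, herm_q hF, herm_three]
    have h1 := iso_sum j u
    have h2 := iso_sum j w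
    simp only [map_add, map_mul, map_pow, Fin.sum_univ_succ, Matrix.cons_val_zero, Matrix.cons_val_succ,
      Finset.univ_eq_empty, Finset.sum_empty]
    linear_combination (j (w.1 2) ^ q * j (w.1 2)) * h1 -
      (j (u.1 0) * j (u.1 0) ^ q + j (u.1 1) * j (u.1 1) ^ q) * h2 +
      (j (u.1 0) * j (u.1 0) ^ q * (j (w.1 0) * j (w.1 0) ^ q) + j (u.1 1) * j (u.1 1) ^ q * (j (w.1 1) * j (w.1 1) ^ q)) *
        h3)
  simpa using this

end

/-! ### The model -/

section

variable {E : Type*} [Field E] [Fintype E] {q : ℕ}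

/-- action on nonzero isotropic vectors -/
def actIso (g : SU 3 E q) (w : Iso q E) : Iso q E :=
  ⟨act g w.1, by rw [herm_act]; exact w.2.1, by rw [Ne, act_eq_zero]; exact w.2.2⟩

variable {K : Type*} [Field K] {κ : Type} [Fintype κ] [DecidableEq κ] {M : SU 3 E q →* Matrix κ κ K} {e : Fin 3 → E}

/-- orbit maps through fixed vectors -/
theorem exists_orbit (hF : Fintype.card E = q ^ 2) (he : hermForm 3 E q e e = 0) (he0 : e ≠ 0) {v : κ → K}
    (hv : v ∈ fixSub M (Stab q e)) : ∃ V : Iso q E → κ → K, ∀ g, V (actIso g ⟨e, he, he0⟩) = M g *ᵥ v := by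
  have hg : ∀ u : Iso q E, ∃ g : SU 3 E q, act g e = u.1 := fun u => exists_act hF he he0 u.2.1 u.2.2
  choose g hg using hg
  refine ⟨fun w => M (g w) *ᵥ v, fun k => ?_⟩
  have h1 := hg (actIso k ⟨e, he, he0⟩)
  have h2 : (g (actIso k ⟨e, he, he0⟩))⁻¹ * k ∈ Stab q e := by
    have h9 := act_inv_act (g (actIso k ⟨e, he, he0⟩)) e
    rw [h1] at h9
    rw [mem_Stab, act_mul]
    exact h9
  have h3 : k = g (actIso k ⟨e, he, he0⟩) * ((g (actIso k ⟨e, he, he0⟩))⁻¹ * k) := by group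
  conv_rhs => rw [h3, rho_mul, hv _ h2]

theorem exists_actIso (hF : Fintype.card E = q ^ 2) (he : hermForm 3 E q e e = 0) (he0 : e ≠ 0) (w : Iso q E) :
    ∃ g : SU 3 E q, actIso g ⟨e, he, he0⟩ = w := by
  obtain ⟨g, hg⟩ := exists_act hF he he0 w.2.1 w.2.2
  exact ⟨g, Subtype.ext hg⟩

end

/-- A core of type `PSU(3, q)` with its model: `b` is the exponent of the coefficient function. -/
structure SU3Data {F : Type u} [Field F] {ι : Type} [Fintype ι] [DecidableEq ι] (P : Subgroup (GL ι F)) (p : ℕ)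
    (E : Type) [Field E] [Fintype E] (q : ℕ) (e : Soc P ≃* PSU 3 E q) : Type (max u 1) where
  f : ℕ
  hq : q = p ^ f
  rep : SU 3 E q →* GL ι F
  range_rep : rep.range = P
  ker_rep : rep.ker ≤ Subgroup.center (SU 3 E q)
  proj : ∀ g, ∃ hg : rep g ∈ P, prj e ⟨rep g, hg⟩ = g
  span : Submodule.span (AlgebraicClosure F) (Set.range (acRep rep)) = ⊤
  j : E →+* AlgebraicClosure F
  e₀ : Fin 3 → E
  iso : hermForm 3 E q e₀ e₀ = 0
  ne : e₀ ≠ 0
  b : ℕ
  ψ : ι → AlgebraicClosure F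
  v : ι → AlgebraicClosure F
  wt : IsWt j (acRep rep) e₀ b ψ
  v_ne : v ≠ 0
  v_mem : v ∈ fixSub (acRep rep) (Stab q e₀)
  coef : ∀ g : SU 3 E q, ψ ⬝ᵥ (acRep rep g⁻¹ *ᵥ v) = j (hermForm 3 E q (act g e₀) e₀) ^ b
  Φ : Iso q E → ι → AlgebraicClosure F
  V : Iso q E → ι → AlgebraicClosure F
  Φ_eq : ∀ g, Φ (actIso g ⟨e₀, iso, ne⟩) = contra (acRep rep) g *ᵥ ψ
  V_eq : ∀ g, V (actIso g ⟨e₀, iso, ne⟩) = acRep rep g *ᵥ v
  ker : Ker q j b Φ V
  good : Good p f (Fintype.card ι) b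

section

variable {F : Type u} [Field F] {ι : Type} [Fintype ι] [DecidableEq ι] {P : Subgroup (GL ι F)} {p : ℕ}
  {E : Type} [Field E] [Fintype E] {q : ℕ} {e : Soc P ≃* PSU 3 E q} (D : SU3Data P p E q e)

theorem SU3Data.V_act (hE : Fintype.card E = q ^ 2) (g : SU 3 E q) (w : Iso q E) :
    D.V (actIso g w) = acRep D.rep g *ᵥ D.V w := by
  obtain ⟨k, rfl⟩ := exists_actIso hE D.iso D.ne w
  have h1 : actIso g (actIso k ⟨D.e₀, D.iso, D.ne⟩) = actIso (g * k) ⟨D.e₀, D.iso, D.ne⟩ :=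
    Subtype.ext (act_mul g k D.e₀).symm
  rw [h1, D.V_eq, D.V_eq, rho_mul]

theorem SU3Data.Φ_act (hE : Fintype.card E = q ^ 2) (g : SU 3 E q) (w : Iso q E) :
    D.Φ (actIso g w) = contra (acRep D.rep) g *ᵥ D.Φ w := by
  obtain ⟨k, rfl⟩ := exists_actIso hE D.iso D.ne w
  have h1 : actIso g (actIso k ⟨D.e₀, D.iso, D.ne⟩) = actIso (g * k) ⟨D.e₀, D.iso, D.ne⟩ :=
    Subtype.ext (act_mul g k D.e₀).symm
  rw [h1, D.Φ_eq, D.Φ_eq, rho_mul]

end

section Main

variable {F : Type u} [Field F] [Finite F] {ι : Type} [Fintype ι] [DecidableEq ι] {P : Subgroup (GL ι F)}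
  (p : ℕ) [hp : Fact p.Prime] [hFp : CharP F p] {E : Type} [Field E] [Fintype E] [hEp : CharP E p]

include p hp hFp hEp in
/-- **the model** -/
theorem core_model {q : ℕ} (hC : Core P) (hq3 : 3 ≤ q) (hE : Fintype.card E = q ^ 2) (e : Soc P ≃* PSU 3 E q)
    (hn : Fintype.card ι ≤ 12) : Nonempty (SU3Data P p E q e) := by
  classical
  have hne := hC.nonempty
  have hp2 := hp.out.two_le
  obtain ⟨f, hq⟩ : ∃ f, q = p ^ f := by
    obtain ⟨m, -, hm⟩ := FiniteField.card E p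
    rw [hE] at hm
    exact (Nat.dvd_prime_pow hp.out).1 (hm ▸ Dvd.intro_left q (by ring) : q ∣ p ^ (m : ℕ)) |>.imp fun k hk => hk.2
  obtain ⟨φ₀, h1, h2, h3⟩ := psu_cover p hC.perfect le_rfl hE (by omega) e
  have hchar : CharP (AlgebraicClosure F) p := charP_of_injective_algebraMap (algebraMap F _).injective p
  obtain ⟨j⟩ := exists_embed E (AlgebraicClosure F) p
  have hM := span_acRep h1 (H920.span_eq_top hC.absIrred)
  have hn3 : Fintype.card ι < q ^ 3 := by
    have : 3 ^ 3 ≤ q ^ 3 := Nat.pow_le_pow_left hq3 3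
    omega
  obtain ⟨e₀, he, he0⟩ : ∃ e : Fin 3 → E, hermForm 3 E q e e = 0 ∧ e ≠ 0 := by
    obtain ⟨t, ht⟩ := exists_norm_eq hE (c := (-1 : E)) (by rw [neg_pow_q hE, one_pow])
    refine ⟨![1, t, 0], ?_, fun h0 => by simpa using congrFun h0 0⟩
    rw [herm_def, Fin.sum_univ_three]
    simp [zero_pow_q hE, ht]
  obtain ⟨a, ha1, ha2, ψ, v, hψ, hv0, hv, hc⟩ := exists_model (j := j) hE he he0 hM p hn3 hC.two_le
  obtain ⟨Φ', V', hK'⟩ := exists_ker hE he he0 hM hψ hv0 hv hc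
  obtain ⟨b, ⟨r, hrot⟩, hgood⟩ := hK'.classify hE hq hq3 (by omega) ha2 hn
  obtain ⟨Φ, hΦ⟩ := exists_orbit (M := contra (acRep φ₀)) hE he he0 hψ.fix
  obtain ⟨V, hV⟩ := exists_orbit (M := acRep φ₀) hE he he0 hv
  let j' : E →+* AlgebraicClosure F := j.comp (iterateFrobenius E p r)
  have hjj : ∀ x, j' x ^ b = j x ^ a := by
    intro x
    change j (iterateFrobenius E p r x) ^ b = j x ^ a
    rw [iterateFrobenius_def, ← map_pow, ← map_pow, ← pow_mul, hrot]
  exact ⟨{ f := f, hq := hq, rep := φ₀, range_rep := h1, ker_rep := h2, proj := h3, span := hM, j := j', e₀ := e₀,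
           iso := he, ne := he0, b := b, ψ := ψ, v := v
           wt := ⟨hψ.1, fun g t ht hg => by rw [hjj]; exact hψ.2 g t ht hg⟩
           v_ne := hv0, v_mem := hv
           coef := fun g => by rw [hc, hjj]
           Φ := Φ, V := V, Φ_eq := hΦ, V_eq := hV
           ker := by
             refine ⟨?_, ?_, ?_⟩
             · intro u w
               obtain ⟨g, rfl⟩ := exists_actIso hE he he0 u
               obtain ⟨k, rfl⟩ := exists_actIso hE he he0 w
               have h4 : (contra (acRep φ₀) g *ᵥ ψ) ⬝ᵥ (acRep φ₀ k *ᵥ v) = ψ ⬝ᵥ (acRep φ₀ (k⁻¹ * g)⁻¹ *ᵥ v) := by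
                 rw [dot_contra, _root_.mul_inv_rev, inv_inv, map_mul, Matrix.mulVec_mulVec]
               rw [hΦ, hV, h4, hc, hjj, act_mul, ← herm_act k, act_act_inv]
               rfl
             · rw [← span_orbit (contra (acRep φ₀)) (span_contra hM) hψ.1]
               congr 1
               ext x
               constructor
               · rintro ⟨u, rfl⟩
                 obtain ⟨g, rfl⟩ := exists_actIso hE he he0 u
                 exact ⟨g, (hΦ g).symm⟩
               · rintro ⟨g, rfl⟩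
                 exact ⟨_, hΦ g⟩
             · rw [← span_orbit (acRep φ₀) hM hv0]
               congr 1
               ext x
               constructor
               · rintro ⟨u, rfl⟩
                 obtain ⟨g, rfl⟩ := exists_actIso hE he he0 u
                 exact ⟨g, (hV g).symm⟩
               · rintro ⟨g, rfl⟩
                 exact ⟨_, hV g⟩
           good := hgood }⟩

include p hp hFp hEp in
/-- `SD P` iff the exponent is `1 + q` -/
theorem SU3Data.sd_iff {q : ℕ} (hC : Core P) (hq3 : 3 ≤ q) (hE : Fintype.card E = q ^ 2) {e : Soc P ≃* PSU 3 E q}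
    (hn : Fintype.card ι ≤ 12) (D : SU3Data P p E q e) : SD P ↔ D.b = 1 + q := by
  have hcj := core_psu_cj p hC le_rfl hE (by omega) e
  have hchar : CharP (AlgebraicClosure F) p := charP_of_injective_algebraMap (algebraMap F _).injective p
  have hn3 : Fintype.card ι < q ^ 3 := by
    have : 3 ^ 3 ≤ q ^ 3 := Nat.pow_le_pow_left hq3 3
    omega
  have hp1 : 1 ≤ p ^ D.f := Nat.one_le_pow _ _ hp.out.pos
  have hb0 : D.b ≠ 0 := by
    rcases D.good with h | h | h | ⟨i, h⟩ | h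
    · omega
    · omega
    · omega
    · have := h.2.2.1
      omega
    · omega
  constructor
  · intro hsd
    have hfr : H915.LD.Fr P q := H915.LD.Fr.of_sd_cj hsd hcj
    have hx := hC.pow_eq p (k := D.f) (by rw [← D.hq]; exact hfr)
    obtain ⟨σ, hσ⟩ := exists_frob F p D.f
    have hfix : ∀ g, (acRep D.rep g).map σ = acRep D.rep g := by
      intro g
      ext x y
      rw [acRep_apply, Matrix.map_apply, Matrix.map_apply, hσ, ← map_pow, hx]
    have hfb := exp_fixed hE D.iso D.ne D.span p hn3 hb0 D.wt D.v_ne D.v_mem D.coef σ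
      (pow_ne_zero _ hp.out.ne_zero) hσ hfix
    have hf0 : D.f ≠ 0 := by
      intro h
      have := D.hq
      rw [h, pow_zero] at this
      omega
    have hle := le_of_fixed hp.out.two_le (by omega) hE D.hq hf0 le_rfl hb0 hfb
    have hq := D.hq
    rcases D.good with h | h | h | ⟨i, hi, hif, h, -⟩ | h
    · omega
    · omega
    · have : p ^ 1 ≤ p ^ D.f := Nat.pow_le_pow_right hp.out.pos (by omega)
      rw [pow_one] at this
      omega
    · have : p ^ i < p ^ D.f := Nat.pow_lt_pow_right hp.out.one_lt hif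
      omega
    · omega
  · intro hb
    have hfix : ∀ x : E, (x ^ D.b) ^ q = x ^ D.b := by
      intro x
      have h2 : x ^ (q ^ 2) = x := by rw [← hE, FiniteField.pow_card]
      rw [hb, ← pow_mul, add_mul, one_mul, ← pow_two, pow_add, h2, pow_add, pow_one, mul_comm]
    obtain ⟨σ, hσ⟩ := exists_frob F p D.f
    have hfr : H915.LD.Fr P q := by
      intro g hg
      rw [← D.range_rep] at hg
      obtain ⟨y, rfl⟩ := hg
      have h2 := trace_fixed_of_coef D.span σ D.wt.1 D.v_ne (one_ne_zero) (fun g => by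
        have h3 := D.coef g⁻¹
        rw [inv_inv] at h3
        rw [h3, hσ, ← D.hq, one_mul, ← map_pow, ← map_pow, hfix]) y
      rw [hσ, ← D.hq, trace_acRep, ← map_pow] at h2
      exact (algebraMap F (AlgebraicClosure F)).injective h2
    exact SD.of_fr_cj hfr hcj

include p hp hFp hEp in
/-- **the self-dual case**: the adjoint module -/
theorem core_psu3_sd {q : ℕ} (hC : Core P) (hq3 : 3 ≤ q) (hE : Fintype.card E = q ^ 2) (e : Soc P ≃* PSU 3 E q)
    (hn : Fintype.card ι ≤ 12) (hsd : SD P) :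
    (p = 3 ∧ Fintype.card ι = 7) ∨ (p ≠ 3 ∧ Fintype.card ι = 8) := by
  classical
  obtain ⟨D⟩ := core_model p hC hq3 hE e hn
  have hchar : CharP (AlgebraicClosure F) p := charP_of_injective_algebraMap (algebraMap F _).injective p
  have hb := (D.sd_iff p hC hq3 hE hn).1 hsd
  have hK := D.ker
  rw [hb] at hK
  have hK' : Ker q D.j (1 + q * 1) D.Φ D.V := by rw [mul_one]; exact hK
  have h7 := hK'.rank_two hE (a' := 1) (a'' := 1) (by omega)
  have hdc : 2 ≤ ((Finset.range q).filter fun i => (((1 : ℕ).choose i : ℕ) : AlgebraicClosure F) ≠ 0).card := by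
    have h1 : ({0, 1} : Finset ℕ) ⊆ (Finset.range q).filter
        fun i => (((1 : ℕ).choose i : ℕ) : AlgebraicClosure F) ≠ 0 := by
      intro x hx
      rw [Finset.mem_insert, Finset.mem_singleton] at hx
      rw [Finset.mem_filter, Finset.mem_range]
      rcases hx with rfl | rfl
      · exact ⟨by omega, by simp⟩
      · exact ⟨by omega, by simp⟩
    have h2 := Finset.card_le_card h1
    rwa [Finset.card_pair (by norm_num)] at h2
  have h8 := Nat.mul_le_mul hdc hdc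
  by_cases hp3 : p = 3
  · left
    refine ⟨hp3, le_antisymm ?_ (by omega)⟩
    subst hp3
    have h3 : (3 : AlgebraicClosure F) = 0 := by
      have := CharP.cast_eq_zero (AlgebraicClosure F) 3
      simpa using this
    exact hK.le_adj' hE h3
  · right
    refine ⟨hp3, le_antisymm (hK.le_adj hE) (hK'.rank_11 hE hq3 ?_)⟩
    have h3 := (cast_ne_iff (K := AlgebraicClosure F) (p := p) (m := 3)).2 (fun hd =>
      hp3 ((Nat.prime_dvd_prime_iff_eq hp.out Nat.prime_three).1 hd))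
    simpa using h3

end Main

end Cfsg.Agent.H929.U3
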