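import Cfsg.Agent.S5642

/-!
Symplectic similarity groups are maximal in `SL`: general index type (the proof is the one of
`S5642`, by helper873, which is stated there for `n ≥ 13`).
-/

set_option autoImplicit false
set_option linter.unusedSectionVars false

namespace Cfsg.Agent.H929

open Matrix Cfsg.Agent.H873 Cfsg.Agent.S5642

variable {ι : Type} [Fintype ι] [DecidableEq ι]

/-- The similarity group of a symplectic form is maximal in `SL`, `n ≥ 3` (so `n ≥ 4`). -/
theorem symplectic_similarity_maximal {F : Type*} [Field F] (hn : 3 ≤ Fintype.card ι)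
    {f : (ι → F) → (ι → F) → F} (hf : Cfsg.Geo.IsSymplecticForm f) :
    Cfsg.Geo.IsMaximalIn (Cfsg.Geo.specialLinear ι F)
      (Cfsg.Geo.similarityGroup f ⊓ Cfsg.Geo.specialLinear ι F) := by
  classical
  have : Nontrivial ι := Fintype.one_lt_card_iff_nontrivial.1 (by omega)
  refine ⟨lt_of_le_of_ne inf_le_right ?_, ?_⟩
  · -- properness
    intro hEq
    have hSL : ∀ {a φ : ι → F}, φ ⬝ᵥ a = 0 → HasTv (Cfsg.Geo.similarityGroup f) a φ := by
      intro a φ h
      have := hasTv_specialLinear (ι := ι) (F := F) h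
      rw [← hEq] at this
      exact this.mono inf_le_left
    obtain ⟨i0⟩ : Nonempty ι := inferInstance
    let a : ι → F := Pi.single i0 1
    have ha : a ≠ 0 := by
      intro h
      have := congrFun h i0
      simp [a] at this
    obtain ⟨-, b, hb⟩ := hf.nondegenerate a ha
    -- a nonzero functional killing a and b
    obtain ⟨φ, hφ0, hφa, hφb⟩ : ∃ φ : ι → F, φ ≠ 0 ∧ φ ⬝ᵥ a = 0 ∧ φ ⬝ᵥ b = 0 := by
      let L : (ι → F) →ₗ[F] (F × F) :=
        { toFun := fun φ => (φ ⬝ᵥ a, φ ⬝ᵥ b)
          map_add' := fun x y => by simp [add_dotProduct]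
          map_smul' := fun c x => by simp [smul_dotProduct] }
      have hker : LinearMap.ker L ≠ ⊥ := by
        apply LinearMap.ker_ne_bot_of_finrank_lt
        simp
        omega
      obtain ⟨φ, hφ, hφ0⟩ := (Submodule.ne_bot_iff _).1 hker
      have h1 : L φ = 0 := hφ
      have h2 : (φ ⬝ᵥ a, φ ⬝ᵥ b) = ((0 : F), (0 : F)) := h1
      exact ⟨φ, hφ0, (Prod.ext_iff.1 h2).1, (Prod.ext_iff.1 h2).2⟩
    obtain ⟨v, hv⟩ : ∃ v, φ ⬝ᵥ v ≠ 0 := by
      by_contra hc
      push Not at hc
      exact hφ0 (dot_ext fun u => by rw [hc u, zero_dotProduct])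
    obtain ⟨h0, g, ⟨c, hc⟩, hg⟩ := hSL hφa
    have h1 := hc a b
    rw [hg, one_add_mulVec, one_add_mulVec, hφa, hφb, zero_smul, add_zero, add_zero] at h1
    have hc1 : (c : F) = 1 := by
      have : ((c : F) - 1) * f a b = 0 := by rw [sub_mul, ← h1, one_mul, sub_self]
      rcases mul_eq_zero.1 this with h | h
      · exact sub_eq_zero.1 h
      · exact absurd h hb
    have h2 := hc b v
    rw [hg, one_add_mulVec, one_add_mulVec, hφb, zero_smul, add_zero, hc1, one_mul,
      hf.bilinear.add_right, hf.bilinear.smul_right] at h2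
    have h3 : (φ ⬝ᵥ v) * f b a = 0 := by
      have : f b v + (φ ⬝ᵥ v) * f b a - f b v = 0 := by rw [h2, sub_self]
      rwa [add_sub_cancel_left] at this
    rcases mul_eq_zero.1 h3 with h | h
    · exact hv h
    · apply hb
      rw [hf.skew, h, neg_zero]
  · intro M hM hMS
    by_cases hle : M ≤ Cfsg.Geo.similarityGroup f
    · left
      exact le_antisymm (le_inf hle hMS) hM
    · right
      refine le_antisymm hMS ?_
      obtain ⟨g, hgM, hgn⟩ := SetLike.not_le_iff_exists.1 hle
      have h1 : ¬ ∀ v, v ≠ 0 → ∃ c : F, ∀ u, f v u =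
          c * f ((g : Matrix ι ι F) *ᵥ v) ((g : Matrix ι ι F) *ᵥ u) := fun h =>
        hgn (sim_of_prop hf g h)
      push Not at h1
      obtain ⟨v, hv0, hv⟩ := h1
      have hginv : ∀ x, (g : Matrix ι ι F) *ᵥ (((g⁻¹ : GL ι F) : Matrix ι ι F) *ᵥ x) = x := by
        intro x
        rw [mulVec_mulVec, ← Units.val_mul, mul_inv_cancel, Units.val_one, one_mulVec]
      have hginv' : ∀ x, ((g⁻¹ : GL ι F) : Matrix ι ι F) *ᵥ ((g : Matrix ι ι F) *ᵥ x) = x := by
        intro x
        rw [mulVec_mulVec, ← Units.val_mul, inv_mul_cancel, Units.val_one, one_mulVec]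
      have hx : HasTv M v (rep f v) := by
        have := (hasTv_symp hf 1 v).mono hM
        rwa [one_smul] at this
      have hx' := hx.conj hgM
      set ψ := rep f v ᵥ* ((g⁻¹ : GL ι F) : Matrix ι ι F) with hψ
      have hψdot : ∀ u, ψ ⬝ᵥ u = f v (((g⁻¹ : GL ι F) : Matrix ι ι F) *ᵥ u) := by
        intro u
        rw [hψ, ← dotProduct_mulVec, rep_dot hf.bilinear]
      have hψ0 : ψ ≠ 0 := by
        intro h0
        obtain ⟨-, x, hx⟩ := hf.nondegenerate v hv0
        apply hx
        have := hψdot ((g : Matrix ι ι F) *ᵥ x)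
        rw [hginv', h0, zero_dotProduct] at this
        exact this.symm
      have hp : ∀ c : F, rep f ((g : Matrix ι ι F) *ᵥ v) ≠ c • ψ := by
        intro c hcc
        have hc0 : c ≠ 0 := by
          rintro rfl
          rw [zero_smul] at hcc
          have hne : (g : Matrix ι ι F) *ᵥ v ≠ 0 := by
            intro h0
            apply hv0
            rw [← hginv' v, h0, mulVec_zero]
          obtain ⟨-, x, hx⟩ := hf.nondegenerate _ hne
          apply hx
          rw [← rep_dot hf.bilinear, hcc, zero_dotProduct]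
        obtain ⟨u, hu⟩ := hv c⁻¹
        apply hu
        rw [← rep_dot hf.bilinear (((g : Matrix ι ι F) *ᵥ v)), hcc, smul_dotProduct, hψdot, hginv',
          smul_eq_mul, ← mul_assoc, inv_mul_cancel₀ hc0, one_mul]
      have hfull := full_axis hf hM hx' hp
      obtain ⟨w, hw⟩ := exists_rep hf ψ
      have hw0 : w ≠ 0 := by
        rintro rfl
        apply hψ0
        rw [← hw]
        have := rep_smul hf.bilinear 0 (0 : ι → F)
        simpa using this
      refine top_of_full hf hM hw0 ?_
      intro b hb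
      rw [hw]
      refine hfull b ?_
      rw [← hw, rep_dot hf.bilinear, hb]


end Cfsg.Agent.H929
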