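import Cfsg.Agent.H871.DecompOne
import Cfsg.Agent.H872.TensorMax
import Cfsg.Agent.H873.SubfieldMain
import Cfsg.Agent.H923.Ext
import Cfsg.Agent.H929.MonoFiveSL
import Cfsg.Agent.H929.SimSp
import Cfsg.Agent.S5643
import Cfsg.Agent.S5644

/-!
The geometric maximal subgroups of `SL_n(q)`, general `n`: decompositions (`dec_one`, `dec_two`,
`dec_three`) in the form used by the statements about small dimensions.
-/

set_option autoImplicit false
set_option linter.unusedSectionVars false

namespace Cfsg.Agent.H929.SLGeo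

open Matrix

variable {ι : Type} [Fintype ι] [DecidableEq ι] {F : Type*} [Field F] [Fintype F]

theorem dec_one (hn : 5 ≤ Fintype.card ι) (hF : 5 ≤ Fintype.card F) {t : ℕ}
    (D : Fin t → Submodule F (ι → F)) (hD : Cfsg.Geo.IsMDecomposition 1 D) :
    Cfsg.Geo.IsMaximalIn (Cfsg.Geo.specialLinear ι F)
      (Cfsg.Geo.decompositionStabilizer D ⊓ Cfsg.Geo.specialLinear ι F) := by
  have : Nontrivial ι := Fintype.one_lt_card_iff_nontrivial.1 (by omega)
  exact Cfsg.Agent.H871.decomp_maximal_one hD fun M hM hMS =>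
    MonoFive.sl_monomial_five hM hMS (by rw [Nat.card_eq_fintype_card]; exact hF) hn

theorem dec_two (hF : 3 ≤ Fintype.card F) {t : ℕ} (ht : 3 ≤ t)
    (D : Fin t → Submodule F (ι → F)) (hD : Cfsg.Geo.IsMDecomposition 2 D) :
    Cfsg.Geo.IsMaximalIn (Cfsg.Geo.specialLinear ι F)
      (Cfsg.Geo.decompositionStabilizer D ⊓ Cfsg.Geo.specialLinear ι F) := by
  apply Cfsg.Agent.H871.decomp_maximal_two hD le_rfl
  right
  right
  refine ⟨ht, ?_⟩
  have : Nontrivial Fˣ := by
    rw [← Finite.one_lt_card_iff_nontrivial, Nat.card_units, Nat.card_eq_fintype_card]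
    omega
  exact exists_ne 1

theorem dec_three {t m : ℕ} (hm : 3 ≤ m)
    (D : Fin t → Submodule F (ι → F)) (hD : Cfsg.Geo.IsMDecomposition m D) :
    Cfsg.Geo.IsMaximalIn (Cfsg.Geo.specialLinear ι F)
      (Cfsg.Geo.decompositionStabilizer D ⊓ Cfsg.Geo.specialLinear ι F) :=
  Cfsg.Agent.H871.decomp_maximal_two hD (by omega) (Or.inl hm)

end Cfsg.Agent.H929.SLGeo
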