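import Cfsg.Agent.H873.Tv

/-!
Full axes and full centres of transvections in a subgroup `M` of `GL ι F`: `FullAxis M ψ` says that
all transvections with axis `ker ψ` lie in `M`. The full axes form a subspace, stable under `M`; if
it is everything then `SL ≤ M`. Dually for centres.
-/

set_option autoImplicit false
set_option linter.unusedSectionVars false

namespace Cfsg.Agent.H929

open Matrix Cfsg.Agent.H873

variable {ι : Type} [Fintype ι] [DecidableEq ι] {F : Type*} [Field F]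

/-- All transvections with axis `ker ψ` lie in `M`. -/
def FullAxis (M : Subgroup (GL ι F)) (ψ : ι → F) : Prop := ∀ b, ψ ⬝ᵥ b = 0 → HasTv M b ψ

/-- All transvections with centre `v` lie in `M`. -/
def FullCentre (M : Subgroup (GL ι F)) (v : ι → F) : Prop := ∀ φ, φ ⬝ᵥ v = 0 → HasTv M v φ

theorem dot_ext {φ ψ : ι → F} (h : ∀ u, φ ⬝ᵥ u = ψ ⬝ᵥ u) : φ = ψ := by
  ext j
  have := h (Pi.single j 1)
  simpa using this

theorem dot_ext' {φ ψ : ι → F} (h : ∀ u, u ⬝ᵥ φ = u ⬝ᵥ ψ) : φ = ψ := by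
  ext j
  have := h (Pi.single j 1)
  simpa using this

/-- If two functionals are not proportional and the second is nonzero then the kernel of the
second is not contained in the kernel of the first. -/
theorem exists_ker {φ ψ : ι → F} (h : ∀ c : F, φ ≠ c • ψ) : ∃ a, ψ ⬝ᵥ a = 0 ∧ φ ⬝ᵥ a ≠ 0 := by
  by_contra hcon
  push Not at hcon
  by_cases hψ : ψ = 0
  · refine h 0 ?_
    rw [zero_smul]
    apply dot_ext
    intro u
    rw [zero_dotProduct]
    exact hcon u (by rw [hψ, zero_dotProduct])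
  · obtain ⟨w, hw⟩ : ∃ w, ψ ⬝ᵥ w ≠ 0 := by
      by_contra hc
      push Not at hc
      exact hψ (dot_ext fun u => by rw [hc u, zero_dotProduct])
    refine h ((φ ⬝ᵥ w) / (ψ ⬝ᵥ w)) (dot_ext fun u => ?_)
    have h1 := hcon (u - ((ψ ⬝ᵥ u) / (ψ ⬝ᵥ w)) • w) (by
      rw [dotProduct_sub, dotProduct_smul, smul_eq_mul]
      field_simp
      ring)
    rw [dotProduct_sub, dotProduct_smul, smul_eq_mul, sub_eq_zero] at h1
    rw [h1, smul_dotProduct, smul_eq_mul]
    field_simp

/-- Dual of `exists_ker`. -/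
theorem exists_ker' {v w : ι → F} (h : ∀ c : F, v ≠ c • w) : ∃ φ : ι → F, φ ⬝ᵥ w = 0 ∧ φ ⬝ᵥ v ≠ 0 := by
  obtain ⟨a, h1, h2⟩ := exists_ker h
  exact ⟨a, by rw [dotProduct_comm, h1], by rw [dotProduct_comm]; exact h2⟩

variable {M : Subgroup (GL ι F)}

theorem FullAxis.zero : FullAxis M (0 : ι → F) := fun b _ => hasTv_zero_right M b

theorem FullAxis.smul {ψ : ι → F} (h : FullAxis M ψ) (c : F) : FullAxis M (c • ψ) := by
  intro b hb
  rw [← hasTv_smul_comm]
  by_cases hc : c = 0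
  · rw [hc, zero_smul]; exact hasTv_zero_left M ψ
  · apply h
    rw [smul_dotProduct, smul_eq_mul] at hb
    rw [dotProduct_smul, smul_eq_mul, hb]

theorem FullCentre.zero : FullCentre M (0 : ι → F) := fun b _ => hasTv_zero_left M b

theorem FullCentre.smul {v : ι → F} (h : FullCentre M v) (c : F) : FullCentre M (c • v) := by
  intro φ hb
  rw [hasTv_smul_comm]
  by_cases hc : c = 0
  · rw [hc, zero_smul]; exact hasTv_zero_right M v
  · apply h
    rw [dotProduct_smul, smul_eq_mul] at hb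
    rw [smul_dotProduct, smul_eq_mul, hb]

theorem FullAxis.add {ψ ψ' : ι → F} (h : FullAxis M ψ) (h' : FullAxis M ψ') :
    FullAxis M (ψ + ψ') := by
  by_cases hp : ∀ c : F, ψ' ≠ c • ψ
  · obtain ⟨b, hb, hb'⟩ := exists_ker hp
    -- normalise
    have hb2 : ψ' ⬝ᵥ ((-(ψ' ⬝ᵥ b)⁻¹) • b) = -1 := by
      rw [dotProduct_smul, smul_eq_mul, neg_mul, inv_mul_cancel₀ hb']
    set b' := (-(ψ' ⬝ᵥ b)⁻¹) • b with hb'def
    have hb3 : ψ ⬝ᵥ b' = 0 := by rw [hb'def, dotProduct_smul, hb, smul_zero]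
    intro x hx
    rw [add_dotProduct] at hx
    have hx1 : ψ' ⬝ᵥ (x - (ψ ⬝ᵥ x) • b') = 0 := by
      rw [dotProduct_sub, dotProduct_smul, hb2, smul_eq_mul]
      linear_combination hx
    have h1 := (h' _ hx1).conj_tv (h b' hb3)
    rw [hb2, dotProduct_sub, dotProduct_smul, hb3, smul_zero, sub_zero] at h1
    have h2 : x - (ψ ⬝ᵥ x) • b' + (ψ ⬝ᵥ x) • b' = x := sub_add_cancel _ _
    rw [h2] at h1
    have h3 : ψ' - (-1 : F) • ψ = ψ + ψ' := by rw [neg_one_smul, sub_neg_eq_add, add_comm]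
    rwa [h3] at h1
  · push Not at hp
    obtain ⟨c, rfl⟩ := hp
    have : ψ + c • ψ = (1 + c) • ψ := by rw [add_smul, one_smul]
    rw [this]
    exact h.smul _

theorem FullCentre.add {v v' : ι → F} (h : FullCentre M v) (h' : FullCentre M v') :
    FullCentre M (v + v') := by
  by_cases hp : ∀ c : F, v' ≠ c • v
  · obtain ⟨φ, hb, hb'⟩ := exists_ker' hp
    have hb2 : ((φ ⬝ᵥ v')⁻¹ • φ) ⬝ᵥ v' = 1 := by
      rw [smul_dotProduct, smul_eq_mul, inv_mul_cancel₀ hb']
    set φ' := (φ ⬝ᵥ v')⁻¹ • φ with hφ'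
    have hb3 : φ' ⬝ᵥ v = 0 := by rw [hφ', smul_dotProduct, hb, smul_zero]
    intro χ hχ
    rw [dotProduct_add] at hχ
    -- conjugating the transvections with centre v' by t(v, φ')
    have hx1 : (χ + (χ ⬝ᵥ v) • φ') ⬝ᵥ v' = 0 := by
      rw [add_dotProduct, smul_dotProduct, hb2, smul_eq_mul]
      linear_combination hχ
    have h1 := (h' _ hx1).conj_tv (h φ' hb3)
    rw [hb2, one_smul, add_dotProduct, smul_dotProduct, hb3, smul_zero, add_zero] at h1
    have h2 : χ + (χ ⬝ᵥ v) • φ' - (χ ⬝ᵥ v) • φ' = χ := add_sub_cancel_right _ _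
    rw [h2] at h1
    rwa [add_comm v v']
  · push Not at hp
    obtain ⟨c, rfl⟩ := hp
    have : v + c • v = (1 + c) • v := by rw [add_smul, one_smul]
    rw [this]
    exact h.smul _

theorem inv_mulVec_cancel (g : GL ι F) (x : ι → F) :
    ((g⁻¹ : GL ι F) : Matrix ι ι F) *ᵥ ((g : Matrix ι ι F) *ᵥ x) = x := by
  rw [mulVec_mulVec, ← Units.val_mul, inv_mul_cancel, Units.val_one, one_mulVec]

theorem mulVec_inv_cancel (g : GL ι F) (x : ι → F) :
    (g : Matrix ι ι F) *ᵥ (((g⁻¹ : GL ι F) : Matrix ι ι F) *ᵥ x) = x := by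
  rw [mulVec_mulVec, ← Units.val_mul, mul_inv_cancel, Units.val_one, one_mulVec]

theorem vecMul_inv_cancel (g : GL ι F) (φ : ι → F) :
    (φ ᵥ* (g : Matrix ι ι F)) ᵥ* ((g⁻¹ : GL ι F) : Matrix ι ι F) = φ := by
  rw [vecMul_vecMul, ← Units.val_mul, mul_inv_cancel, Units.val_one, vecMul_one]

theorem FullAxis.conj {ψ : ι → F} (h : FullAxis M ψ) {g : GL ι F} (hg : g ∈ M) :
    FullAxis M (ψ ᵥ* ((g⁻¹ : GL ι F) : Matrix ι ι F)) := by
  intro b hb
  have h1 := (h (((g⁻¹ : GL ι F) : Matrix ι ι F) *ᵥ b) (by rw [dotProduct_mulVec]; exact hb)).conj hg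
  rwa [mulVec_inv_cancel] at h1

theorem FullCentre.conj {v : ι → F} (h : FullCentre M v) {g : GL ι F} (hg : g ∈ M) :
    FullCentre M ((g : Matrix ι ι F) *ᵥ v) := by
  intro φ hφ
  have h1 := (h (φ ᵥ* (g : Matrix ι ι F)) (by rw [← dotProduct_mulVec]; exact hφ)).conj hg
  rwa [vecMul_inv_cancel] at h1

/-- The subspace of full axes. -/
def axes (M : Subgroup (GL ι F)) : Submodule F (ι → F) where
  carrier := {ψ | FullAxis M ψ}
  add_mem' := fun h h' => FullAxis.add h h'
  zero_mem' := FullAxis.zero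
  smul_mem' := fun c _ h => FullAxis.smul h c

/-- The subspace of full centres. -/
def centres (M : Subgroup (GL ι F)) : Submodule F (ι → F) where
  carrier := {v | FullCentre M v}
  add_mem' := fun h h' => FullCentre.add h h'
  zero_mem' := FullCentre.zero
  smul_mem' := fun c _ h => FullCentre.smul h c

theorem mem_axes {ψ : ι → F} : ψ ∈ axes M ↔ FullAxis M ψ := Iff.rfl

theorem mem_centres {v : ι → F} : v ∈ centres M ↔ FullCentre M v := Iff.rfl

theorem sl_le_of_axes [Nontrivial ι] (h : axes M = ⊤) : Cfsg.Geo.specialLinear ι F ≤ M := by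
  refine specialLinear_le_of_hasTv fun i j hij c => ?_
  have h1 : FullAxis M (Pi.single j 1) := by rw [← mem_axes, h]; trivial
  exact h1 _ (by simp [hij])

theorem sl_le_of_centres [Nontrivial ι] (h : centres M = ⊤) : Cfsg.Geo.specialLinear ι F ≤ M := by
  refine specialLinear_le_of_hasTv fun i j hij c => ?_
  have h1 : FullCentre M (c • (Pi.single i 1 : ι → F)) := by rw [← mem_centres, h]; trivial
  exact h1 _ (by simp [hij])

end Cfsg.Agent.H929
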