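import Cfsg.Agent.H929.Herm
import Cfsg.Agent.H929.Full
import Cfsg.Agent.H905.SLProper3

/-!
The similarity group of a unitary form meets `SL_n(q)` in a maximal subgroup, `n ≥ 4`.
-/

set_option autoImplicit false
set_option linter.unusedSectionVars false

namespace Cfsg.Agent.H929

open Matrix Cfsg.Agent.H873

variable {ι : Type} [Fintype ι] [DecidableEq ι] {F : Type*} [Field F] {σ : F ≃+* F}
  {f : (ι → F) → (ι → F) → F}

/-- Irreducibility (over the prime field) of the group generated by isotropic transvections on a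
non-degenerate hermitian space `H` containing a hyperbolic pair and a non-isotropic vector
orthogonal to it. -/
theorem Herm.irr [Finite F] (hf : Herm σ f) (hne : σ ≠ RingEquiv.refl F)
    (H : Submodule F (ι → F)) (hnd : ∀ x ∈ H, x ≠ 0 → ∃ y ∈ H, f x y ≠ 0)
    (h2 : ∀ v ∈ H, ∃ x ∈ H, ∀ c : F, x ≠ c • v)
    (h3 : ∀ a ∈ H, ∀ b ∈ H, f a a = 0 → f b b = 0 → f a b = 1 →
      ∃ z ∈ H, f a z = 0 ∧ f b z = 0 ∧ f z z ≠ 0)
    (C : Set (ι → F)) (hadd : ∀ x ∈ C, ∀ y ∈ C, x + y ∈ C)
    (hneg : ∀ x ∈ C, -x ∈ C)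
    (hstab : ∀ b ∈ C, ∀ a ∈ H, f a a = 0 → ∀ c : F, σ c = -c → (c * f b a) • a ∈ C)
    (hCH : ∀ x ∈ C, x ∈ H) {v : ι → F} (hv : v ∈ C) (hv0 : v ≠ 0) :
    ∀ x ∈ H, x ∈ C := by
  obtain ⟨e, he0, he⟩ := exists_trace_zero hf.inv hne
  obtain ⟨t₁, ht₁⟩ := exists_trace_one hf.inv hne
  have hsub : ∀ x ∈ C, ∀ y ∈ C, x - y ∈ C := fun x hx y hy => by
    rw [sub_eq_add_neg]; exact hadd x hx _ (hneg y hy)
  -- an isotropic multiple
  obtain ⟨a, haH, haa, hva⟩ := hf.exists_isotropic_not_orth hne H hnd h2 (hCH v hv) hv0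
  have ha0 : a ≠ 0 := by
    rintro rfl
    rw [hf.zero_right] at hva
    exact hva rfl
  have hca := hstab v hv a haH haa e he
  set c := e * f v a with hc
  have hc0 : c ≠ 0 := mul_ne_zero he0 hva
  obtain ⟨b, hbH, hbb, hab⟩ := hf.exists_hyperbolic hne H hnd haH ha0 haa
  obtain ⟨z, hzH, haz, hbz, hzz⟩ := h3 a haH b hbH haa hbb hab
  have hba : f b a = 1 := by rw [hf.herm, hab, map_one]
  have hza : f z a = 0 := by rw [hf.herm, haz, map_zero]
  have hzb : f z b = 0 := by rw [hf.herm, hbz, map_zero]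
  -- the isotropic vectors b + t a + s z
  have hiso : ∀ s t : F, t + σ t = -(s * σ s * f z z) →
      f (b + t • a + s • z) (b + t • a + s • z) = 0 := by
    intro s t ht
    simp only [hf.add_left, hf.add_right, hf.smul_left, hf.smul_right, haa, hbb, hab, hba, haz,
      hbz, hza, hzb]
    linear_combination ht
  have hmem : ∀ s t : F, t + σ t = -(s * σ s * f z z) →
      (e * c) • (b + t • a + s • z) ∈ C := by
    intro s t ht
    have h1 := hstab _ hca (b + t • a + s • z)
      (H.add_mem (H.add_mem hbH (H.smul_mem _ haH)) (H.smul_mem _ hzH)) (hiso s t ht) e he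
    have h4 : f (c • a) (b + t • a + s • z) = c := by
      rw [hf.smul_left, hf.add_right, hf.add_right, hf.smul_right, hf.smul_right, haa, hab, haz]
      ring
    rwa [h4] at h1
  -- existence of t
  have hex : ∀ s : F, ∃ t : F, t + σ t = -(s * σ s * f z z) := by
    intro s
    refine ⟨-(s * σ s * f z z) * t₁, ?_⟩
    rw [map_mul, map_neg, map_mul, map_mul, hf.inv, hf.self_fixed]
    linear_combination (-(s * σ s * f z z)) * ht₁
  -- trace-zero multiples
  have hzero : ∀ t : F, t + σ t = 0 → (e * c) • (t • a) ∈ C := by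
    intro t ht
    have h1 := hmem 0 t (by rw [ht]; ring)
    have h4 := hmem 0 0 (by rw [map_zero]; ring)
    have h5 := hsub _ h1 _ h4
    have h6 : (e * c) • (b + t • a + (0 : F) • z) - (e * c) • (b + (0 : F) • a + (0 : F) • z) =
        (e * c) • (t • a) := by
      rw [← smul_sub]; congr 1; simp
    rwa [h6] at h5
  have hall0 : ∀ t : F, (e * c) • (t • a) ∈ C := by
    intro t
    -- k = - Tr t / f z z, s = k, s' = t₁
    set k := -(t + σ t) / f z z with hk
    have hkfix : σ k = k := by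
      rw [hk, map_div₀, hf.self_fixed, map_neg, map_add, hf.inv, add_comm (σ t)]
    obtain ⟨u1, hu1⟩ := hex k
    obtain ⟨u2, hu2⟩ := hex t₁
    obtain ⟨u3, hu3⟩ := hex (k + t₁)
    have h1 := hmem _ _ hu1
    have h4 := hmem _ _ hu2
    have h5 := hmem _ _ hu3
    have h6 := hmem 0 0 (by rw [map_zero]; ring)
    have h7 := hsub _ (hadd _ h5 _ h6) _ (hadd _ h1 _ h4)
    have h8 : (e * c) • (b + u3 • a + (k + t₁) • z) + (e * c) • (b + (0 : F) • a + (0 : F) • z) -
        ((e * c) • (b + u1 • a + k • z) + (e * c) • (b + u2 • a + t₁ • z)) =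
        (e * c) • ((u3 - u1 - u2) • a) := by
      rw [← smul_add, ← smul_add, ← smul_sub]
      congr 1
      simp only [sub_smul, add_smul, zero_smul]
      abel
    rw [h8] at h7
    have h9 : (t - (u3 - u1 - u2)) + σ (t - (u3 - u1 - u2)) = 0 := by
      have hkz : k * f z z = -(t + σ t) := by rw [hk, div_mul_cancel₀ _ hzz]
      simp only [map_sub, map_add, hkfix] at hu1 hu2 hu3 ⊢
      linear_combination -hu3 + hu1 + hu2 + hkz + (k * f z z) * ht₁
    have h10 := hadd _ (hzero _ h9) _ h7
    have h11 : (e * c) • ((t - (u3 - u1 - u2)) • a) + (e * c) • ((u3 - u1 - u2) • a) =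
        (e * c) • (t • a) := by
      rw [← smul_add, ← add_smul, sub_add_cancel]
    rwa [h11] at h10
  -- F a ⊆ C
  have hec0 : e * c ≠ 0 := mul_ne_zero he0 hc0
  have hFa : ∀ s : F, s • a ∈ C := by
    intro s
    have := hall0 ((e * c)⁻¹ * s)
    rwa [smul_smul, ← mul_assoc, mul_inv_cancel₀ hec0, one_mul] at this
  -- F b' ⊆ C for every isotropic b' with f a b' = 1
  have hFb : ∀ b' ∈ H, f b' b' = 0 → f a b' = 1 → ∀ s : F, s • b' ∈ C := by
    intro b' hb' hbb' hab' s
    have h1 := hstab _ (hFa (e⁻¹ * s)) b' hb' hbb' e he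
    rw [hf.smul_left, hab', mul_one, ← mul_assoc, mul_inv_cancel₀ he0, one_mul] at h1
    exact h1
  have hFz : ∀ z' ∈ H, f a z' = 0 → f b z' = 0 → z' ∈ C := by
    intro z' hz' haz' hbz'
    have hza' : f z' a = 0 := by rw [hf.herm, haz', map_zero]
    have hzb' : f z' b = 0 := by rw [hf.herm, hbz', map_zero]
    set t := -(f z' z') * t₁ with ht
    have h1 := hFb (b + t • a + z') (H.add_mem (H.add_mem hbH (H.smul_mem _ haH)) hz') (by
      simp only [hf.add_left, hf.add_right, hf.smul_left, hf.smul_right, haa, hbb, hab, hba, haz',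
        hbz', hza', hzb']
      rw [ht, map_mul, map_neg, hf.self_fixed]
      linear_combination (-(f z' z')) * ht₁) (by
      rw [hf.add_right, hf.add_right, hf.smul_right, haa, hab, haz']; ring) 1
    have h4 := hFb b hbH hbb hab 1
    have h5 := hsub _ (hsub _ h1 _ h4) _ (hFa t)
    have h6 : (1 : F) • (b + t • a + z') - (1 : F) • b - t • a = z' := by
      rw [one_smul, one_smul]; abel
    rwa [h6] at h5
  intro x hx
  have hx' : x - f x b • a - f x a • b ∈ C := by
    apply hFz
    · exact H.sub_mem (H.sub_mem hx (H.smul_mem _ haH)) (H.smul_mem _ hbH)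
    · rw [hf.herm, hf.sub_left, hf.sub_left, hf.smul_left, hf.smul_left, haa, hba, mul_zero,
        sub_zero, mul_one, sub_self, map_zero]
    · rw [hf.herm, hf.sub_left, hf.sub_left, hf.smul_left, hf.smul_left, hbb, hab, mul_zero,
        sub_zero, mul_one, sub_self, map_zero]
  have h4 := hadd _ (hadd _ hx' _ (hFa (f x b))) _ (hFb b hbH hbb hab (f x a))
  have h5 : x - f x b • a - f x a • b + f x b • a + f x a • b = x := by abel
  rwa [h5] at h4

/-- A non-zero non-degenerate hermitian space has a non-isotropic vector. -/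
theorem Herm.exists_nonisotropic (hf : Herm σ f) (hne : σ ≠ RingEquiv.refl F)
    (H : Submodule F (ι → F)) (hnd : ∀ x ∈ H, x ≠ 0 → ∃ y ∈ H, f x y ≠ 0)
    {x : ι → F} (hx : x ∈ H) (hx0 : x ≠ 0) : ∃ u ∈ H, f u u ≠ 0 := by
  by_cases hxx : f x x = 0
  · obtain ⟨y, hy, hxy⟩ := hnd x hx hx0
    by_cases hyy : f y y = 0
    · obtain ⟨t, ht⟩ := exists_trace_one hf.inv hne
      refine ⟨x + σ (t / f x y) • y, H.add_mem hx (H.smul_mem _ hy), ?_⟩
      have : f (x + σ (t / f x y) • y) (x + σ (t / f x y) • y) = 1 := by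
        rw [hf.add_left, hf.add_right, hf.add_right, hf.smul_left, hf.smul_left,
          hf.smul_right, hf.smul_right, hxx, hyy, hf.herm y x, hf.inv, ← map_mul,
          div_mul_cancel₀ _ hxy]
        linear_combination ht
      rw [this]; exact one_ne_zero
    · exact ⟨y, hy, hyy⟩
  · exact ⟨x, hx, hxx⟩

/-- The coordinate vector of the functional `f · v`. -/
def rC (f : (ι → F) → (ι → F) → F) (v : ι → F) : ι → F := fun j => f (Pi.single j 1) v

theorem Herm.sum_left (hf : Herm σ f) (v : ι → F)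
    {κ : Type} (s : Finset κ) (g : κ → ι → F) : f (∑ i ∈ s, g i) v = ∑ i ∈ s, f (g i) v := by
  classical
  induction s using Finset.induction_on with
  | empty => simpa using hf.zero_left v
  | insert a s ha ih => rw [Finset.sum_insert ha, Finset.sum_insert ha, hf.add_left, ih]

theorem Herm.rC_dot (hf : Herm σ f) (v u : ι → F) : rC f v ⬝ᵥ u = f u v := by
  conv_rhs => rw [pi_eq_sum_univ u]
  rw [hf.sum_left]
  unfold dotProduct rC
  refine Finset.sum_congr rfl fun j _ => ?_
  rw [hf.smul_left, mul_comm]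
  congr 2
  ext i
  simp [Pi.single_apply, eq_comm]

theorem Herm.rC_add (hf : Herm σ f) (v w : ι → F) : rC f (v + w) = rC f v + rC f w := by
  ext j; exact hf.add_right _ v w

theorem Herm.rC_neg (hf : Herm σ f) (v : ι → F) : rC f (-v) = - rC f v := by
  ext j; exact hf.neg_right _ v

theorem Herm.rC_smul (hf : Herm σ f) (c : F) (v : ι → F) : rC f (c • v) = σ c • rC f v := by
  ext j; exact hf.smul_right c _ v

theorem Herm.exists_rC (hf : Herm σ f) (hnd : ∀ x, x ≠ 0 → ∃ y, f x y ≠ 0) (ψ : ι → F) :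
    ∃ w, rC f w = ψ := by
  let L : (ι → F) →ₗ[F] (ι → F) :=
    { toFun := fun w j => f w (Pi.single j 1)
      map_add' := fun v w => by ext j; exact hf.add_left v w _
      map_smul' := fun c v => by ext j; exact hf.smul_left c v _ }
  have hinj : Function.Injective L := by
    rw [injective_iff_map_eq_zero]
    intro v hv
    by_contra hne
    obtain ⟨y, hy⟩ := hnd v hne
    apply hy
    rw [hf.herm, ← hf.rC_dot]
    have : rC f v = 0 := by
      ext j
      have h1 : f v (Pi.single j 1) = 0 := congrFun hv j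
      change f (Pi.single j 1) v = 0
      rw [hf.herm, h1, map_zero]
    rw [this, zero_dotProduct, map_zero]
  obtain ⟨w, hw⟩ := LinearMap.surjective_of_injective hinj (fun j => σ (ψ j))
  refine ⟨w, ?_⟩
  ext j
  have h1 : f w (Pi.single j 1) = σ (ψ j) := congrFun hw j
  change f (Pi.single j 1) w = _
  rw [hf.herm, h1, hf.inv]

/-- Unitary transvections lie in the similarity group. -/
theorem hasTv_unit (hf : Herm σ f) {c : F} (hc : σ c = -c) {v : ι → F} (hv : f v v = 0) :
    HasTv (Cfsg.Geo.similarityGroup f ⊓ Cfsg.Geo.specialLinear ι F) (c • v) (rC f v) := by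
  have h0 : rC f v ⬝ᵥ (c • v) = 0 := by
    rw [hf.rC_dot, hf.smul_left, hv, mul_zero]
  rw [hasTv_iff]
  refine ⟨h0, ?_, tv_mem_specialLinear _ _ h0⟩
  refine ⟨1, fun x y => ?_⟩
  rw [tv_mulVec, tv_mulVec, hf.rC_dot, hf.rC_dot, hf.add_left, hf.add_right, hf.add_right,
    hf.smul_left, hf.smul_left, hf.smul_left, hf.smul_left, hf.smul_right, hf.smul_right,
    hf.smul_right, hf.smul_right, hv, hc, Units.val_one, hf.herm v y]
  ring

/-- The main theorem: a subgroup of `GL` containing the special similarities of a non-degenerate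
unitary form and an element which is not a similarity contains `SL`. -/
theorem sl_le_of_unitary [Finite F] (hn : 4 ≤ Fintype.card ι) (hf : Cfsg.Geo.IsUnitaryForm σ f)
    {M : Subgroup (GL ι F)}
    (hM : Cfsg.Geo.similarityGroup f ⊓ Cfsg.Geo.specialLinear ι F ≤ M) {g : GL ι F} (hgM : g ∈ M)
    (hg : g ∉ Cfsg.Geo.similarityGroup f) : Cfsg.Geo.specialLinear ι F ≤ M := by
  have hne := hf.ne_refl
  have hF := Herm.of_unitary hf
  have hnd : ∀ x, x ≠ 0 → ∃ y, f x y ≠ 0 := fun x hx => (hf.nondegenerate x hx).2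
  have hnt : Nontrivial ι := Fintype.one_lt_card_iff_nontrivial.1 (by omega)
  obtain ⟨e, he0, he⟩ := exists_trace_zero hF.inv hne
  -- the transported form
  set gi : Matrix ι ι F := ((g⁻¹ : GL ι F) : Matrix ι ι F) with hgi
  set f' : (ι → F) → (ι → F) → F := fun x y => f (gi *ᵥ x) (gi *ᵥ y) with hf'
  have hF' : Herm σ f' := by
    refine ⟨hF.inv, fun x y v => ?_, fun c x v => ?_, fun v w => ?_⟩
    · simp only [hf', mulVec_add, hF.add_left]
    · simp only [hf', mulVec_smul, hF.smul_left]
    · simp only [hf']; exact hF.herm _ _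
  have hgx : ∀ x, gi *ᵥ ((g : Matrix ι ι F) *ᵥ x) = x := inv_mulVec_cancel g
  have hgx' : ∀ x, (g : Matrix ι ι F) *ᵥ (gi *ᵥ x) = x := mulVec_inv_cancel g
  have hnd' : ∀ x, x ≠ 0 → ∃ y, f' x y ≠ 0 := by
    intro x hx
    obtain ⟨y, hy⟩ := hnd (gi *ᵥ x) (fun h0 => hx (by rw [← hgx' x, h0, mulVec_zero]))
    exact ⟨(g : Matrix ι ι F) *ᵥ y, by simp only [hf', hgx]; exact hy⟩
  -- B
  have hB : ∀ x, ∃ w, rC f w = rC f' x := fun x => hF.exists_rC hnd _
  choose B hBx using hB
  have hB' : ∀ x y, f y (B x) = f' y x := fun x y => by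
    rw [← hF.rC_dot, hBx, hF'.rC_dot]
  have hinj : ∀ u w : ι → F, (∀ y, f y u = f y w) → u = w := by
    intro u w huw
    by_contra hne
    obtain ⟨y, hy⟩ := hnd (u - w) (sub_ne_zero.2 hne)
    apply hy
    rw [hF.herm, hF.sub_right, huw, sub_self, map_zero]
  have hBadd : ∀ x y, B (x + y) = B x + B y := fun x y => hinj _ _ fun z => by
    rw [hF.add_right, hB', hB', hB', hF'.add_right]
  have hBsmul : ∀ (c : F) x, B (c • x) = c • B x := fun c x => hinj _ _ fun z => by
    rw [hF.smul_right, hB', hB', hF'.smul_right]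
  obtain ⟨v, hv, hw⟩ : ∃ v, f' v v = 0 ∧ f (B v) (B v) ≠ 0 := by
    by_contra hcon
    push Not at hcon
    have hh : Herm σ (fun x y => f (B x) (B y)) := by
      refine ⟨hF.inv, fun x y v => ?_, fun c x v => ?_, fun v w => hF.herm _ _⟩
      · simp only [hBadd, hF.add_left]
      · simp only [hBsmul, hF.smul_left]
    obtain ⟨c, hc, hcc⟩ := hF'.prop_of_isotropic hh hne hnd' (by omega) hcon
    have hBc : ∀ x, B x = c • x := by
      intro x
      by_contra hne
      obtain ⟨y, hy⟩ := hnd' (B x - c • x) (sub_ne_zero.2 hne)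
      apply hy
      rw [hF'.sub_left, hF'.smul_left, ← hcc, ← hB', sub_self]
    apply hg
    have hsim : g⁻¹ ∈ Cfsg.Geo.similarityGroup f := by
      have hc0 : c ≠ 0 := by
        rintro rfl
        obtain ⟨i, -⟩ := exists_pair_ne ι
        have h0 : (Pi.single i 1 : ι → F) ≠ 0 := by
          intro h0
          have := congrFun h0 i
          simp at this
        obtain ⟨y, hy⟩ := hnd' _ h0
        apply hy
        rw [hF'.herm, ← hB', hBc, zero_smul, hF.zero_right, map_zero]
      refine ⟨Units.mk0 c hc0, fun x y => ?_⟩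
      change f' x y = _
      rw [← hB', hBc, hF.smul_right, hc, Units.val_mk0]
    have := (Cfsg.Geo.similarityGroup f).inv_mem hsim
    rwa [inv_inv] at this
  set w := B v with hwdef
  set ψ := rC f w with hψ
  have hψdot : ∀ x, ψ ⬝ᵥ x = f x w := fun x => hF.rC_dot w x
  have hv0 : v ≠ 0 := by
    rintro rfl
    apply hw
    have : w = 0 := by
      rw [hwdef]
      have := hBsmul 0 0
      simpa using this
    rw [this, hF.zero_left]
  -- the transvection with axis ψ
  have hTv : HasTv M (e • v) ψ := by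
    have h1 := ((hasTv_unit hF he (v := gi *ᵥ v) hv).mono hM).conj hgM
    rw [mulVec_smul, hgx'] at h1
    have h2 : rC f (gi *ᵥ v) ᵥ* ((g⁻¹ : GL ι F) : Matrix ι ι F) = ψ := by
      rw [hψ, hBx]
      apply dot_ext
      intro x
      rw [← dotProduct_mulVec, hF.rC_dot, hF'.rC_dot]
    rwa [h2] at h1
  -- the hyperplane
  let H : Submodule F (ι → F) :=
    { carrier := {x | ψ ⬝ᵥ x = 0}
      add_mem' := fun {a b} ha hb => by
        change ψ ⬝ᵥ (a + b) = 0
        rw [dotProduct_add, show ψ ⬝ᵥ a = 0 from ha, show ψ ⬝ᵥ b = 0 from hb, add_zero]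
      zero_mem' := by simp
      smul_mem' := fun c x hx => by
        change ψ ⬝ᵥ (c • x) = 0
        rw [dotProduct_smul, show ψ ⬝ᵥ x = 0 from hx, smul_zero] }
  have hmemH : ∀ x, x ∈ H ↔ f x w = 0 := fun x => by rw [← hψdot]; rfl
  have hHnd : ∀ x ∈ H, x ≠ 0 → ∃ y ∈ H, f x y ≠ 0 := by
    intro x hx hx0
    obtain ⟨y, hy⟩ := hnd x hx0
    refine ⟨y - (f y w / f w w) • w, ?_, ?_⟩
    · rw [hmemH, hF.sub_left, hF.smul_left, div_mul_cancel₀ _ hw, sub_self]
    · rw [hF.sub_right, hF.smul_right, (hmemH x).1 hx, mul_zero, sub_zero]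
      exact hy
  have hH2 : ∀ v ∈ H, ∃ x ∈ H, ∀ c : F, x ≠ c • v := by
    intro v hv
    let L : (ι → F) →ₗ[F] F :=
      { toFun := fun x => ψ ⬝ᵥ x
        map_add' := fun x y => dotProduct_add _ _ _
        map_smul' := fun c x => by simp [dotProduct_smul] }
    have hker : H = LinearMap.ker L := by ext x; rfl
    by_contra hcon
    push Not at hcon
    have hle : H ≤ Submodule.span F {v} := by
      intro x hx
      obtain ⟨c, hc⟩ := hcon x hx
      rw [hc]
      exact Submodule.smul_mem _ _ (Submodule.mem_span_singleton_self v)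
    have h1 := Submodule.finrank_mono hle
    have h2 : Module.finrank F (Submodule.span F {v}) ≤ 1 := by
      have := finrank_span_le_card (R := F) ({v} : Set (ι → F))
      simpa using this
    have h3 := L.finrank_range_add_finrank_ker
    have h4 : Module.finrank F (LinearMap.range L) ≤ 1 := by
      calc _ ≤ Module.finrank F F := Submodule.finrank_le _
        _ = 1 := Module.finrank_self F
    rw [Module.finrank_pi] at h3
    rw [hker] at h1
    omega
  have hH3 : ∀ a ∈ H, ∀ b ∈ H, f a a = 0 → f b b = 0 → f a b = 1 →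
      ∃ z ∈ H, f a z = 0 ∧ f b z = 0 ∧ f z z ≠ 0 := by
    intro a ha b hb haa hbb hab
    have hba : f b a = 1 := by rw [hF.herm, hab, map_one]
    have haw := (hmemH a).1 ha
    have hbw := (hmemH b).1 hb
    have hwa : f w a = 0 := by rw [hF.herm, haw, map_zero]
    have hwb : f w b = 0 := by rw [hF.herm, hbw, map_zero]
    let L : (ι → F) →ₗ[F] (Fin 3 → F) :=
      { toFun := fun x => ![f x w, f x a, f x b]
        map_add' := fun x y => by simp [hF.add_left]
        map_smul' := fun c x => by simp [hF.smul_left] }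
    have hmemL : ∀ x, x ∈ LinearMap.ker L ↔ f x w = 0 ∧ f x a = 0 ∧ f x b = 0 := by
      intro x
      rw [LinearMap.mem_ker]
      constructor
      · intro h0
        exact ⟨congrFun h0 0, congrFun h0 1, congrFun h0 2⟩
      · rintro ⟨h0, h1, h2⟩
        change ![f x w, f x a, f x b] = 0
        rw [h0, h1, h2]
        ext i; fin_cases i <;> rfl
    have hker : LinearMap.ker L ≠ ⊥ := by
      apply LinearMap.ker_ne_bot_of_finrank_lt
      rw [Module.finrank_pi, Module.finrank_pi, Fintype.card_fin]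
      omega
    obtain ⟨x, hx, hx0⟩ := (Submodule.ne_bot_iff _).1 hker
    obtain ⟨u, hu, huu⟩ := hF.exists_nonisotropic hne (LinearMap.ker L) (by
      intro x hx hx0
      obtain ⟨y, hy⟩ := hnd x hx0
      obtain ⟨h1, h2, h3⟩ := (hmemL x).1 hx
      refine ⟨y - (f y w / f w w) • w - f y b • a - f y a • b, ?_, ?_⟩
      · rw [hmemL]
        refine ⟨?_, ?_, ?_⟩
        · rw [hF.sub_left, hF.sub_left, hF.sub_left, hF.smul_left, hF.smul_left, hF.smul_left,
            haw, hbw, div_mul_cancel₀ _ hw]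
          ring
        · rw [hF.sub_left, hF.sub_left, hF.sub_left, hF.smul_left, hF.smul_left, hF.smul_left,
            haa, hba, hwa]
          ring
        · rw [hF.sub_left, hF.sub_left, hF.sub_left, hF.smul_left, hF.smul_left, hF.smul_left,
            hab, hbb, hwb]
          ring
      · rw [hF.sub_right, hF.sub_right, hF.sub_right, hF.smul_right, hF.smul_right,
          hF.smul_right, h1, h2, h3]
        simpa using hy) hx hx0
    obtain ⟨h1, h2, h3⟩ := (hmemL u).1 hu
    exact ⟨u, (hmemH u).2 h1, by rw [hF.herm, h2, map_zero], by rw [hF.herm, h3, map_zero], huu⟩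
  have hfull : FullAxis M ψ := by
    intro b hb
    refine hF.irr hne H hHnd hH2 hH3 {b | HasTv M b ψ} (fun x hx y hy => HasTv.add_left hx hy)
      (fun x hx => HasTv.neg_left hx) ?_ (fun x hx => hx.1) hTv ?_ b hb
    · intro b hb a ha haa c hc
      have h1 := HasTv.comm hb ((hasTv_unit hF hc haa).mono hM) (by
        rw [dotProduct_smul, show ψ ⬝ᵥ a = 0 from ha, smul_zero])
      rw [hF.rC_dot, smul_smul, mul_comm] at h1
      exact h1
    · exact smul_ne_zero he0 hv0
  -- spreading
  apply sl_le_of_axes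
  rw [eq_top_iff]
  intro φ _
  obtain ⟨u, rfl⟩ := hF.exists_rC hnd φ
  refine hF.irr hne ⊤ (fun x _ hx0 => ?_) (fun v _ => ?_) ?_ {u | FullAxis M (rC f u)}
    (fun x hx y hy => ?_) (fun x hx => ?_) ?_ (fun _ _ => trivial) (v := w) hfull ?_ u trivial
  · obtain ⟨y, hy⟩ := hnd x hx0
    exact ⟨y, trivial, hy⟩
  · obtain ⟨x, hx⟩ := exists_not_smul (show 2 ≤ Fintype.card ι by omega) v
    exact ⟨x, trivial, hx⟩
  · intro a _ b _ haa hbb hab
    have hba : f b a = 1 := by rw [hF.herm, hab, map_one]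
    let L : (ι → F) →ₗ[F] (Fin 2 → F) :=
      { toFun := fun x => ![f x a, f x b]
        map_add' := fun x y => by simp [hF.add_left]
        map_smul' := fun c x => by simp [hF.smul_left] }
    have hmemL : ∀ x, x ∈ LinearMap.ker L ↔ f x a = 0 ∧ f x b = 0 := by
      intro x
      rw [LinearMap.mem_ker]
      constructor
      · intro h0
        exact ⟨congrFun h0 0, congrFun h0 1⟩
      · rintro ⟨h1, h2⟩
        change ![f x a, f x b] = 0
        rw [h1, h2]
        ext i; fin_cases i <;> rfl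
    have hker : LinearMap.ker L ≠ ⊥ := by
      apply LinearMap.ker_ne_bot_of_finrank_lt
      rw [Module.finrank_pi, Module.finrank_pi, Fintype.card_fin]
      omega
    obtain ⟨x, hx, hx0⟩ := (Submodule.ne_bot_iff _).1 hker
    obtain ⟨u, hu, huu⟩ := hF.exists_nonisotropic hne (LinearMap.ker L) (by
      intro x hx hx0
      obtain ⟨y, hy⟩ := hnd x hx0
      obtain ⟨h2, h3⟩ := (hmemL x).1 hx
      refine ⟨y - f y b • a - f y a • b, ?_, ?_⟩
      · rw [hmemL]
        refine ⟨?_, ?_⟩
        · rw [hF.sub_left, hF.sub_left, hF.smul_left, hF.smul_left, haa, hba]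
          ring
        · rw [hF.sub_left, hF.sub_left, hF.smul_left, hF.smul_left, hab, hbb]
          ring
      · rw [hF.sub_right, hF.sub_right, hF.smul_right, hF.smul_right, h2, h3]
        simpa using hy) hx hx0
    obtain ⟨h2, h3⟩ := (hmemL u).1 hu
    exact ⟨u, trivial, by rw [hF.herm, h2, map_zero], by rw [hF.herm, h3, map_zero], huu⟩
  · change FullAxis M (rC f (x + y))
    rw [hF.rC_add]
    exact FullAxis.add hx hy
  · change FullAxis M (rC f (-x))
    rw [hF.rC_neg]
    have h1 : FullAxis M (rC f x) := hx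
    have := h1.smul (-1)
    rwa [neg_one_smul] at this
  · intro b hb a _ haa c hc
    have hb' : FullAxis M (rC f b) := hb
    obtain ⟨h0, hm⟩ := (hasTv_iff _ _ _).1 ((hasTv_unit hF hc haa).mono hM)
    have h1 := hb'.conj hm
    have h2 : rC f b ᵥ* (((tv (c • a) (rC f a) h0)⁻¹ : GL ι F) : Matrix ι ι F) =
        rC f b + rC f ((c * f b a) • a) := by
      change rC f b ᵥ* (1 - vecMulVec (c • a) (rC f a)) = _
      rw [vecMul_sub, vecMul_one, vecMul_vecMulVec, dotProduct_smul, hF.rC_dot, hF.rC_smul,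
        map_mul, ← hF.herm, hc, smul_eq_mul, sub_eq_add_neg, ← neg_smul]
      congr 2
      ring
    rw [h2] at h1
    have h3 := FullAxis.add h1 (hb'.smul (-1))
    change FullAxis M (rC f ((c * f b a) • a))
    convert h3 using 1
    rw [neg_one_smul]
    abel
  · rintro h0
    apply hw
    rw [h0, hF.zero_left]

/-- **The similarity group of a unitary form is maximal in `SL_n(q)`, `n ≥ 4`.** -/
theorem unitary_similarity_maximal [Finite F] (hn : 4 ≤ Fintype.card ι)
    (hf : Cfsg.Geo.IsUnitaryForm σ f) :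
    Cfsg.Geo.IsMaximalIn (Cfsg.Geo.specialLinear ι F)
      (Cfsg.Geo.similarityGroup f ⊓ Cfsg.Geo.specialLinear ι F) := by
  refine ⟨lt_of_le_of_ne inf_le_right fun h => ?_, fun M h1 h2 => ?_⟩
  · exact Cfsg.Agent.H905.not_sl_le_similarityGroup_unitary (by omega) hf (h ▸ inf_le_left)
  · by_cases hle : M ≤ Cfsg.Geo.similarityGroup f
    · left
      exact le_antisymm (le_inf hle h2) h1
    · right
      obtain ⟨g, hgM, hg⟩ := SetLike.not_le_iff_exists.1 hle
      exact le_antisymm h2 (sl_le_of_unitary hn hf h1 hgM hg)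

end Cfsg.Agent.H929
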