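import Cfsg.Prelude.Def_GeometricClasses

/-!
Hermitian forms over a finite field with an involution: trace and norm facts, isotropic vectors.
-/

set_option autoImplicit false
set_option linter.unusedSectionVars false

namespace Cfsg.Agent.H929

open Matrix

section field

variable {F : Type*} [Field F]

/-- A trace-one element. -/
theorem exists_trace_one {σ : F ≃+* F} (hσ : ∀ a, σ (σ a) = a) (hne : σ ≠ RingEquiv.refl F) :
    ∃ t : F, t + σ t = 1 := by
  obtain ⟨x, hx⟩ : ∃ x, x + σ x ≠ 0 := by
    by_contra hc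
    push Not at hc
    apply hne
    have h1 := hc 1
    rw [map_one] at h1
    ext x
    have h2 := hc x
    have h3 : σ x = -x := (neg_eq_of_add_eq_zero_right h2).symm
    have h4 : x + x = 0 := by
      have : x + x = x * (1 + 1) := by ring
      rw [this, h1, mul_zero]
    rw [h3, RingEquiv.refl_apply]
    exact neg_eq_of_add_eq_zero_right h4
  refine ⟨x / (x + σ x), ?_⟩
  rw [map_div₀, map_add, hσ, add_comm (σ x) x, ← add_div, div_self hx]

/-- A non-zero trace-zero element. -/
theorem exists_trace_zero {σ : F ≃+* F} (hσ : ∀ a, σ (σ a) = a) (hne : σ ≠ RingEquiv.refl F) :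
    ∃ e : F, e ≠ 0 ∧ σ e = -e := by
  obtain ⟨x, hx⟩ : ∃ x, σ x ≠ x := by
    by_contra hc
    push Not at hc
    exact hne (RingEquiv.ext hc)
  refine ⟨x - σ x, sub_ne_zero.2 (Ne.symm hx), ?_⟩
  rw [map_sub, hσ, neg_sub]

/-- Surjectivity of the norm onto the fixed field. -/
theorem exists_norm [Finite F] {σ : F ≃+* F} (hσ : ∀ a, σ (σ a) = a)
    (hne : σ ≠ RingEquiv.refl F) (c : F) (hc : σ c = c) : ∃ s : F, s * σ s = c := by
  classical
  by_cases hc0 : c = 0
  · exact ⟨0, by rw [hc0, zero_mul]⟩
  let S : Fˣ →* Fˣ := Units.map (σ : F →* F)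
  have hS : ∀ u : Fˣ, ((S u : Fˣ) : F) = σ u := fun u => rfl
  let N : Fˣ →* Fˣ := MonoidHom.id _ * S
  let D : Fˣ →* Fˣ := MonoidHom.id _ / S
  have hN : ∀ u : Fˣ, ((N u : Fˣ) : F) = u * σ u := fun u => rfl
  have hD : ∀ u : Fˣ, ((D u : Fˣ) : F) = u / σ u := fun u => by
    change ((u / S u : Fˣ) : F) = _
    rw [Units.val_div_eq_div_val, hS]
  have hle : N.range ≤ D.ker := by
    rintro _ ⟨u, rfl⟩
    rw [MonoidHom.mem_ker]
    apply Units.ext
    rw [hD, hN, map_mul, hσ, mul_comm (σ (u : F)) u, Units.val_one]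
    refine div_self (mul_ne_zero u.ne_zero ?_)
    rw [← hS]; exact (S u).ne_zero
  have hker : N.ker ≤ D.range := by
    intro x hx
    rw [MonoidHom.mem_ker] at hx
    have hx1 : (x : F) * σ x = 1 := by
      rw [← hN, hx, Units.val_one]
    obtain ⟨z, hz⟩ : ∃ z : F, z + x * σ z ≠ 0 := by
      by_contra hcon
      push Not at hcon
      have h1 := hcon 1
      rw [map_one, mul_one] at h1
      have hx' : (x : F) = -1 := (neg_eq_of_add_eq_zero_right h1).symm
      apply hne
      ext z
      have h2 := hcon z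
      rw [hx', neg_one_mul, ← sub_eq_add_neg, sub_eq_zero] at h2
      rw [← h2, RingEquiv.refl_apply]
    refine ⟨Units.mk0 _ hz, Units.ext ?_⟩
    rw [hD, Units.val_mk0, map_add, map_mul, hσ]
    have hne' : σ z + σ (x : F) * z ≠ 0 := by
      intro h0
      apply hz
      have : (x : F) * (σ z + σ (x : F) * z) = z + x * σ z := by
        rw [mul_add, ← mul_assoc, hx1, one_mul, add_comm]
      rw [← this, h0, mul_zero]
    rw [div_eq_iff hne', mul_add, ← mul_assoc, hx1, one_mul, add_comm]
  have hcardN : Nat.card N.ker * Nat.card N.range = Nat.card Fˣ := by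
    rw [← Nat.card_congr (QuotientGroup.quotientKerEquivRange N).toEquiv, mul_comm]
    exact (Subgroup.card_eq_card_quotient_mul_card_subgroup N.ker).symm
  have hcardD : Nat.card D.ker * Nat.card D.range = Nat.card Fˣ := by
    rw [← Nat.card_congr (QuotientGroup.quotientKerEquivRange D).toEquiv, mul_comm]
    exact (Subgroup.card_eq_card_quotient_mul_card_subgroup D.ker).symm
  have h1 : Nat.card N.ker ≤ Nat.card D.range := Nat.card_le_card_of_injective _
    (Subgroup.inclusion_injective hker)
  have hpos : 0 < Nat.card D.range := Nat.card_pos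
  have h2 : Nat.card D.ker ≤ Nat.card N.range := by
    by_contra hlt
    push Not at hlt
    have : Nat.card N.ker * Nat.card N.range < Nat.card D.ker * Nat.card D.range := by
      calc Nat.card N.ker * Nat.card N.range ≤ Nat.card D.range * Nat.card N.range :=
            Nat.mul_le_mul_right _ h1
        _ < Nat.card D.range * Nat.card D.ker := Nat.mul_lt_mul_of_pos_left hlt hpos
        _ = _ := mul_comm _ _
    rw [hcardN, hcardD] at this
    exact lt_irrefl _ this
  have heq : N.range = D.ker := by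
    apply Subgroup.eq_of_le_of_card_ge hle h2
  have hcm : Units.mk0 c hc0 ∈ D.ker := by
    rw [MonoidHom.mem_ker]
    apply Units.ext
    rw [hD, Units.val_mk0, hc, div_self hc0, Units.val_one]
  rw [← heq] at hcm
  obtain ⟨s, hs⟩ := hcm
  refine ⟨s, ?_⟩
  rw [← hN, hs, Units.val_mk0]

end field

section herm

variable {ι : Type} [Fintype ι] [DecidableEq ι] {F : Type*} [Field F]

/-- A hermitian (possibly degenerate) form. -/
structure Herm (σ : F ≃+* F) (h : (ι → F) → (ι → F) → F) : Prop where
  inv : ∀ a, σ (σ a) = a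
  add_left : ∀ x y v, h (x + y) v = h x v + h y v
  smul_left : ∀ (c : F) (x v : ι → F), h (c • x) v = c * h x v
  herm : ∀ v w, h v w = σ (h w v)

theorem Herm.of_unitary {σ : F ≃+* F} {f : (ι → F) → (ι → F) → F}
    (hf : Cfsg.Geo.IsUnitaryForm σ f) : Herm σ f :=
  ⟨hf.involutive, hf.add_left, hf.smul_left, hf.herm⟩

variable {σ : F ≃+* F} {f h : (ι → F) → (ι → F) → F}

theorem Herm.add_right (hf : Herm σ f) (v x y : ι → F) : f v (x + y) = f v x + f v y := by
  rw [hf.herm, hf.add_left, map_add, ← hf.herm, ← hf.herm]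

theorem Herm.smul_right (hf : Herm σ f) (c : F) (v x : ι → F) : f v (c • x) = σ c * f v x := by
  rw [hf.herm, hf.smul_left, map_mul, ← hf.herm]

theorem Herm.zero_left (hf : Herm σ f) (v : ι → F) : f 0 v = 0 := by
  have := hf.smul_left 0 0 v
  simpa using this

theorem Herm.zero_right (hf : Herm σ f) (v : ι → F) : f v 0 = 0 := by
  rw [hf.herm, hf.zero_left, map_zero]

theorem Herm.neg_left (hf : Herm σ f) (x v : ι → F) : f (-x) v = - f x v := by
  have := hf.smul_left (-1) x v
  simpa using this

theorem Herm.neg_right (hf : Herm σ f) (x v : ι → F) : f x (-v) = - f x v := by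
  have := hf.smul_right (-1) x v
  simpa using this

theorem Herm.sub_left (hf : Herm σ f) (x y v : ι → F) : f (x - y) v = f x v - f y v := by
  rw [sub_eq_add_neg, hf.add_left, hf.neg_left, sub_eq_add_neg]

theorem Herm.sub_right (hf : Herm σ f) (v x y : ι → F) : f v (x - y) = f v x - f v y := by
  rw [sub_eq_add_neg, hf.add_right, hf.neg_right, sub_eq_add_neg]

theorem Herm.self_fixed (hf : Herm σ f) (v : ι → F) : σ (f v v) = f v v := (hf.herm v v).symm

/-- Making a vector isotropic by adding a multiple of an isotropic one. -/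
theorem Herm.exists_isotropic_add (hf : Herm σ f) (hne : σ ≠ RingEquiv.refl F) {v y : ι → F}
    (hv : f v v = 0) (hvy : f v y ≠ 0) : ∃ s : F, f (y + s • v) (y + s • v) = 0 := by
  obtain ⟨t, ht⟩ := exists_trace_one hf.inv hne
  refine ⟨-(f y y) * t / f v y, ?_⟩
  set s := -(f y y) * t / f v y with hs
  rw [hf.add_left, hf.add_right, hf.add_right, hf.smul_left, hf.smul_left, hf.smul_right,
    hf.smul_right, hv, hf.herm y v, ← map_mul]
  have h1 : s * f v y = -(f y y) * t := by
    rw [hs, div_mul_cancel₀ _ hvy]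
  rw [h1, map_mul, map_neg, hf.self_fixed]
  linear_combination (-(f y y)) * ht

/-- In a non-degenerate hermitian subspace of dimension at least two every non-zero vector has an
isotropic vector not orthogonal to it. -/
theorem Herm.exists_isotropic_not_orth [Finite F] (hf : Herm σ f) (hne : σ ≠ RingEquiv.refl F)
    (H : Submodule F (ι → F)) (hnd : ∀ x ∈ H, x ≠ 0 → ∃ y ∈ H, f x y ≠ 0)
    (h2 : ∀ v ∈ H, ∃ x ∈ H, ∀ c : F, x ≠ c • v) {v : ι → F} (hv : v ∈ H) (hv0 : v ≠ 0) :
    ∃ a ∈ H, f a a = 0 ∧ f v a ≠ 0 := by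
  by_cases hvv : f v v = 0
  · obtain ⟨y, hy, hvy⟩ := hnd v hv hv0
    obtain ⟨s, hs⟩ := hf.exists_isotropic_add hne hvv hvy
    refine ⟨y + s • v, H.add_mem hy (H.smul_mem s hv), hs, ?_⟩
    rwa [hf.add_right, hf.smul_right, hvv, mul_zero, add_zero]
  · -- a non-isotropic vector orthogonal to v
    obtain ⟨u, huH, hvu, huu⟩ : ∃ u ∈ H, f v u = 0 ∧ f u u ≠ 0 := by
      obtain ⟨x, hx, hxv⟩ := h2 v hv
      have hproj : ∀ y : ι → F, f (y - (f y v / f v v) • v) v = 0 := by
        intro y
        rw [hf.sub_left, hf.smul_left, div_mul_cancel₀ _ hvv, sub_self]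
      have hproj' : ∀ y : ι → F, f v (y - (f y v / f v v) • v) = 0 := by
        intro y
        rw [hf.herm, hproj, map_zero]
      set x' := x - (f x v / f v v) • v with hx'
      have hx'H : x' ∈ H := H.sub_mem hx (H.smul_mem _ hv)
      have hx'0 : x' ≠ 0 := by
        intro h0
        exact hxv _ (sub_eq_zero.1 h0)
      by_cases hxx : f x' x' = 0
      · obtain ⟨y, hy, hxy⟩ := hnd x' hx'H hx'0
        set y' := y - (f y v / f v v) • v with hy'
        have hy'H : y' ∈ H := H.sub_mem hy (H.smul_mem _ hv)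
        have hxy' : f x' y' = f x' y := by
          rw [hy', hf.sub_right, hf.smul_right, hproj x, mul_zero, sub_zero]
        by_cases hyy : f y' y' = 0
        · obtain ⟨t, ht⟩ := exists_trace_one hf.inv hne
          refine ⟨x' + σ (t / f x' y') • y', H.add_mem hx'H (H.smul_mem _ hy'H), ?_, ?_⟩
          · rw [hf.add_right, hproj' x, hf.smul_right, hproj' y, mul_zero, add_zero]
          · have hxy0 : f x' y' ≠ 0 := by rw [hxy']; exact hxy
            have : f (x' + σ (t / f x' y') • y') (x' + σ (t / f x' y') • y') = 1 := by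
              rw [hf.add_left, hf.add_right, hf.add_right, hf.smul_left, hf.smul_left,
                hf.smul_right, hf.smul_right, hxx, hyy, hf.herm y' x', hf.inv, ← map_mul,
                div_mul_cancel₀ _ hxy0]
              linear_combination ht
            rw [this]; exact one_ne_zero
        · exact ⟨y', hy'H, hproj' y, hyy⟩
      · exact ⟨x', hx'H, hproj' x, hxx⟩
    obtain ⟨s, hs⟩ := exists_norm hf.inv hne (-(f v v) / f u u) (by
      rw [map_div₀, map_neg, hf.self_fixed, hf.self_fixed])
    refine ⟨v + s • u, H.add_mem hv (H.smul_mem s huH), ?_, ?_⟩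
    · rw [hf.add_left, hf.add_right, hf.add_right, hf.smul_left, hf.smul_left, hf.smul_right,
        hf.smul_right, hvu, hf.herm u v, hvu, map_zero, mul_zero, mul_zero, add_zero, zero_add,
        ← mul_assoc, hs, div_mul_cancel₀ _ huu]
      ring
    · rw [hf.add_right, hf.smul_right, hvu, mul_zero, add_zero]
      exact hvv

/-- Completing an isotropic vector to a hyperbolic pair. -/
theorem Herm.exists_hyperbolic (hf : Herm σ f) (hne : σ ≠ RingEquiv.refl F)
    (H : Submodule F (ι → F)) (hnd : ∀ x ∈ H, x ≠ 0 → ∃ y ∈ H, f x y ≠ 0)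
    {a : ι → F} (ha : a ∈ H) (ha0 : a ≠ 0) (haa : f a a = 0) :
    ∃ b ∈ H, f b b = 0 ∧ f a b = 1 := by
  obtain ⟨y, hy, hay⟩ := hnd a ha ha0
  obtain ⟨s, hs⟩ := hf.exists_isotropic_add hne haa hay
  have hab : f a (y + s • a) = f a y := by
    rw [hf.add_right, hf.smul_right, haa, mul_zero, add_zero]
  refine ⟨σ (f a y)⁻¹ • (y + s • a), H.smul_mem _ (H.add_mem hy (H.smul_mem _ ha)), ?_, ?_⟩
  · rw [hf.smul_left, hf.smul_right, hs, mul_zero, mul_zero]
  · rw [hf.smul_right, hab, hf.inv, inv_mul_cancel₀ hay]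

theorem trace_form_eq_zero {σ : F ≃+* F} (hσ : ∀ a, σ (σ a) = a) (hne : σ ≠ RingEquiv.refl F)
    {x : F} (h : ∀ s : F, s * x + σ (s * x) = 0) : x = 0 := by
  by_contra hx
  obtain ⟨t, ht⟩ := exists_trace_one hσ hne
  have := h (t / x)
  rw [div_mul_cancel₀ _ hx, ht] at this
  exact one_ne_zero this

/-- A hermitian form is determined by its diagonal. -/
theorem Herm.ext_diag (hf : Herm σ f) (hh : Herm σ h) (hne : σ ≠ RingEquiv.refl F) {c : F}
    (hc : σ c = c) (hd : ∀ x, h x x = c * f x x) (x y : ι → F) : h x y = c * f x y := by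
  have key : ∀ s : F, s * (h x y - c * f x y) + σ (s * (h x y - c * f x y)) = 0 := by
    intro s
    have h1 := hd (s • x + y)
    simp only [hh.add_left, hh.add_right, hh.smul_left, hh.smul_right, hf.add_left, hf.add_right,
      hf.smul_left, hf.smul_right, hd] at h1
    rw [hh.herm y x, hf.herm y x] at h1
    rw [map_mul, map_sub, map_mul, hc]
    linear_combination h1
  exact sub_eq_zero.1 (trace_form_eq_zero hf.inv hne key)

/-- The linear algebra behind `prop_of_isotropic`. -/
theorem Herm.orth_of_isotropic (hf : Herm σ f) (hh : Herm σ h)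
    (hne : σ ≠ RingEquiv.refl F) (hQ : ∀ v, f v v = 0 → h v v = 0) {u v : ι → F}
    (huu : f u u = 0) (hvv : f v v = 0) (huv : f u v = 1) :
    σ (h u v) = h u v ∧ ∀ z, f u z = 0 → f v z = 0 → h v z = 0 ∧
      h u z + σ (h u z) + h z z = h u v * f z z := by
  have hvu : f v u = 1 := by rw [hf.herm, huv, map_one]
  obtain ⟨e, he0, he⟩ := exists_trace_zero hf.inv hne
  obtain ⟨t₁, ht₁⟩ := exists_trace_one hf.inv hne
  have hhuu := hQ u huu
  have hhvv := hQ v hvv
  -- fixed elements detected by e
  have hfix : ∀ x : F, e * x + σ (e * x) = 0 → σ x = x := by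
    intro x hx
    rw [map_mul, he] at hx
    have : e * (x - σ x) = 0 := by linear_combination hx
    rcases mul_eq_zero.1 this with h0 | h0
    · exact absurd h0 he0
    · exact (sub_eq_zero.1 h0).symm
  set c := h u v with hc
  have hvu' : h v u = σ c := by rw [hh.herm]
  have hcfix : σ c = c := by
    have h1 := hQ (e • u + v) (by
      rw [hf.add_left, hf.add_right, hf.add_right, hf.smul_left, hf.smul_left, hf.smul_right,
        hf.smul_right, huu, huv, hvu, hvv, he]
      ring)
    rw [hh.add_left, hh.add_right, hh.add_right, hh.smul_left, hh.smul_left, hh.smul_right,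
      hh.smul_right, hhuu, hhvv, hvu', ← hc, ← map_mul] at h1
    apply hfix
    linear_combination h1
  -- for z orthogonal to u, v
  have hz : ∀ z, f u z = 0 → f v z = 0 → ∀ t : F, t + σ t = - f z z →
      h (u + t • v + z) (u + t • v + z) = 0 := by
    intro z huz hvz t ht
    apply hQ
    have hzu : f z u = 0 := by rw [hf.herm, huz, map_zero]
    have hzv : f z v = 0 := by rw [hf.herm, hvz, map_zero]
    simp only [hf.add_left, hf.add_right, hf.smul_left, hf.smul_right, huu, hvv, huv, hvu, huz,
      hvz, hzu, hzv]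
    linear_combination ht
  have hexp : ∀ z (t : F), h (u + t • v + z) (u + t • v + z) =
      (h u z + σ (h u z)) + (t * h v z + σ (t * h v z)) + (t + σ t) * c + h z z := by
    intro z t
    simp only [hh.add_left, hh.add_right, hh.smul_left, hh.smul_right, hhuu, hhvv, hvu', ← hc,
      hcfix, hh.herm z u, hh.herm z v, map_mul]
    ring
  -- h v z = 0
  have hvz0 : ∀ z, f u z = 0 → f v z = 0 → h v z = 0 := by
    intro z huz hvz
    have key : ∀ s : F, σ (h v (s • z)) = h v (s • z) := by
      intro s
      have huz' : f u (s • z) = 0 := by rw [hf.smul_right, huz, mul_zero]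
      have hvz' : f v (s • z) = 0 := by rw [hf.smul_right, hvz, mul_zero]
      set z' := s • z with hz'
      set t := -(f z' z') * t₁ with ht
      have htt : t + σ t = - f z' z' := by
        rw [ht, map_mul, map_neg, hf.self_fixed]
        linear_combination (-(f z' z')) * ht₁
      have h1 := hz z' huz' hvz' t htt
      have h2 := hz z' huz' hvz' (t + e) (by rw [map_add, he]; linear_combination htt)
      rw [hexp] at h1 h2
      rw [map_add σ t e, he] at h2
      apply hfix
      have h3 : (t + e) * h v z' + σ ((t + e) * h v z') =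
          (t * h v z' + σ (t * h v z')) + (e * h v z' + σ (e * h v z')) := by
        rw [add_mul, map_add]; ring
      rw [h3] at h2
      linear_combination h2 - h1
    by_contra hne0
    -- take s with σ s * h v z = e
    have h2 := key (σ (e * t₁ / h v z))
    have h1 := key (σ (e / h v z))
    rw [hh.smul_right, hf.inv, div_mul_cancel₀ _ hne0, he] at h1
    rw [hh.smul_right, hf.inv, div_mul_cancel₀ _ hne0, map_mul, he] at h2
    have h3 : e * (σ t₁ + t₁) = 0 := by linear_combination -h2
    rw [add_comm, ht₁, mul_one] at h3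
    exact he0 h3
  refine ⟨hcfix, fun z huz hvz => ⟨hvz0 z huz hvz, ?_⟩⟩
  set t := -(f z z) * t₁ with ht
  have htt : t + σ t = - f z z := by
    rw [ht, map_mul, map_neg, hf.self_fixed]
    linear_combination (-(f z z)) * ht₁
  have h1 := hz z huz hvz t htt
  rw [hexp, hvz0 z huz hvz, mul_zero, map_zero, htt] at h1
  linear_combination h1

/-- There are at least two independent vectors. -/
theorem exists_not_smul (h2 : 2 ≤ Fintype.card ι) (v : ι → F) :
    ∃ x : ι → F, ∀ c : F, x ≠ c • v := by
  classical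
  obtain ⟨i, j, hij⟩ := Fintype.one_lt_card_iff.1 (show 1 < Fintype.card ι by omega)
  by_cases hv : v i = 0
  · refine ⟨Pi.single i 1, fun c hc => ?_⟩
    have := congrFun hc i
    simp [hv] at this
  · by_cases hv' : v j = 0
    · refine ⟨Pi.single j 1, fun c hc => ?_⟩
      have := congrFun hc j
      simp [hv'] at this
    · refine ⟨Pi.single i 1, fun c hc => ?_⟩
      have h1 := congrFun hc j
      have h2 := congrFun hc i
      simp [hij.symm, hv'] at h1
      simp [h1] at h2

/-- Two hermitian forms on the whole space, the first non-degenerate, such that all isotropic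
vectors of the first are isotropic for the second, are proportional. -/
theorem Herm.prop_of_isotropic [Finite F] (hf : Herm σ f) (hh : Herm σ h)
    (hne : σ ≠ RingEquiv.refl F)
    (hnd : ∀ x, x ≠ 0 → ∃ y, f x y ≠ 0) (h2 : 2 ≤ Fintype.card ι)
    (hQ : ∀ v, f v v = 0 → h v v = 0) : ∃ c : F, σ c = c ∧ ∀ x y, h x y = c * f x y := by
  classical
  obtain ⟨i, j, hij⟩ := Fintype.one_lt_card_iff.1 (show 1 < Fintype.card ι by omega)
  have h2' : ∀ v ∈ (⊤ : Submodule F (ι → F)), ∃ x ∈ (⊤ : Submodule F (ι → F)),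
      ∀ c : F, x ≠ c • v := by
    intro v _
    obtain ⟨x, hx⟩ := exists_not_smul h2 v
    exact ⟨x, trivial, hx⟩
  have hnd' : ∀ x ∈ (⊤ : Submodule F (ι → F)), x ≠ 0 → ∃ y ∈ (⊤ : Submodule F (ι → F)), f x y ≠ 0 := by
    intro x _ hx
    obtain ⟨y, hy⟩ := hnd x hx
    exact ⟨y, trivial, hy⟩
  -- a hyperbolic pair
  have hi0 : (Pi.single i 1 : ι → F) ≠ 0 := by
    intro h0
    have := congrFun h0 i
    simp at this
  obtain ⟨u, -, huu, hu⟩ := hf.exists_isotropic_not_orth hne ⊤ hnd' h2' (v := Pi.single i 1)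
    trivial hi0
  have hu0 : u ≠ 0 := by
    rintro rfl
    rw [hf.zero_right] at hu
    exact hu rfl
  obtain ⟨v, -, hvv, huv⟩ := hf.exists_hyperbolic hne ⊤ hnd' trivial hu0 huu
  have hvu : f v u = 1 := by rw [hf.herm, huv, map_one]
  obtain ⟨hc, h1⟩ := hf.orth_of_isotropic hh hne hQ huu hvv huv
  obtain ⟨-, h1'⟩ := hf.orth_of_isotropic hh hne hQ hvv huu hvu
  refine ⟨h u v, hc, hf.ext_diag hh hne hc ?_⟩
  intro x
  set z := x - f x v • u - f x u • v with hz
  have hzu : f z u = 0 := by
    rw [hz, hf.sub_left, hf.sub_left, hf.smul_left, hf.smul_left, huu, hvu]; ring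
  have hzv : f z v = 0 := by
    rw [hz, hf.sub_left, hf.sub_left, hf.smul_left, hf.smul_left, huv, hvv]; ring
  have huz : f u z = 0 := by rw [hf.herm, hzu, map_zero]
  have hvz : f v z = 0 := by rw [hf.herm, hzv, map_zero]
  obtain ⟨h3, h4⟩ := h1 z huz hvz
  obtain ⟨h5, -⟩ := h1' z hvz huz
  rw [h5, map_zero, add_zero, zero_add] at h4
  have hx : x = f x v • u + f x u • v + z := by rw [hz]; abel
  have h6 : h z u = 0 := by rw [hh.herm, h5, map_zero]
  have h7 : h z v = 0 := by rw [hh.herm, h3, map_zero]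
  have h8 : h v u = h u v := by rw [hh.herm, hc]
  generalize f x v = α at *
  generalize f x u = β at *
  rw [hx]
  simp only [hh.add_left, hh.add_right, hh.smul_left, hh.smul_right, hf.add_left, hf.add_right,
      hf.smul_left, hf.smul_right, hQ u huu, hQ v hvv, h3, h4, h5, h6, h7, h8, huu, hvv, huv, hvu,
      hzu, hzv, huz, hvz]
  ring

end herm

end Cfsg.Agent.H929
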