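import Cfsg.Agent.H929.TwelveAsm
import Cfsg.Agent.H930.SixMain
import Cfsg.Agent.H108.TK.Five

/-!
# Dimension twelve: the rows S5863 and S5866 (helper929)
-/

set_option autoImplicit false
set_option linter.unusedSectionVars false

namespace Cfsg.Agent.H929.Twelve

open Cfsg Cfsg.Geo Matrix
open H915.LD (Core Soc tr SD Fr Cj)

universe u

variable {F : Type u} [Field F] [Fintype F] {H P : Subgroup (GL (Fin 12) F)}

theorem rows (hC : Core P) (p : ℕ) (hp : p.Prime) (hFp : CharP F p) : CrossRows p P where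
  a7 := by
    intro _ e
    haveI : Fact p.Prime := ⟨hp⟩
    exact H108.TK.Five.a7_twelve p hC e (by simp)

/-- a self-dual-free group with socle `A₇` has a scalar of order 3 -/
theorem three_dvd_of_a7 (p : ℕ) [hp : Fact p.Prime] [hFp : CharP F p] (hC : Core P) (hsd : ¬ SD P)
    (e : Soc P ≃* alternatingGroup (Fin 7)) : 3 ∣ Nat.card ((scalars (Fin 12) F).subgroupOf P) := by
  by_contra h3
  exact hsd (a7 p hC h3 e)

/-- **S5863.** -/
theorem final5863 (hk : ∀ (T : Type u) [Group T] [Finite T] [IsSimpleGroup T], IsKnownSimple' T)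
    (hH : IsMaximalIn (specialLinear (Fin 12) F) H) (hS : InLinearResidualClass H) :
    ∃ (P : Subgroup (GL (Fin 12) F)) (p : ℕ), IsResidualCore H P ∧ p.Prime ∧ CharP F p ∧
    ((Nonempty ((P ⧸ (scalars (Fin 12) F).subgroupOf P) ≃* Matrix.ProjectiveSpecialLinearGroup (Fin 2) (ZMod 23)) ∧
        Fintype.card F = p ∧ p ≠ 2 ∧
      (p % 23 = 1 ∨ p % 23 = 2 ∨ p % 23 = 3 ∨ p % 23 = 4 ∨ p % 23 = 6 ∨ p % 23 = 8 ∨ p % 23 = 9 ∨ p % 23 = 12 ∨
        p % 23 = 13 ∨ p % 23 = 16 ∨ p % 23 = 18)) ∨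
     ((∃ (K : Type) (_ : Field K) (_ : Fintype K), Fintype.card K = 4 ∧
        Nonempty ((P ⧸ (scalars (Fin 12) F).subgroupOf P) ≃* Matrix.ProjectiveSpecialLinearGroup (Fin 3) K)) ∧
        Fintype.card F = 49) ∨
     (Cfsg.Spor.IsoSuz (P ⧸ (scalars (Fin 12) F).subgroupOf P) ∧ Fintype.card F = p ∧ p % 3 = 1)) :=
  row5863 hk hH hS (fun _ hC p hp hFp => rows hC p hp hFp) (fun _ hc e hz => H930.Six.a6_SL hc hH e hz)

/-- **S5866.** -/
theorem final5866 (hk : ∀ (T : Type u) [Group T] [Finite T] [IsSimpleGroup T], IsKnownSimple' T)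
    {q : ℕ} (hF : Fintype.card F = q ^ 2)
    (hH : IsMaximalIn (Cfsg.GU 12 F q ⊓ specialLinear (Fin 12) F) H) (hS : InUnitaryResidualClass H) :
    ∃ P : Subgroup (GL (Fin 12) F), IsResidualCore H P ∧ q.Prime ∧
    ((Nonempty ((P ⧸ (scalars (Fin 12) F).subgroupOf P) ≃* Matrix.ProjectiveSpecialLinearGroup (Fin 2) (ZMod 23)) ∧
      (q % 23 = 5 ∨ q % 23 = 7 ∨ q % 23 = 10 ∨ q % 23 = 11 ∨ q % 23 = 14 ∨ q % 23 = 15 ∨ q % 23 = 17 ∨ q % 23 = 19 ∨
        q % 23 = 20 ∨ q % 23 = 21 ∨ q % 23 = 22)) ∨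
     (Cfsg.Spor.IsoSuz (P ⧸ (scalars (Fin 12) F).subgroupOf P) ∧ q % 3 = 2)) := by
  refine row5866 hk hF hH hS (fun _ hC p hp hFp => rows hC p hp hFp) (fun P hc hsd => ⟨?_, ?_⟩)
  · exact fun e hz => H930.Six.a6_SU hF hc hH e hz
  · intro h5 _ e
    haveI : Fact (Nat.Prime 5) := ⟨Nat.prime_five⟩
    have hC := H915.LD.core_of_residual hc
    exact H108.TK.Five.su_false hF hc hH e (three_dvd_of_a7 5 hC hsd e)

end Cfsg.Agent.H929.Twelve
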