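import Cfsg.Agent.H929.UThreeSD

/-!
# Self-dual cores of type `PSU(3, 3^f)` in dimension seven: an invariant alternating trilinear form (helper929)

* **`exists_alt_psu3`** : `SD P`, `n = 7` ⟹ `P` fixes a nonzero alternating trilinear form (`tr (x [y, z])` on `su_3 / scalars`).
-/

set_option autoImplicit false
set_option linter.unusedSectionVars false
set_option linter.style.haveILetI false

namespace Cfsg.Agent.H929.U3

open Cfsg Cfsg.Geo Cfsg.Agent.LieClassical.HermSiegel Cfsg.Agent.LieClassical.HermBasic Matrix Cfsg.Agent.H906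
  Cfsg.Agent.H915.LD Cfsg.Agent.H905.Md Cfsg.Agent.H919.U3 Cfsg.Agent.H919.Gram

universe u

section Tri

variable {K : Type*} [Field K]

/-- `tr (X [Y, Z])` -/
def tri (X Y Z : Matrix (Fin 3) (Fin 3) K) : K := (X * (Y * Z - Z * Y)).trace

theorem tri_eq (X Y Z : Matrix (Fin 3) (Fin 3) K) : tri X Y Z = (X * Y * Z).trace - (X * Z * Y).trace := by
  rw [tri, Matrix.mul_sub, Matrix.trace_sub, Matrix.mul_assoc, Matrix.mul_assoc]

theorem tri_add1 (X X' Y Z : Matrix (Fin 3) (Fin 3) K) : tri (X + X') Y Z = tri X Y Z + tri X' Y Z := by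
  simp only [tri, Matrix.add_mul, Matrix.trace_add]

theorem tri_add2 (X Y Y' Z : Matrix (Fin 3) (Fin 3) K) : tri X (Y + Y') Z = tri X Y Z + tri X Y' Z := by
  simp only [tri_eq, Matrix.mul_add, Matrix.add_mul, Matrix.trace_add]
  ring

theorem tri_add3 (X Y Z Z' : Matrix (Fin 3) (Fin 3) K) : tri X Y (Z + Z') = tri X Y Z + tri X Y Z' := by
  simp only [tri_eq, Matrix.mul_add, Matrix.add_mul, Matrix.trace_add]
  ring

theorem tri_smul1 (c : K) (X Y Z : Matrix (Fin 3) (Fin 3) K) : tri (c • X) Y Z = c * tri X Y Z := by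
  simp only [tri_eq, Matrix.smul_mul, Matrix.trace_smul, smul_eq_mul]
  ring

theorem tri_smul2 (c : K) (X Y Z : Matrix (Fin 3) (Fin 3) K) : tri X (c • Y) Z = c * tri X Y Z := by
  simp only [tri_eq, Matrix.smul_mul, Matrix.mul_smul, Matrix.trace_smul, smul_eq_mul]
  ring

theorem tri_smul3 (c : K) (X Y Z : Matrix (Fin 3) (Fin 3) K) : tri X Y (c • Z) = c * tri X Y Z := by
  simp only [tri_eq, Matrix.smul_mul, Matrix.mul_smul, Matrix.trace_smul, smul_eq_mul]
  ring

theorem tri_self (X Z : Matrix (Fin 3) (Fin 3) K) : tri X X Z = 0 := by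
  rw [tri_eq, Matrix.trace_mul_comm (X * Z) X, Matrix.mul_assoc, sub_self]

theorem tri_z23 (X Z : Matrix (Fin 3) (Fin 3) K) : tri X Z Z = 0 := by
  rw [tri_eq, sub_self]

theorem tri_one1 (Y Z : Matrix (Fin 3) (Fin 3) K) : tri 1 Y Z = 0 := by
  rw [tri_eq, Matrix.one_mul, Matrix.one_mul, Matrix.trace_mul_comm, sub_self]

theorem tri_one2 (X Z : Matrix (Fin 3) (Fin 3) K) : tri X 1 Z = 0 := by
  rw [tri_eq, Matrix.mul_one, Matrix.mul_one, sub_self]

theorem tri_one3 (X Y : Matrix (Fin 3) (Fin 3) K) : tri X Y 1 = 0 := by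
  rw [tri_eq, Matrix.mul_one, Matrix.mul_one, sub_self]

theorem tri_scalars (X Y Z : Matrix (Fin 3) (Fin 3) K) (a b c : K) :
    tri (X + a • 1) (Y + b • 1) (Z + c • 1) = tri X Y Z := by
  simp only [tri_add1, tri_add2, tri_add3, tri_smul1, tri_smul2, tri_smul3, tri_one1, tri_one2, tri_one3, mul_zero,
    add_zero]

/-- values on rank-one matrices -/
theorem tri_am {E : Type*} [Field E] [Fintype E] {q : ℕ} (j : E →+* K)
    (u v w : Iso q E) : tri (am j u).1 (am j v).1 (am j w).1 =
      j (hermForm 3 E q v.1 u.1 * hermForm 3 E q w.1 v.1 * hermForm 3 E q u.1 w.1) -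
        j (hermForm 3 E q w.1 u.1 * hermForm 3 E q v.1 w.1 * hermForm 3 E q u.1 v.1) := by
  rw [tri_eq]
  simp only [Matrix.trace, Matrix.diag_apply, Matrix.mul_apply, am_apply, Fin.sum_univ_three, herm_three, map_mul,
    map_add, map_pow]
  ring

end Tri

section Data

variable {F : Type u} [Field F] {ι : Type} [Fintype ι] [DecidableEq ι] {P : Subgroup (GL ι F)} {p : ℕ}
  {E : Type} [Field E] [Fintype E] {q : ℕ} {e : Soc P ≃* PSU 3 E q} (D : SU3Data P p E q e)

/-- the identification with trace-zero matrices modulo scalars -/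
theorem SU3Data.exists_tz (hE : Fintype.card E = q ^ 2) (hb : D.b = 1 + q) (h7 : 7 ≤ Fintype.card ι)
    (h3 : (3 : AlgebraicClosure F) = 0) :
    ∃ S : (ι → AlgebraicClosure F) →ₗ[AlgebraicClosure F] Tz (AlgebraicClosure F),
      ∀ w, ∃ a : AlgebraicClosure F, (S (D.V w)).1 = (am D.j w).1 + a • 1 := by
  classical
  have hfin : Finite (Iso q E) := inferInstance
  have := Fintype.ofFinite (Iso q E)
  set K := AlgebraicClosure F
  have h1 : (1 : Matrix (Fin 3) (Fin 3) K) ∈ Tz K := by
    rw [LinearMap.mem_ker, Matrix.traceLinearMap_apply, Matrix.trace_one, Fintype.card_fin]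
    push_cast
    exact h3
  let one : Tz K := ⟨1, h1⟩
  have hone : one ≠ 0 := by
    intro h0
    have := congrArg Subtype.val h0
    exact one_ne_zero this
  let Z : Submodule K (Tz K) := Submodule.span K {one}
  have hZ : Module.finrank K Z = 1 := finrank_span_singleton hone
  have hd : Module.finrank K (Tz K ⧸ Z) ≤ 7 := by
    have h2 := Submodule.finrank_quotient_add_finrank Z
    have h4 := finrank_Tz K
    omega
  have hker : ∀ c : Iso q E → K, ∑ x, c x • (Submodule.Quotient.mk (am D.j x) : Tz K ⧸ Z) = 0 →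
      ∑ x, c x • D.V x = 0 := by
    intro c hc
    have h2 : (Submodule.Quotient.mk (∑ x, c x • am D.j x) : Tz K ⧸ Z) = 0 := by
      rw [← hc]
      change Z.mkQ (∑ x, c x • am D.j x) = ∑ x, c x • Z.mkQ (am D.j x)
      simp only [map_sum, map_smul]
    rw [Submodule.Quotient.mk_eq_zero] at h2
    obtain ⟨a, ha⟩ := Submodule.mem_span_singleton.1 h2
    have h4 : ∀ u : Iso q E, D.Φ u ⬝ᵥ (∑ x, c x • D.V x) = 0 := by
      intro u
      have h5 : ∀ s : Finset (Iso q E), (QuadraticMap.polar (qf K) (am D.j u) (∑ x ∈ s, c x • am D.j x)) =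
          - (D.Φ u ⬝ᵥ ∑ x ∈ s, c x • D.V x) := by
        intro s
        induction s using Finset.induction_on with
        | empty => rw [Finset.sum_empty, Finset.sum_empty, QuadraticMap.polar_zero_right, dotProduct_zero, neg_zero]
        | insert x s hx ih =>
          rw [Finset.sum_insert hx, Finset.sum_insert hx, QuadraticMap.polar_add_right, ih, dotProduct_add,
            QuadraticMap.polar_smul_right, polar_am hE, dotProduct_smul, D.ker.coef, hb, smul_eq_mul, smul_eq_mul]
          ring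
      have h6 := h5 Finset.univ
      rw [← ha, QuadraticMap.polar_smul_right, polar_eq] at h6
      have h7 : ∑ i, ∑ k, (am D.j u).1 i k * one.1 k i = 0 := by
        have h8 := (am D.j u).2
        rw [LinearMap.mem_ker, Matrix.traceLinearMap_apply, Matrix.trace] at h8
        rw [← h8]
        refine Finset.sum_congr rfl fun i _ => ?_
        rw [Finset.sum_eq_single i]
        · change _ * (1 : Matrix (Fin 3) (Fin 3) K) i i = _
          rw [Matrix.one_apply_eq, mul_one, Matrix.diag_apply]
        · intro k _ hk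
          change _ * (1 : Matrix (Fin 3) (Fin 3) K) k i = _
          rw [Matrix.one_apply_ne hk, mul_zero]
        · intro h
          exact absurd (Finset.mem_univ i) h
      rw [h7, neg_zero, smul_zero] at h6
      exact neg_eq_zero.1 h6.symm
    have h5 : ∀ y : ι → K, y ⬝ᵥ (∑ x, c x • D.V x) = 0 := by
      intro y
      have hy : y ∈ Submodule.span K (Set.range D.Φ) := by rw [D.ker.spanL]; trivial
      induction hy using Submodule.span_induction with
      | mem y hy =>
        obtain ⟨u, rfl⟩ := hy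
        exact h4 u
      | zero => rw [zero_dotProduct]
      | add x y _ _ hx hy => rw [add_dotProduct, hx, hy, add_zero]
      | smul c x _ hx => rw [smul_dotProduct, hx, smul_zero]
    funext i
    have h6 := h5 (Pi.single i 1)
    rw [single_dotProduct, one_mul] at h6
    exact h6
  obtain ⟨L, hL⟩ := exists_lin D.V (fun x => (Submodule.Quotient.mk (am D.j x) : Tz K ⧸ Z)) D.ker.spanR hker
    (by rw [Module.finrank_pi]; exact hd.trans h7)
  obtain ⟨s, hs⟩ := LinearMap.exists_rightInverse_of_surjective Z.mkQ (Submodule.range_mkQ Z)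
  refine ⟨s ∘ₗ L, fun w => ?_⟩
  have h2 : Z.mkQ (s (L (D.V w))) = Z.mkQ (am D.j w) := by
    have := LinearMap.congr_fun hs (L (D.V w))
    rw [LinearMap.comp_apply, LinearMap.id_apply] at this
    rw [this, hL]
    rfl
  rw [← sub_eq_zero, ← map_sub, Submodule.mkQ_apply, Submodule.Quotient.mk_eq_zero] at h2
  obtain ⟨a, ha⟩ := Submodule.mem_span_singleton.1 h2
  refine ⟨a, ?_⟩
  have h4 := congrArg Subtype.val ha
  rw [LinearMap.comp_apply]
  change a • (1 : Matrix (Fin 3) (Fin 3) K) = (s (L (D.V w))).1 - (am D.j w).1 at h4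
  rw [h4]
  abel

end Data

/-! ### Trilinear maps -/

section Mk

variable {R V W : Type*} [CommRing R] [AddCommGroup V] [Module R V] [AddCommGroup W] [Module R W]

/-- trilinear maps from functions -/
def mk3 (T : V → V → V → W) (a1 : ∀ x x' y z, T (x + x') y z = T x y z + T x' y z)
    (s1 : ∀ (c : R) x y z, T (c • x) y z = c • T x y z) (a2 : ∀ x y y' z, T x (y + y') z = T x y z + T x y' z)
    (s2 : ∀ (c : R) x y z, T x (c • y) z = c • T x y z) (a3 : ∀ x y z z', T x y (z + z') = T x y z + T x y z')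
    (s3 : ∀ (c : R) x y z, T x y (c • z) = c • T x y z) : V →ₗ[R] V →ₗ[R] V →ₗ[R] W where
  toFun x := LinearMap.mk₂ R (T x) (a2 x) (fun c y z => s2 c x y z) (a3 x) (fun c y z => s3 c x y z)
  map_add' x x' := by
    ext y z
    exact a1 x x' y z
  map_smul' c x := by
    ext y z
    exact s1 c x y z

theorem mk3_apply (T : V → V → V → W) (a1 : ∀ x x' y z, T (x + x') y z = T x y z + T x' y z)
    (s1 : ∀ (c : R) x y z, T (c • x) y z = c • T x y z) (a2 : ∀ x y y' z, T x (y + y') z = T x y z + T x y' z)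
    (s2 : ∀ (c : R) x y z, T x (c • y) z = c • T x y z) (a3 : ∀ x y z z', T x y (z + z') = T x y z + T x y z')
    (s3 : ∀ (c : R) x y z, T x y (c • z) = c • T x y z) (x y z : V) : mk3 T a1 s1 a2 s2 a3 s3 x y z = T x y z := rfl

theorem ext3 {τ : Type*} {b : τ → V} (hb : Submodule.span R (Set.range b) = ⊤) {f g : V →ₗ[R] V →ₗ[R] V →ₗ[R] W}
    (h : ∀ i j k, f (b i) (b j) (b k) = g (b i) (b j) (b k)) : f = g :=
  LinearMap.ext_on_range hb fun i => LinearMap.ext_on_range hb fun j => LinearMap.ext_on_range hb fun k => h i j k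

end Mk

section Main

variable {F : Type u} [Field F] [Finite F] {ι : Type} [Fintype ι] [DecidableEq ι] {P : Subgroup (GL ι F)}
  (p : ℕ) [hp : Fact p.Prime] [hFp : CharP F p] {E : Type} [Field E] [Fintype E] [hEp : CharP E p]

include p hp hFp hEp in
/-- **the invariant alternating trilinear form** -/
theorem exists_alt_psu3 {q : ℕ} (hC : Core P) (hsd : SD P) (hq3 : 3 ≤ q) (hE : Fintype.card E = q ^ 2)
    (e : Soc P ≃* PSU 3 E q) (h7 : Fintype.card ι = 7) :
    ∃ f : (ι → F) →ₗ[F] (ι → F) →ₗ[F] (ι → F) →ₗ[F] F, (∀ x y, f x x y = 0) ∧ (∀ x y, f x y y = 0) ∧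
      (∃ x y z, f x y z ≠ 0) ∧ ∀ g ∈ P, ∀ x y z, f ((g : Matrix ι ι F) *ᵥ x) ((g : Matrix ι ι F) *ᵥ y)
        ((g : Matrix ι ι F) *ᵥ z) = f x y z := by
  classical
  obtain ⟨D⟩ := core_model p hC hq3 hE e (by omega)
  have hb := (D.sd_iff p hC hq3 hE (by omega)).1 hsd
  have hchar : CharP (AlgebraicClosure F) p := charP_of_injective_algebraMap (algebraMap F _).injective p
  have hp3 : p = 3 := by
    rcases core_psu3_sd p hC hq3 hE e (by omega) hsd with h | h
    · exact h.1
    · omega
  have h3 : (3 : AlgebraicClosure F) = 0 := by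
    have := CharP.cast_eq_zero (AlgebraicClosure F) p
    rw [hp3] at this
    simpa using this
  obtain ⟨S, hS⟩ := D.exists_tz hE hb h7.ge h3
  let T : (ι → AlgebraicClosure F) →ₗ[AlgebraicClosure F] (ι → AlgebraicClosure F) →ₗ[AlgebraicClosure F]
      (ι → AlgebraicClosure F) →ₗ[AlgebraicClosure F] AlgebraicClosure F :=
    mk3 (fun x y z => tri (S x).1 (S y).1 (S z).1)
      (fun x x' y z => by rw [map_add]; exact tri_add1 _ _ _ _) (fun c x y z => by rw [map_smul]; exact tri_smul1 _ _ _ _)
      (fun x y y' z => by rw [map_add]; exact tri_add2 _ _ _ _) (fun c x y z => by rw [map_smul]; exact tri_smul2 _ _ _ _)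
      (fun x y z z' => by rw [map_add]; exact tri_add3 _ _ _ _) (fun c x y z => by rw [map_smul]; exact tri_smul3 _ _ _ _)
  have hT : ∀ x y z, T x y z = tri (S x).1 (S y).1 (S z).1 := fun _ _ _ => rfl
  have hTV : ∀ u v w, T (D.V u) (D.V v) (D.V w) =
      D.j (hermForm 3 E q v.1 u.1 * hermForm 3 E q w.1 v.1 * hermForm 3 E q u.1 w.1) -
        D.j (hermForm 3 E q w.1 u.1 * hermForm 3 E q v.1 w.1 * hermForm 3 E q u.1 v.1) := by
    intro u v w
    obtain ⟨a, ha⟩ := hS u
    obtain ⟨b, hb'⟩ := hS v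
    obtain ⟨c, hc⟩ := hS w
    rw [hT, ha, hb', hc, tri_scalars, tri_am]
  -- invariance
  have hinv : ∀ (g : SU 3 E q) x y z, T (acRep D.rep g *ᵥ x) (acRep D.rep g *ᵥ y) (acRep D.rep g *ᵥ z) = T x y z := by
    intro g
    have h4 : mk3 (R := AlgebraicClosure F)
        (fun x y z => T (acRep D.rep g *ᵥ x) (acRep D.rep g *ᵥ y) (acRep D.rep g *ᵥ z))
        (fun x x' y z => by rw [Matrix.mulVec_add, map_add]; rfl) (fun c x y z => by rw [Matrix.mulVec_smul, map_smul]; rfl)
        (fun x y y' z => by rw [Matrix.mulVec_add, map_add]; rfl) (fun c x y z => by rw [Matrix.mulVec_smul, map_smul]; rfl)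
        (fun x y z z' => by rw [Matrix.mulVec_add, map_add]) (fun c x y z => by rw [Matrix.mulVec_smul, map_smul]) = T := by
      apply ext3 D.ker.spanR
      intro u v w
      rw [mk3_apply, ← D.V_act hE, ← D.V_act hE, ← D.V_act hE, hTV, hTV]
      simp only [actIso, herm_act]
    intro x y z
    exact LinearMap.congr_fun (LinearMap.congr_fun (LinearMap.congr_fun h4 x) y) z
  -- nonzero
  obtain ⟨e₂, e₃, hfr⟩ := exists_fr hE D.iso D.ne
  have h30 : e₃ ≠ 0 := by
    rintro rfl
    have := hfr.h13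
    rw [herm_zero_right hE] at this
    exact zero_ne_one this
  obtain ⟨y, hy⟩ : ∃ y : E, y ^ q ≠ y := by
    by_contra hcon
    push Not at hcon
    have h5 : (Finset.univ : Finset E).card ≤ q := by
      have h6 := FiniteField.X_pow_card_sub_X_natDegree_eq E (p := q) (by omega)
      have h8 : (Polynomial.X ^ q - Polynomial.X : Polynomial E) ≠ 0 :=
        FiniteField.X_pow_card_sub_X_ne_zero E (by omega)
      have h9 : (Finset.univ : Finset E).val ≤ (Polynomial.X ^ q - Polynomial.X : Polynomial E).roots := by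
        rw [Finset.val_le_iff_val_subset]
        intro x _
        rw [Polynomial.mem_roots h8]
        simp [hcon x]
      have h10 := Multiset.card_le_card h9
      exact h10.trans ((Polynomial.card_roots' _).trans h6.le)
    rw [Finset.card_univ, hE] at h5
    nlinarith
  obtain ⟨x, hx⟩ := exists_norm_eq hE (c := -(y + y ^ q)) (by
    rw [neg_pow_q hE, add_pow_q hE, pow_q_pow_q hE, add_comm])
  have hw : hermForm 3 E q (y • D.e₀ + x • e₂ + (1 : E) • e₃) (y • D.e₀ + x • e₂ + (1 : E) • e₃) = 0 := by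
    rw [hfr.herm_comb hE, hx, one_pow]
    ring
  let w : Iso q E := ⟨_, hw, hfr.comb_ne_zero hE one_ne_zero⟩
  have hne : T (D.V ⟨D.e₀, D.iso, D.ne⟩) (D.V ⟨e₃, hfr.h33, h30⟩) (D.V w) ≠ 0 := by
    have h5 : hermForm 3 E q w.1 e₃ = y := by
      have := hfr.herm_comb hE y x 1 0 0 1
      simp only [zero_smul, zero_add, one_smul, one_pow, zero_pow_q hE, mul_one, mul_zero, add_zero] at this
      simpa [w] using this
    have h6 : hermForm 3 E q D.e₀ w.1 = 1 := by
      have := hfr.herm_comb hE 1 0 0 y x 1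
      simp only [zero_smul, add_zero, one_smul, one_pow, zero_mul, mul_one] at this
      simpa [w] using this
    have h8 : hermForm 3 E q w.1 D.e₀ = 1 := by rw [herm_swap hE, h6, one_pow]
    have h9 : hermForm 3 E q e₃ w.1 = y ^ q := by rw [herm_swap hE, h5]
    rw [hTV, h5, h6, hfr.h31 hE, h8, h9, hfr.h13, one_mul, mul_one, one_mul, mul_one, ← map_sub]
    rw [Ne, map_eq_zero_iff _ D.j.injective, sub_eq_zero]
    exact fun h => hy h.symm
  -- basis vectors
  obtain ⟨a, b, c, habc⟩ : ∃ a b c : ι, T (Pi.single a 1) (Pi.single b 1) (Pi.single c 1) ≠ 0 := by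
    by_contra hcon
    push Not at hcon
    apply hne
    have h5 : T = 0 := by
      apply ext3 (b := fun a : ι => (Pi.single a 1 : ι → AlgebraicClosure F))
      · have h6 := (Pi.basisFun (AlgebraicClosure F) ι).span_eq
        have h8 : (⇑(Pi.basisFun (AlgebraicClosure F) ι)) = fun a : ι => (Pi.single a 1 : ι → AlgebraicClosure F) := by
          funext a
          rw [Pi.basisFun_apply]
        rw [h8] at h6
        exact h6
      · intro a b c
        rw [hcon]
        rfl
    rw [h5]
    rfl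
  -- a functional
  obtain ⟨lam, hlam⟩ : ∃ lam : Module.Dual F (AlgebraicClosure F),
      lam (T (Pi.single a 1) (Pi.single b 1) (Pi.single c 1)) ≠ 0 := by
    by_contra hcon
    push Not at hcon
    exact habc ((Module.forall_dual_apply_eq_zero_iff F _).1 hcon)
  let i : (ι → F) → (ι → AlgebraicClosure F) := fun x k => algebraMap F (AlgebraicClosure F) (x k)
  have hia : ∀ x y, i (x + y) = i x + i y := fun x y => by
    funext k
    exact map_add _ _ _
  have his : ∀ (c : F) x, i (c • x) = algebraMap F (AlgebraicClosure F) c • i x := fun c x => by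
    funext k
    exact map_mul _ _ _
  have hlamsm : ∀ (c : F) (z : AlgebraicClosure F), lam (algebraMap F (AlgebraicClosure F) c • z) = c • lam z := by
    intro c z
    rw [smul_eq_mul, ← Algebra.smul_def, map_smul]
  refine ⟨mk3 (fun x y z => lam (T (i x) (i y) (i z)))
    (fun x x' y z => by rw [hia, map_add, LinearMap.add_apply, LinearMap.add_apply, map_add])
    (fun c x y z => by rw [his, map_smul, LinearMap.smul_apply, LinearMap.smul_apply, hlamsm])
    (fun x y y' z => by rw [hia, map_add, LinearMap.add_apply, map_add])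
    (fun c x y z => by rw [his, map_smul, LinearMap.smul_apply, hlamsm])
    (fun x y z z' => by rw [hia, map_add, map_add]) (fun c x y z => by rw [his, map_smul, hlamsm]), ?_, ?_, ?_, ?_⟩
  · intro x y
    rw [mk3_apply, hT, tri_self, map_zero]
  · intro x y
    rw [mk3_apply, hT, tri_z23, map_zero]
  · refine ⟨Pi.single a 1, Pi.single b 1, Pi.single c 1, ?_⟩
    have hi : ∀ k : ι, i (Pi.single k 1) = Pi.single k 1 := by
      intro k
      funext l
      rcases eq_or_ne l k with rfl | h
      · simp only [i, Pi.single_eq_same, map_one]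
      · simp only [i, Pi.single_eq_of_ne h, map_zero]
    rw [mk3_apply, hi, hi, hi]
    exact hlam
  · intro g hg x y z
    obtain ⟨h, rfl⟩ : g ∈ D.rep.range := D.range_rep.ge hg
    have hm : ∀ x : ι → F, i ((D.rep h : Matrix ι ι F) *ᵥ x) = acRep D.rep h *ᵥ i x := by
      intro x
      funext k
      simp only [i, Matrix.mulVec, dotProduct, map_sum, map_mul, acRep_apply, Matrix.map_apply]
    change lam (T (i ((D.rep h : Matrix ι ι F) *ᵥ x)) (i ((D.rep h : Matrix ι ι F) *ᵥ y))
      (i ((D.rep h : Matrix ι ι F) *ᵥ z))) = lam (T (i x) (i y) (i z))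
    rw [hm x, hm y, hm z]
    exact congrArg lam (hinv h (i x) (i y) (i z))

end Main

end Cfsg.Agent.H929.U3
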