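import Mathlib.Data.ZMod.Basic
import Mathlib.Algebra.BigOperators.Fin
import Mathlib.Tactic.Ring
import Mathlib.Tactic.LinearCombination
import Mathlib.Algebra.Field.ZMod
import Mathlib.LinearAlgebra.Basis.VectorSpace
import Mathlib.Tactic

/-!
A finite check over the field with five elements: for five vectors of the plane over `ZMod 5`, at
most one of them zero, there are non-zero scalars `t k`, not all one, with product one, such that
`∑ (t k - 1) • v k = 0`.
-/

set_option autoImplicit false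

namespace Cfsg.Agent.H929.Five

theorem fact5 : Fact (Nat.Prime 5) := ⟨by norm_num⟩

attribute [local instance] fact5

/-- numbers below five -/
def r5 : List ℕ := [0, 1, 2, 3, 4]
/-- numbers below four -/
def r4 : List ℕ := [0, 1, 2, 3]

/-- the test for one choice of coefficients `x y z` -/
def tst (a b c d e f x y z : ℕ) : Bool :=
  !(Nat.beq (4 * (a * x + c * y + e * z) % 5) 4) &&
  !(Nat.beq (4 * (b * x + d * y + f * z) % 5) 4) &&
  !(Nat.beq (x + y + z) 0) &&
  Nat.beq ((1 + 4 * (a * x + c * y + e * z) % 5) * (1 + 4 * (b * x + d * y + f * z) % 5) *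
    (1 + x) * (1 + y) * (1 + z) % 5) 1

/-- some choice works -/
def ok5 (a b c d e f : ℕ) : Bool :=
  r4.any fun x => r4.any fun y => r4.any fun z => tst a b c d e f x y z

/-- some choice with `z = 0` works -/
def ok4 (a b c d : ℕ) : Bool :=
  r4.any fun x => r4.any fun y => tst a b c d 0 0 x y 0

/-- the whole check -/
def chk : Bool :=
  r5.all fun a => r5.all fun b => r5.all fun c => r5.all fun d =>
    bif (Nat.beq (a + b) 0) then
      (bif (Nat.beq (c + d) 0) then true
      else r5.all fun e => r5.all fun f => (Nat.beq (e + f) 0) || ok5 a b c d e f)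
    else
      (bif (Nat.beq (c + d) 0) then
        r5.all fun e => r5.all fun f => (Nat.beq (e + f) 0) || ok5 a b c d e f
      else ok4 a b c d || (r5.all fun e => r5.all fun f => ok5 a b c d e f))

theorem chk_true : chk = true := by decide +kernel

theorem nbf {a b : ℕ} (h : a ≠ b) : Nat.beq a b = false := by
  cases hb : Nat.beq a b
  · rfl
  · exact absurd (Nat.eq_of_beq_eq_true hb) h

theorem nbt {a b : ℕ} (h : Nat.beq a b = true) : a = b := Nat.eq_of_beq_eq_true h

theorem nbn {a b : ℕ} (h : (!Nat.beq a b) = true) : a ≠ b := by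
  intro hab
  subst hab
  rw [show Nat.beq a a = true from Nat.beq_refl a] at h
  exact absurd h (by decide)

theorem mem_r5 {n : ℕ} (h : n < 5) : n ∈ r5 := by
  unfold r5
  interval_cases n <;> decide

theorem lt_of_mem_r4 {n : ℕ} (h : n ∈ r4) : n < 4 := by
  unfold r4 at h
  fin_cases h <;> decide

theorem ok5_of_ok4 {a b c d : ℕ} (e f : ℕ) (h : ok4 a b c d = true) : ok5 a b c d e f = true := by
  unfold ok4 at h
  unfold ok5
  rw [List.any_eq_true] at h ⊢
  obtain ⟨x, hx, h⟩ := h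
  rw [List.any_eq_true] at h
  obtain ⟨y, hy, h⟩ := h
  refine ⟨x, hx, ?_⟩
  rw [List.any_eq_true]
  refine ⟨y, hy, ?_⟩
  rw [List.any_eq_true]
  refine ⟨0, by unfold r4; decide, ?_⟩
  unfold tst at h ⊢
  simpa using h

theorem chk_spec {a b c d e f : ℕ} (ha : a < 5) (hb : b < 5) (hc : c < 5) (hd : d < 5)
    (he : e < 5) (hf : f < 5) (h1 : a + b ≠ 0 ∨ c + d ≠ 0) (h2 : a + b ≠ 0 ∨ e + f ≠ 0)
    (h3 : c + d ≠ 0 ∨ e + f ≠ 0) : ok5 a b c d e f = true := by
  have h := chk_true
  unfold chk at h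
  rw [List.all_eq_true] at h
  have h := h a (mem_r5 ha)
  rw [List.all_eq_true] at h
  have h := h b (mem_r5 hb)
  rw [List.all_eq_true] at h
  have h := h c (mem_r5 hc)
  rw [List.all_eq_true] at h
  have h := h d (mem_r5 hd)
  by_cases hab : a + b = 0
  · have hcd : c + d ≠ 0 := h1.resolve_left (fun h => h hab)
    have hef : e + f ≠ 0 := h2.resolve_left (fun h => h hab)
    have e1 : Nat.beq (a + b) 0 = true := by rw [hab]; rfl
    have e2 : Nat.beq (c + d) 0 = false := nbf hcd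
    rw [e1, e2, cond_true, cond_false, List.all_eq_true] at h
    have h := h e (mem_r5 he)
    rw [List.all_eq_true] at h
    have h := h f (mem_r5 hf)
    have e3 : Nat.beq (e + f) 0 = false := nbf hef
    rwa [e3, Bool.false_or] at h
  · have e1 : Nat.beq (a + b) 0 = false := nbf hab
    rw [e1, cond_false] at h
    by_cases hcd : c + d = 0
    · have hef : e + f ≠ 0 := h3.resolve_left (fun h => h hcd)
      have e2 : Nat.beq (c + d) 0 = true := by rw [hcd]; rfl
      rw [e2, cond_true, List.all_eq_true] at h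
      have h := h e (mem_r5 he)
      rw [List.all_eq_true] at h
      have h := h f (mem_r5 hf)
      have e3 : Nat.beq (e + f) 0 = false := nbf hef
      rwa [e3, Bool.false_or] at h
    · have e2 : Nat.beq (c + d) 0 = false := nbf hcd
      rw [e2, cond_false, Bool.or_eq_true] at h
      rcases h with h | h
      · exact ok5_of_ok4 e f h
      · rw [List.all_eq_true] at h
        have h := h e (mem_r5 he)
        rw [List.all_eq_true] at h
        exact h f (mem_r5 hf)

/-- the arithmetic statement in `ZMod 5` -/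
theorem exists_s (a b c d e f : ZMod 5) (h1 : ¬ (a = 0 ∧ b = 0) ∨ ¬ (c = 0 ∧ d = 0))
    (h2 : ¬ (a = 0 ∧ b = 0) ∨ ¬ (e = 0 ∧ f = 0)) (h3 : ¬ (c = 0 ∧ d = 0) ∨ ¬ (e = 0 ∧ f = 0)) :
    ∃ s r x y z : ZMod 5, s ≠ -1 ∧ r ≠ -1 ∧ x ≠ -1 ∧ y ≠ -1 ∧ z ≠ -1 ∧
      ¬ (x = 0 ∧ y = 0 ∧ z = 0) ∧ s + (a * x + c * y + e * z) = 0 ∧
      r + (b * x + d * y + f * z) = 0 ∧
      (1 + s) * (1 + r) * (1 + x) * (1 + y) * (1 + z) = 1 := by
  have hne : ∀ u v : ZMod 5, ¬ (u = 0 ∧ v = 0) → u.val + v.val ≠ 0 := by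
    intro u v huv h0
    apply huv
    have hu : u.val = 0 := by omega
    have hv : v.val = 0 := by omega
    exact ⟨(ZMod.val_eq_zero u).1 hu, (ZMod.val_eq_zero v).1 hv⟩
  have key := chk_spec (a.val_lt) (b.val_lt) (c.val_lt) (d.val_lt) (e.val_lt) (f.val_lt)
    (h1.imp (hne _ _) (hne _ _)) (h2.imp (hne _ _) (hne _ _)) (h3.imp (hne _ _) (hne _ _))
  unfold ok5 at key
  rw [List.any_eq_true] at key
  obtain ⟨x, hx, key⟩ := key
  rw [List.any_eq_true] at key
  obtain ⟨y, hy, key⟩ := key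
  rw [List.any_eq_true] at key
  obtain ⟨z, hz, key⟩ := key
  have hx4 := lt_of_mem_r4 hx
  have hy4 := lt_of_mem_r4 hy
  have hz4 := lt_of_mem_r4 hz
  unfold tst at key
  rw [Bool.and_eq_true, Bool.and_eq_true, Bool.and_eq_true] at key
  obtain ⟨⟨⟨k1, k2⟩, k3⟩, k4⟩ := key
  have k1 := nbn k1
  have k2 := nbn k2
  have k3 := nbn k3
  have k4 := nbt k4
  have hcast : ∀ n : ℕ, ((n % 5 : ℕ) : ZMod 5) = (n : ZMod 5) := fun n => ZMod.natCast_mod n 5
  have hm1 : ∀ n : ℕ, n < 5 → n ≠ 4 → (n : ZMod 5) ≠ -1 := by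
    intro n hn hn4
    interval_cases n
    · decide
    · decide
    · decide
    · decide
    · exact absurd rfl hn4
  have hz0 : ∀ n : ℕ, n < 5 → (n : ZMod 5) = 0 → n = 0 := by
    intro n hn hn0
    interval_cases n
    · rfl
    · exact absurd hn0 (by decide)
    · exact absurd hn0 (by decide)
    · exact absurd hn0 (by decide)
    · exact absurd hn0 (by decide)
  have hval : ∀ u : ZMod 5, ((u.val : ℕ) : ZMod 5) = u := fun u => ZMod.natCast_zmod_val u
  refine ⟨((4 * (a.val * x + c.val * y + e.val * z) % 5 : ℕ) : ZMod 5),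
    ((4 * (b.val * x + d.val * y + f.val * z) % 5 : ℕ) : ZMod 5), x, y, z,
    hm1 _ (Nat.mod_lt _ (by norm_num)) k1, hm1 _ (Nat.mod_lt _ (by norm_num)) k2,
    hm1 _ (by omega) (by omega), hm1 _ (by omega) (by omega), hm1 _ (by omega) (by omega),
    ?_, ?_, ?_, ?_⟩
  · rintro ⟨e1, e2, e3⟩
    have := hz0 x (by omega) e1
    have := hz0 y (by omega) e2
    have := hz0 z (by omega) e3
    omega
  · rw [hcast]
    push_cast
    rw [hval, hval, hval]
    have h5 : (5 : ZMod 5) = 0 := by decide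
    linear_combination (a * x + c * y + e * z) * h5
  · rw [hcast]
    push_cast
    rw [hval, hval, hval]
    have h5 : (5 : ZMod 5) = 0 := by decide
    linear_combination (b * x + d * y + f * z) * h5
  · have := congrArg (fun n : ℕ => (n : ZMod 5)) k4
    simp only [hcast] at this
    push_cast at this
    rw [hcast, hcast]
    push_cast
    simpa [ZMod.natCast_mod] using this

/-- the collinear case -/
theorem exists_line (c d : ZMod 5) (hc : c ≠ 0) (hd : d ≠ 0) : ∃ x y z : ZMod 5, x ≠ 0 ∧ y ≠ 0 ∧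
    z ≠ 0 ∧ ¬ (x = 1 ∧ y = 1 ∧ z = 1) ∧ x * y * z = 1 ∧
      (x - 1) + (y - 1) * c + (z - 1) * d = 0 := by
  revert c d
  decide +kernel

/-- there are suitable scalars `t` -/
def Good {F : Type*} [Field F] (p q : Fin 5 → F) : Prop :=
  ∃ t : Fin 5 → F, (∀ k, t k ≠ 0) ∧ ∏ k, t k = 1 ∧ (∃ k, t k ≠ 1) ∧
    ∑ k, (t k - 1) * p k = 0 ∧ ∑ k, (t k - 1) * q k = 0

theorem Good.of_perm {F : Type*} [Field F] {p q : Fin 5 → F} (σ : Equiv.Perm (Fin 5))
    (h : Good (fun k => p (σ k)) (fun k => q (σ k))) : Good p q := by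
  obtain ⟨t, h1, h2, ⟨k, h3⟩, h4, h5⟩ := h
  refine ⟨fun k => t (σ.symm k), fun k => h1 _, ?_, ⟨σ k, by simpa using h3⟩, ?_, ?_⟩
  · rw [← h2]
    exact Equiv.prod_comp σ.symm t
  · rw [← h4]
    rw [← Equiv.sum_comp σ]
    simp
  · rw [← h5]
    rw [← Equiv.sum_comp σ]
    simp

theorem exists_perm_two (k l : Fin 5) (h : k ≠ l) :
    ∃ σ : Equiv.Perm (Fin 5), σ 0 = k ∧ σ 1 = l := by
  have hl : Equiv.swap 0 k l ≠ 0 := by
    intro h0
    apply h
    have := congrArg (Equiv.swap 0 k) h0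
    rw [Equiv.swap_apply_self] at this
    rw [this]
    simp
  refine ⟨Equiv.swap 0 k * Equiv.swap 1 (Equiv.swap 0 k l), ?_, ?_⟩
  · rw [Equiv.Perm.mul_apply, Equiv.swap_apply_of_ne_of_ne (by decide) hl.symm]
    simp
  · rw [Equiv.Perm.mul_apply]
    simp

theorem exists_perm_three (k l m : Fin 5) (h : k ≠ l) (h' : k ≠ m) (h'' : l ≠ m) :
    ∃ σ : Equiv.Perm (Fin 5), σ 0 = k ∧ σ 1 = l ∧ σ 2 = m := by
  obtain ⟨σ, h0, h1⟩ := exists_perm_two k l h
  have hm0 : σ.symm m ≠ 0 := by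
    intro e
    apply h'
    rw [← h0, ← e]
    simp
  have hm1 : σ.symm m ≠ 1 := by
    intro e
    apply h''
    rw [← h1, ← e]
    simp
  refine ⟨σ * Equiv.swap 2 (σ.symm m), ?_, ?_, ?_⟩
  · rw [Equiv.Perm.mul_apply, Equiv.swap_apply_of_ne_of_ne (by decide) hm0.symm, h0]
  · rw [Equiv.Perm.mul_apply, Equiv.swap_apply_of_ne_of_ne (by decide) hm1.symm, h1]
  · rw [Equiv.Perm.mul_apply]
    simp

theorem good_of_line {p q : Fin 5 → ZMod 5} (h0 : ¬ (p 0 = 0 ∧ q 0 = 0))
    (h1 : ¬ (p 1 = 0 ∧ q 1 = 0)) (h2 : ¬ (p 2 = 0 ∧ q 2 = 0))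
    (hD1 : p 0 * q 1 - p 1 * q 0 = 0) (hD2 : p 0 * q 2 - p 2 * q 0 = 0) : Good p q := by
  have hmul : ∀ a b c d : ZMod 5, ¬ (a = 0 ∧ b = 0) → ¬ (c = 0 ∧ d = 0) → a * d - c * b = 0 →
      ∃ u : ZMod 5, u ≠ 0 ∧ c = u * a ∧ d = u * b := by
    intro a b c d hab hcd hD
    by_cases ha : a = 0
    · have hb : b ≠ 0 := fun hb => hab ⟨ha, hb⟩
      have hc : c = 0 := by
        have : c * b = 0 := by linear_combination (-1 : ZMod 5) * hD + d * ha
        exact (mul_eq_zero.1 this).resolve_right hb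
      have hd : d ≠ 0 := fun hd => hcd ⟨hc, hd⟩
      refine ⟨d / b, div_ne_zero hd hb, ?_, ?_⟩
      · rw [hc, ha, mul_zero]
      · field_simp
    · refine ⟨c / a, ?_, ?_, ?_⟩
      · intro h0
        have hc : c = 0 := by
          rcases div_eq_zero_iff.1 h0 with h | h
          · exact h
          · exact absurd h ha
        apply hcd
        refine ⟨hc, ?_⟩
        have : a * d = 0 := by linear_combination hD + b * hc
        exact (mul_eq_zero.1 this).resolve_left ha
      · field_simp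
      · field_simp
        linear_combination hD
  obtain ⟨u, hu, hu1, hu2⟩ := hmul _ _ _ _ h0 h1 hD1
  obtain ⟨w, hw, hw1, hw2⟩ := hmul _ _ _ _ h0 h2 hD2
  obtain ⟨x, y, z, hx, hy, hz, hne, e1, e2⟩ := exists_line u w hu hw
  refine ⟨![x, y, z, 1, 1], ?_, ?_, ?_, ?_, ?_⟩
  · intro k
    fin_cases k
    · exact hx
    · exact hy
    · exact hz
    · exact one_ne_zero
    · exact one_ne_zero
  · rw [Fin.prod_univ_five]
    change x * y * z * 1 * 1 = 1
    rw [mul_one, mul_one, e1]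
  · by_contra hcon
    push Not at hcon
    exact hne ⟨hcon 0, hcon 1, hcon 2⟩
  · rw [Fin.sum_univ_five]
    change (x - 1) * p 0 + (y - 1) * p 1 + (z - 1) * p 2 + (1 - 1) * p 3 + (1 - 1) * p 4 = 0
    rw [hu1, hw1]
    linear_combination p 0 * e2
  · rw [Fin.sum_univ_five]
    change (x - 1) * q 0 + (y - 1) * q 1 + (z - 1) * q 2 + (1 - 1) * q 3 + (1 - 1) * q 4 = 0
    rw [hu2, hw2]
    linear_combination q 0 * e2

theorem good_of_ind {p q : Fin 5 → ZMod 5}
    (h : ∀ k l, k ≠ l → ¬ (p k = 0 ∧ q k = 0) ∨ ¬ (p l = 0 ∧ q l = 0))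
    (hD : p 0 * q 1 - p 1 * q 0 ≠ 0) : Good p q := by
  set D := p 0 * q 1 - p 1 * q 0 with hDdef
  have hcoef : ∀ m, p m = (p m * q 1 - p 1 * q m) / D * p 0 + (p 0 * q m - p m * q 0) / D * p 1 ∧
      q m = (p m * q 1 - p 1 * q m) / D * q 0 + (p 0 * q m - p m * q 0) / D * q 1 := by
    intro m
    constructor
    · field_simp
      rw [hDdef]
      ring
    · field_simp
      rw [hDdef]
      ring
  have hz : ∀ m, ¬ (p m = 0 ∧ q m = 0) → ¬ ((p m * q 1 - p 1 * q m) / D = 0 ∧
      (p 0 * q m - p m * q 0) / D = 0) := by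
    rintro m hm ⟨e1, e2⟩
    apply hm
    obtain ⟨g1, g2⟩ := hcoef m
    rw [e1, e2] at g1 g2
    exact ⟨by simpa using g1, by simpa using g2⟩
  obtain ⟨s, r, x, y, z, hs, hr, hx, hy, hz', hne, e1, e2, e3⟩ :=
    exists_s _ _ _ _ _ _ ((h 2 3 (by decide)).imp (hz 2) (hz 3))
      ((h 2 4 (by decide)).imp (hz 2) (hz 4)) ((h 3 4 (by decide)).imp (hz 3) (hz 4))
  have h2 := hcoef 2
  have h3 := hcoef 3
  have h4 := hcoef 4
  have hne1 : ∀ u : ZMod 5, u ≠ -1 → 1 + u ≠ 0 := by
    intro u hu h0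
    apply hu
    linear_combination h0
  refine ⟨![1 + s, 1 + r, 1 + x, 1 + y, 1 + z], ?_, ?_, ?_, ?_, ?_⟩
  · intro k
    fin_cases k
    · exact hne1 _ hs
    · exact hne1 _ hr
    · exact hne1 _ hx
    · exact hne1 _ hy
    · exact hne1 _ hz'
  · rw [Fin.prod_univ_five]
    exact e3
  · by_contra hcon
    push Not at hcon
    apply hne
    refine ⟨?_, ?_, ?_⟩
    · have := hcon 2
      change 1 + x = 1 at this
      linear_combination this
    · have := hcon 3
      change 1 + y = 1 at this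
      linear_combination this
    · have := hcon 4
      change 1 + z = 1 at this
      linear_combination this
  · rw [Fin.sum_univ_five]
    change (1 + s - 1) * p 0 + (1 + r - 1) * p 1 + (1 + x - 1) * p 2 + (1 + y - 1) * p 3 +
      (1 + z - 1) * p 4 = 0
    rw [h2.1, h3.1, h4.1]
    linear_combination p 0 * e1 + p 1 * e2
  · rw [Fin.sum_univ_five]
    change (1 + s - 1) * q 0 + (1 + r - 1) * q 1 + (1 + x - 1) * q 2 + (1 + y - 1) * q 3 +
      (1 + z - 1) * q 4 = 0
    rw [h2.2, h3.2, h4.2]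
    linear_combination q 0 * e1 + q 1 * e2

theorem good_zmod {p q : Fin 5 → ZMod 5}
    (h : ∀ k l, k ≠ l → ¬ (p k = 0 ∧ q k = 0) ∨ ¬ (p l = 0 ∧ q l = 0)) : Good p q := by
  by_cases hD : ∃ k l : Fin 5, p k * q l - p l * q k ≠ 0
  · obtain ⟨k, l, hD⟩ := hD
    have hkl : k ≠ l := by
      rintro rfl
      apply hD
      ring
    obtain ⟨σ, h0, h1⟩ := exists_perm_two k l hkl
    apply Good.of_perm σ
    apply good_of_ind
    · intro a b hab
      exact h _ _ (fun e => hab (σ.injective e))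
    · rw [h0, h1]
      exact hD
  · push Not at hD
    -- three non-zero vectors
    have h3 : ∃ k l m : Fin 5, k ≠ l ∧ k ≠ m ∧ l ≠ m ∧ ¬ (p k = 0 ∧ q k = 0) ∧
        ¬ (p l = 0 ∧ q l = 0) ∧ ¬ (p m = 0 ∧ q m = 0) := by
      by_cases z0 : p 0 = 0 ∧ q 0 = 0
      · exact ⟨1, 2, 3, by decide, by decide, by decide,
          (h 0 1 (by decide)).resolve_left (fun e => e z0),
          (h 0 2 (by decide)).resolve_left (fun e => e z0),
          (h 0 3 (by decide)).resolve_left (fun e => e z0)⟩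
      · by_cases z1 : p 1 = 0 ∧ q 1 = 0
        · exact ⟨0, 2, 3, by decide, by decide, by decide, z0,
            (h 1 2 (by decide)).resolve_left (fun e => e z1),
            (h 1 3 (by decide)).resolve_left (fun e => e z1)⟩
        · by_cases z2 : p 2 = 0 ∧ q 2 = 0
          · exact ⟨0, 1, 3, by decide, by decide, by decide, z0, z1,
              (h 2 3 (by decide)).resolve_left (fun e => e z2)⟩
          · exact ⟨0, 1, 2, by decide, by decide, by decide, z0, z1, z2⟩
    obtain ⟨k, l, m, hkl, hkm, hlm, zk, zl, zm⟩ := h3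
    obtain ⟨σ, h0, h1, h2⟩ := exists_perm_three k l m hkl hkm hlm
    apply Good.of_perm σ
    apply good_of_line
    · rw [h0]; exact zk
    · rw [h1]; exact zl
    · rw [h2]; exact zm
    · exact hD _ _
    · exact hD _ _

/-- **The finite check** over any field with five elements. -/
theorem good_of_card {F : Type*} [Field F] [Fintype F] (hF : Fintype.card F = 5)
    {p q : Fin 5 → F} (h : ∀ k l, k ≠ l → ¬ (p k = 0 ∧ q k = 0) ∨ ¬ (p l = 0 ∧ q l = 0)) :
    Good p q := by
  let φ : ZMod 5 ≃+* F := ZMod.ringEquivOfPrime F (by norm_num) hF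
  have h' : Good (fun k => φ.symm (p k)) (fun k => φ.symm (q k)) := by
    apply good_zmod
    intro k l hkl
    simpa using h k l hkl
  obtain ⟨t, h1, h2, ⟨k, h3⟩, h4, h5⟩ := h'
  refine ⟨fun k => φ (t k), ?_, ?_, ⟨k, ?_⟩, ?_, ?_⟩
  · intro k
    simpa using h1 k
  · rw [← map_prod, h2, map_one]
  · intro e
    apply h3
    apply φ.injective
    rw [map_one]
    exact e
  · have := congrArg φ h4
    simpa [map_sum] using this
  · have := congrArg φ h5
    simpa [map_sum] using this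

end Cfsg.Agent.H929.Five
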