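import Cfsg.Agent.H929.Full

/-!
Quadratic forms over a field of odd characteristic given as functions: singular vectors, Siegel
elements.
-/

set_option autoImplicit false
set_option linter.unusedSectionVars false

namespace Cfsg.Agent.H929

open Matrix Cfsg.Agent.H873

variable {ι : Type} [Fintype ι] [DecidableEq ι] {F : Type*} [Field F]

/-- A (possibly degenerate) quadratic form with its polar form `B`. -/
structure QF (Q : (ι → F) → F) (B : (ι → F) → (ι → F) → F) : Prop where
  smul : ∀ (c : F) (v : ι → F), Q (c • v) = c ^ 2 * Q v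
  add : ∀ x y, Q (x + y) = Q x + Q y + B x y
  add_left : ∀ x y v, B (x + y) v = B x v + B y v
  smul_left : ∀ (c : F) (x v : ι → F), B (c • x) v = c * B x v

theorem QF.of (Q : (ι → F) → F) (hQ : Cfsg.Geo.IsNondegenerateQuadraticForm Q) :
    QF Q (QuadraticMap.polar Q) := by
  refine ⟨hQ.smul, fun x y => ?_, hQ.polar_bilinear.add_left, hQ.polar_bilinear.smul_left⟩
  unfold QuadraticMap.polar
  ring

variable {Q Q' : (ι → F) → F} {B B' : (ι → F) → (ι → F) → F}

theorem QF.comm (h : QF Q B) (x y : ι → F) : B x y = B y x := by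
  have h1 := h.add x y
  rw [add_comm x y, h.add y x] at h1
  linear_combination -h1

theorem QF.add_right (h : QF Q B) (v x y : ι → F) : B v (x + y) = B v x + B v y := by
  rw [h.comm, h.add_left, h.comm x, h.comm y]

theorem QF.smul_right (h : QF Q B) (c : F) (v x : ι → F) : B v (c • x) = c * B v x := by
  rw [h.comm, h.smul_left, h.comm x]

theorem QF.self (h : QF Q B) (x : ι → F) : B x x = 2 * Q x := by
  have h1 := h.add x x
  rw [← two_smul F x, h.smul] at h1
  linear_combination -h1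

theorem QF.zero (h : QF Q B) : Q 0 = 0 := by
  have := h.smul 0 0
  simpa using this

theorem QF.zero_left (h : QF Q B) (v : ι → F) : B 0 v = 0 := by
  have := h.smul_left 0 0 v
  simpa using this

theorem QF.zero_right (h : QF Q B) (v : ι → F) : B v 0 = 0 := by
  rw [h.comm, h.zero_left]

theorem QF.neg (h : QF Q B) (x : ι → F) : Q (-x) = Q x := by
  have := h.smul (-1) x
  simpa using this

theorem QF.neg_left (h : QF Q B) (x v : ι → F) : B (-x) v = - B x v := by
  have := h.smul_left (-1) x v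
  simpa using this

theorem QF.neg_right (h : QF Q B) (x v : ι → F) : B x (-v) = - B x v := by
  have := h.smul_right (-1) x v
  simpa using this

theorem QF.sub_left (h : QF Q B) (x y v : ι → F) : B (x - y) v = B x v - B y v := by
  rw [sub_eq_add_neg, h.add_left, h.neg_left, sub_eq_add_neg]

theorem QF.sub_right (h : QF Q B) (v x y : ι → F) : B v (x - y) = B v x - B v y := by
  rw [sub_eq_add_neg, h.add_right, h.neg_right, sub_eq_add_neg]

/-- Completing a singular vector to a hyperbolic pair. -/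
theorem QF.exists_hyperbolic (h : QF Q B) (W : Submodule F (ι → F))
    (hnd : ∀ x ∈ W, x ≠ 0 → ∃ y ∈ W, B x y ≠ 0) {a : ι → F} (ha : a ∈ W) (ha0 : a ≠ 0)
    (haa : Q a = 0) : ∃ b ∈ W, Q b = 0 ∧ B a b = 1 := by
  obtain ⟨y, hy, hay⟩ := hnd a ha ha0
  have haa' : B a a = 0 := by rw [h.self, haa, mul_zero]
  have h1 : Q (y - (Q y / B a y) • a) = 0 := by
    rw [sub_eq_add_neg, ← neg_smul, h.add, h.smul, haa, h.smul_right, h.comm y a]
    field_simp
    ring
  have h2 : B a (y - (Q y / B a y) • a) = B a y := by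
    rw [h.sub_right, h.smul_right, haa', mul_zero, sub_zero]
  refine ⟨(B a y)⁻¹ • (y - (Q y / B a y) • a), W.smul_mem _ (W.sub_mem hy (W.smul_mem _ ha)), ?_, ?_⟩
  · rw [h.smul, h1, mul_zero]
  · rw [h.smul_right, h2, inv_mul_cancel₀ hay]

/-- A non-zero non-degenerate space (odd characteristic) has a non-singular vector. -/
theorem QF.exists_nonsingular (h : QF Q B) (W : Submodule F (ι → F))
    (hnd : ∀ x ∈ W, x ≠ 0 → ∃ y ∈ W, B x y ≠ 0) {x : ι → F} (hx : x ∈ W) (hx0 : x ≠ 0) :
    ∃ u ∈ W, Q u ≠ 0 := by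
  obtain ⟨y, hy, hxy⟩ := hnd x hx hx0
  by_contra hcon
  push Not at hcon
  have h1 := h.add x y
  rw [hcon _ (W.add_mem hx hy), hcon _ hx, hcon _ hy] at h1
  apply hxy
  linear_combination -h1

/-- The orthogonal complement of `x` in `W`. -/
def perp (B : (ι → F) → (ι → F) → F) (h : QF Q B) (W : Submodule F (ι → F)) (x : ι → F) :
    Submodule F (ι → F) where
  carrier := {y | y ∈ W ∧ B y x = 0}
  add_mem' := fun {a b} ha hb => ⟨W.add_mem ha.1 hb.1, by rw [h.add_left, ha.2, hb.2, add_zero]⟩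
  zero_mem' := ⟨W.zero_mem, h.zero_left x⟩
  smul_mem' := fun c y hy => ⟨W.smul_mem c hy.1, by rw [h.smul_left, hy.2, mul_zero]⟩

theorem mem_perp (h : QF Q B) (W : Submodule F (ι → F)) (x y : ι → F) :
    y ∈ perp B h W x ↔ y ∈ W ∧ B y x = 0 := Iff.rfl

theorem perp_nd (h : QF Q B) (h2 : (2 : F) ≠ 0) (W : Submodule F (ι → F))
    (hnd : ∀ x ∈ W, x ≠ 0 → ∃ y ∈ W, B x y ≠ 0) {x : ι → F} (hx : x ∈ W) (hQx : Q x ≠ 0) :
    ∀ z ∈ perp B h W x, z ≠ 0 → ∃ y ∈ perp B h W x, B z y ≠ 0 := by
  intro z hz hz0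
  obtain ⟨y, hy, hzy⟩ := hnd z hz.1 hz0
  have hxx : B x x ≠ 0 := by rw [h.self]; exact mul_ne_zero h2 hQx
  refine ⟨y - (B y x / B x x) • x, ⟨W.sub_mem hy (W.smul_mem _ hx), ?_⟩, ?_⟩
  · rw [h.sub_left, h.smul_left, div_mul_cancel₀ _ hxx, sub_self]
  · rw [h.sub_right, h.smul_right, hz.2, mul_zero, sub_zero]
    exact hzy

theorem perp_finrank (h : QF Q B) (W : Submodule F (ι → F)) (x : ι → F) :
    Module.finrank F W ≤ Module.finrank F (perp B h W x) + 1 := by
  let L : W →ₗ[F] F :=
    { toFun := fun y => B y x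
      map_add' := fun y z => h.add_left _ _ _
      map_smul' := fun c y => by simpa using h.smul_left c y x }
  have h3 := L.finrank_range_add_finrank_ker
  have h4 : Module.finrank F (LinearMap.range L) ≤ 1 := by
    calc _ ≤ Module.finrank F F := Submodule.finrank_le _
      _ = 1 := Module.finrank_self F
  have h5 : Module.finrank F (LinearMap.ker L) ≤ Module.finrank F (perp B h W x) := by
    let T : LinearMap.ker L →ₗ[F] perp B h W x :=
      { toFun := fun y => ⟨(y : W), (y : W).2, y.2⟩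
        map_add' := fun y z => rfl
        map_smul' := fun c y => rfl }
    apply LinearMap.finrank_le_finrank_of_injective (f := T)
    intro y z hyz
    apply Subtype.ext
    apply Subtype.ext
    exact congrArg (fun t : perp B h W x => (t : ι → F)) hyz
  omega

/-- A non-degenerate quadratic space of dimension at least three over a finite field of odd order
has a non-zero singular vector. -/
theorem QF.exists_singular [Finite F] (h : QF Q B) (h2 : (2 : F) ≠ 0)
    (W : Submodule F (ι → F)) (hnd : ∀ x ∈ W, x ≠ 0 → ∃ y ∈ W, B x y ≠ 0)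
    (hdim : 3 ≤ Module.finrank F W) : ∃ a ∈ W, a ≠ 0 ∧ Q a = 0 := by
  classical
  have := Fintype.ofFinite F
  have hpos : ∀ U : Submodule F (ι → F), 0 < Module.finrank F U → ∃ x ∈ U, x ≠ 0 := by
    intro U hU
    by_contra hcon
    push Not at hcon
    have : U = ⊥ := (Submodule.eq_bot_iff U).2 hcon
    rw [this, finrank_bot] at hU
    exact lt_irrefl _ hU
  obtain ⟨x0, hx0, hx00⟩ := hpos W (by omega)
  obtain ⟨x, hx, hQx⟩ := h.exists_nonsingular W hnd hx0 hx00
  have hd1 := perp_finrank h W x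
  have hnd1 := perp_nd h h2 W hnd hx hQx
  obtain ⟨y0, hy0, hy00⟩ := hpos (perp B h W x) (by omega)
  obtain ⟨y, hy, hQy⟩ := h.exists_nonsingular _ hnd1 hy0 hy00
  have hd2 := perp_finrank h (perp B h W x) y
  have hnd2 := perp_nd h h2 _ hnd1 hy hQy
  obtain ⟨z0, hz0, hz00⟩ := hpos (perp B h (perp B h W x) y) (by omega)
  obtain ⟨z, hz, hQz⟩ := h.exists_nonsingular _ hnd2 hz0 hz00
  -- s² Q x + t² Q y + Q z = 0
  have hcard : Fintype.card F % 2 = 1 := by
    by_contra hne
    have h3 : ringChar F = 2 := FiniteField.even_card_iff_char_two.2 (by omega)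
    apply h2
    have h4 := ringChar.Nat.cast_ringChar (R := F)
    rw [h3] at h4
    exact_mod_cast h4
  obtain ⟨s, t, hst⟩ := FiniteField.exists_root_sum_quadratic (R := F)
    (f := Polynomial.C (Q x) * Polynomial.X ^ 2 + Polynomial.C (Q z))
    (g := Polynomial.C (Q y) * Polynomial.X ^ 2)
    (by
      rw [Polynomial.degree_add_C]
      · exact Polynomial.degree_C_mul_X_pow 2 hQx
      · rw [Polynomial.degree_C_mul_X_pow 2 hQx]; norm_num)
    (Polynomial.degree_C_mul_X_pow 2 hQy) hcard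
  simp only [Polynomial.eval_add, Polynomial.eval_mul, Polynomial.eval_C, Polynomial.eval_pow,
    Polynomial.eval_X] at hst
  have hyx : B y x = 0 := hy.2
  have hzx : B z x = 0 := hz.1.2
  have hzy : B z y = 0 := hz.2
  refine ⟨s • x + t • y + z, W.add_mem (W.add_mem (W.smul_mem _ hx) (W.smul_mem _ hy.1)) hz.1.1,
    ?_, ?_⟩
  · intro h0
    have h1 : B z (s • x + t • y + z) = 0 := by rw [h0, h.zero_right]
    rw [h.add_right, h.add_right, h.smul_right, h.smul_right, hzx, hzy, h.self] at h1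
    apply mul_ne_zero h2 hQz
    linear_combination h1
  · rw [h.add, h.add, h.smul, h.smul, h.add_left, h.smul_left, h.smul_left, h.smul_left,
      h.smul_right, h.comm x y, hyx, h.comm x z, hzx, h.comm y z, hzy]
    linear_combination hst

/-- In a non-degenerate space with a non-zero singular vector every non-zero vector has a singular
vector not orthogonal to it. -/
theorem QF.exists_singular_not_orth (h : QF Q B) (W : Submodule F (ι → F))
    (hnd : ∀ x ∈ W, x ≠ 0 → ∃ y ∈ W, B x y ≠ 0) {a : ι → F} (ha : a ∈ W) (ha0 : a ≠ 0)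
    (haa : Q a = 0) {x : ι → F} (hx : x ∈ W) (hx0 : x ≠ 0) : ∃ c ∈ W, Q c = 0 ∧ B x c ≠ 0 := by
  obtain ⟨b, hb, hbb, hab⟩ := h.exists_hyperbolic W hnd ha ha0 haa
  by_cases hxa : B x a = 0
  · by_cases hxb : B x b = 0
    · obtain ⟨y, hy, hxy⟩ := hnd x hx hx0
      have haa' : B a a = 0 := by rw [h.self, haa, mul_zero]
      have hbb' : B b b = 0 := by rw [h.self, hbb, mul_zero]
      have hba : B b a = 1 := by rw [h.comm, hab]
      set y' := y - B y b • a - B y a • b with hy'
      have h1 : B y' a = 0 := by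
        rw [hy', h.sub_left, h.sub_left, h.smul_left, h.smul_left, haa', hba]; ring
      have h2 : B y' b = 0 := by
        rw [hy', h.sub_left, h.sub_left, h.smul_left, h.smul_left, hbb', hab]; ring
      have h3 : B x y' = B x y := by
        rw [hy', h.sub_right, h.sub_right, h.smul_right, h.smul_right, hxa, hxb]; ring
      refine ⟨a + (-(Q y')) • b + y', W.add_mem (W.add_mem ha (W.smul_mem _ hb))
        (W.sub_mem (W.sub_mem hy (W.smul_mem _ ha)) (W.smul_mem _ hb)), ?_, ?_⟩
      · rw [h.add, h.add, h.smul, haa, hbb, h.smul_right, hab, h.add_left, h.smul_left, h.comm a y',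
          h.comm b y', h1, h2]
        ring
      · rw [h.add_right, h.add_right, h.smul_right, hxa, hxb, h3]
        simpa using hxy
    · exact ⟨b, hb, hbb, hxb⟩
  · exact ⟨a, ha, haa, hxa⟩

/-- Irreducibility (over the prime field) of the group generated by Siegel elements. -/
theorem QF.irr (h : QF Q B) (W : Submodule F (ι → F))
    (hnd : ∀ x ∈ W, x ≠ 0 → ∃ y ∈ W, B x y ≠ 0) {a₀ : ι → F} (ha₀ : a₀ ∈ W) (ha₀0 : a₀ ≠ 0)
    (haa₀ : Q a₀ = 0)
    (h3 : ∀ a ∈ W, ∃ b ∈ W, ∃ c ∈ W, B a b = 0 ∧ B a c = 0 ∧ B b c ≠ 0)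
    (C : Set (ι → F)) (hadd : ∀ x ∈ C, ∀ y ∈ C, x + y ∈ C)
    (hneg : ∀ x ∈ C, -x ∈ C)
    (hstab : ∀ x ∈ C, ∀ a ∈ W, Q a = 0 → ∀ b ∈ W, B a b = 0 →
      x + B x a • b - B x b • a - (Q b * B x a) • a ∈ C)
    (hCW : ∀ x ∈ C, x ∈ W) {v : ι → F} (hv : v ∈ C) (hv0 : v ≠ 0) :
    ∀ x ∈ W, x ∈ C := by
  have hsub : ∀ x ∈ C, ∀ y ∈ C, x - y ∈ C := fun x hx y hy => by
    rw [sub_eq_add_neg]; exact hadd x hx _ (hneg y hy)
  -- the basic step
  have step : ∀ x ∈ C, ∀ a ∈ W, Q a = 0 → B x a ≠ 0 → ∀ b ∈ W, B a b = 0 → b ∈ C := by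
    intro x hx a ha haa hxa
    have haa' : B a a = 0 := by rw [h.self, haa, mul_zero]
    have h4 : ∀ b ∈ W, B a b = 0 → B x a • b - B x b • a - (Q b * B x a) • a ∈ C := by
      intro b hb hab
      have h5 := hsub _ (hstab x hx a ha haa b hb hab) _ hx
      have h6 : x + B x a • b - B x b • a - (Q b * B x a) • a - x =
        B x a • b - B x b • a - (Q b * B x a) • a := by abel
      rwa [h6] at h5
    have hFa : ∀ s : F, s • a ∈ C := by
      intro s
      obtain ⟨b, hb, c, hc, hab, hac, hbc⟩ := h3 a ha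
      -- b and s' c
      set c' := (s / (B b c * B x a)) • c with hc'
      have hac' : B a c' = 0 := by rw [hc', h.smul_right, hac, mul_zero]
      have hc'W : c' ∈ W := W.smul_mem _ hc
      have h5 := hsub _ (hadd _ (h4 b hb hab) _ (h4 c' hc'W hac')) _
        (h4 (b + c') (W.add_mem hb hc'W) (by rw [h.add_right, hab, hac', add_zero]))
      have h6 : B x a • b - B x b • a - (Q b * B x a) • a +
          (B x a • c' - B x c' • a - (Q c' * B x a) • a) -
          (B x a • (b + c') - B x (b + c') • a - (Q (b + c') * B x a) • a) =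
          (B b c' * B x a) • a := by
        rw [h.add, h.add_right]
        ext i
        simp only [Pi.add_apply, Pi.sub_apply, Pi.smul_apply, smul_eq_mul]
        ring
      rw [h6] at h5
      have h7 : B b c' * B x a = s := by
        rw [hc', h.smul_right, mul_assoc, div_mul_cancel₀]
        exact mul_ne_zero hbc hxa
      rwa [h7] at h5
    intro b hb hab
    have h5 := h4 ((B x a)⁻¹ • b) (W.smul_mem _ hb) (by rw [h.smul_right, hab, mul_zero])
    have h6 := hadd _ (hadd _ h5 _ (hFa (B x ((B x a)⁻¹ • b)))) _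
      (hFa (Q ((B x a)⁻¹ • b) * B x a))
    have h7 : B x a • ((B x a)⁻¹ • b) - B x ((B x a)⁻¹ • b) • a -
        (Q ((B x a)⁻¹ • b) * B x a) • a + B x ((B x a)⁻¹ • b) • a +
        (Q ((B x a)⁻¹ • b) * B x a) • a = b := by
      rw [smul_smul, mul_inv_cancel₀ hxa, one_smul]
      abel
    rwa [h7] at h6
  obtain ⟨a, ha, haa, hva⟩ := h.exists_singular_not_orth W hnd ha₀ ha₀0 haa₀ (hCW v hv) hv0
  have ha0 : a ≠ 0 := by
    rintro rfl
    exact hva (h.zero_right v)
  have haa' : B a a = 0 := by rw [h.self, haa, mul_zero]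
  obtain ⟨b, hb, hbb, hab⟩ := h.exists_hyperbolic W hnd ha ha0 haa
  have hbb' : B b b = 0 := by rw [h.self, hbb, mul_zero]
  have h1 := step v hv a ha haa hva
  have haC := h1 a ha haa'
  have h2 := step a haC b hb hbb (by rw [hab]; exact one_ne_zero)
  intro x hx
  have h5 := h1 (x - B x a • b) (W.sub_mem hx (W.smul_mem _ hb)) (by
    rw [h.sub_right, h.smul_right, hab, h.comm a x]; ring)
  have h6 := h2 (B x a • b) (W.smul_mem _ hb) (by rw [h.smul_right, hbb', mul_zero])
  have h7 := hadd _ h5 _ h6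
  rwa [sub_add_cancel] at h7

/-- The coordinate vector of the functional `B v ·`. -/
def rB (B : (ι → F) → (ι → F) → F) (v : ι → F) : ι → F := fun j => B v (Pi.single j 1)

theorem QF.sum_right (h : QF Q B) (v : ι → F) {κ : Type} (s : Finset κ) (g : κ → ι → F) :
    B v (∑ i ∈ s, g i) = ∑ i ∈ s, B v (g i) := by
  classical
  induction s using Finset.induction_on with
  | empty => simpa using h.zero_right v
  | insert a s ha ih => rw [Finset.sum_insert ha, Finset.sum_insert ha, h.add_right, ih]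

theorem QF.rB_dot (h : QF Q B) (v u : ι → F) : rB B v ⬝ᵥ u = B v u := by
  conv_rhs => rw [pi_eq_sum_univ u]
  rw [h.sum_right]
  unfold dotProduct rB
  refine Finset.sum_congr rfl fun j _ => ?_
  rw [h.smul_right, mul_comm]
  congr 2
  ext i
  simp [Pi.single_apply, eq_comm]

theorem QF.rB_add (h : QF Q B) (v w : ι → F) : rB B (v + w) = rB B v + rB B w := by
  ext j; exact h.add_left v w _

theorem QF.rB_smul (h : QF Q B) (c : F) (v : ι → F) : rB B (c • v) = c • rB B v := by
  ext j; exact h.smul_left c v _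

theorem QF.rB_neg (h : QF Q B) (v : ι → F) : rB B (-v) = - rB B v := by
  ext j; exact h.neg_left v _

theorem QF.exists_rB (h : QF Q B) (hnd : ∀ x, x ≠ 0 → ∃ y, B x y ≠ 0) (ψ : ι → F) :
    ∃ w, rB B w = ψ := by
  let L : (ι → F) →ₗ[F] (ι → F) :=
    { toFun := rB B
      map_add' := h.rB_add
      map_smul' := fun c v => h.rB_smul c v }
  have hinj : Function.Injective L := by
    rw [injective_iff_map_eq_zero]
    intro v hv
    by_contra hne
    obtain ⟨y, hy⟩ := hnd v hne
    apply hy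
    rw [← h.rB_dot]
    change L v ⬝ᵥ y = 0
    rw [hv, zero_dotProduct]
  exact LinearMap.surjective_of_injective hinj ψ

/-- The Siegel elements belong to the similarity group and have determinant one. -/
theorem QF.exists_siegel (h : QF Q B) {a b : ι → F} (ha : Q a = 0) (hab : B a b = 0) :
    ∃ g ∈ Cfsg.Geo.quadSimilarityGroup Q ⊓ Cfsg.Geo.specialLinear ι F,
      (∀ x, (g : Matrix ι ι F) *ᵥ x = x + B x a • b - B x b • a - (Q b * B x a) • a) ∧
      ∀ x, Q ((g : Matrix ι ι F) *ᵥ x) = Q x := by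
  have haa : B a a = 0 := by rw [h.self, ha, mul_zero]
  have h1 : rB B a ⬝ᵥ b = 0 := by rw [h.rB_dot, hab]
  have h2 : (-(rB B b) + Q b • rB B a) ⬝ᵥ a = 0 := by
    rw [add_dotProduct, neg_dotProduct, smul_dotProduct, h.rB_dot, h.rB_dot, h.comm b a, hab, haa]
    simp
  have key : ∀ x, ((tv a _ h2 * tv b _ h1 : GL ι F) : Matrix ι ι F) *ᵥ x =
      x + B x a • b - B x b • a - (Q b * B x a) • a := by
    intro x
    rw [Units.val_mul, ← mulVec_mulVec, tv_mulVec, tv_mulVec, add_dotProduct, neg_dotProduct,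
      smul_dotProduct, h.rB_dot, h.rB_dot, h.rB_dot, h.add_right, h.add_right, h.smul_right,
      h.smul_right, hab, h.self b, h.comm a x, h.comm b x]
    ext i
    simp only [Pi.add_apply, Pi.sub_apply, Pi.smul_apply, smul_eq_mul]
    ring
  have hQ : ∀ x, Q (((tv a _ h2 * tv b _ h1 : GL ι F) : Matrix ι ι F) *ᵥ x) = Q x := by
    intro x
    rw [key, sub_eq_add_neg, sub_eq_add_neg, ← neg_smul, ← neg_smul, add_assoc (x + B x a • b),
      ← add_smul, h.add, h.add, h.smul, h.smul, ha, h.smul_right, h.smul_right, h.add_left,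
      h.smul_left, h.comm b a, hab]
    ring
  refine ⟨tv a _ h2 * tv b _ h1, ⟨⟨1, fun x => ?_⟩, ?_⟩, key, hQ⟩
  · rw [hQ, Units.val_one, one_mul]
  · exact (Cfsg.Geo.specialLinear ι F).mul_mem (tv_mem_specialLinear _ _ h2)
      (tv_mem_specialLinear _ _ h1)

end Cfsg.Agent.H929
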