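import Cfsg.Agent.H929.TwelveCross
import Cfsg.Agent.H929.UThreeMain
import Cfsg.Agent.H887.DS.Twelve
import Cfsg.Agent.H905.MdP
import Cfsg.Agent.H218.SdDC
import Cfsg.Agent.H927.LDTwF4
import Cfsg.Agent.H48.NatSUEq
import Cfsg.Agent.H876.D3.Main5

/-!
# Dimension twelve: assembly (helper929)

* `own` : the defining characteristic, not self-dual;
* **`lin_concl`**, **`uni_concl`** : the rows S5863 and S5866, from the pieces.
-/

set_option autoImplicit false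
set_option linter.unusedSectionVars false
set_option linter.style.haveILetI false

namespace Cfsg.Agent.H929.Twelve

open Cfsg Cfsg.Geo Matrix
open H915.LD (Core Soc tr SD Fr Cj)
open H912.Bd (IsL IsU IsS IsOP)

universe u

variable {F : Type u} [Field F] [Fintype F]

section own

variable {P : Subgroup (GL (Fin 12) F)} (p : ℕ) [hp : Fact p.Prime] [hFp : CharP F p]

include hFp hp in
/-- **The defining characteristic.** -/
theorem own (hC : Core P) (hsd : ¬ SD P) (h : IsLieTypeChar p (Soc P)) :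
    P = specialLinear (Fin 12) F ∨
    ∃ (K : Type) (_ : Field K) (_ : Fintype K) (_ : CharP K p) (q : ℕ),
      Fintype.card K = q ^ 2 ∧ Nonempty (Soc P ≃* PSU 12 K q) ∧ Cj P q := by
  have hs := hC.simple
  have h12 : Fintype.card (Fin 12) = 12 := by simp
  haveI : Nonempty (Fin 12) := ⟨0⟩
  rcases H218.SdDC.sd_dc p hC (by simp) h with h1 | ⟨K, i1, i2, i3, l, hl, h4, ⟨e⟩⟩ |
    ⟨K, i1, i2, i3, N, q, hK, hN, hN9, h32, ⟨e⟩⟩ | ⟨-, h2, h3⟩
  · exact (hsd h1).elim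
  · rcases (show l = 1 ∨ 2 ≤ l by omega) with rfl | hl2
    · exact (hsd fun g hg => H905.Md.psl_two p hC.absIrred hC.perfect (h4 rfl) e hg).elim
    · have h5 := H905.Md.psl_rank p hC.absIrred hC.perfect hl h4 e
      rw [h12] at h5
      rcases (show l + 1 = 12 ∨ l + 1 < 12 by omega) with h6 | h6
      · exact Or.inl (H905.Md.psl_eq p hC.absIrred hC.perfect hl h4 e hC.no_subfield h6.symm).2
      · exact (H887.DS.not_twelve p hC (m := l + 1) (by omega) h6 h12 e).elim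
  · rw [h12] at hN9
    rcases (show N = 3 ∨ 4 ≤ N by omega) with rfl | hN4
    · exfalso
      have hq3 : 3 ≤ q := by
        have h2 := H48.NatSU.two_le_of_sq hK
        omega
      rcases H929.U3.core_psu3 p hC hq3 hK e (by simp) with h1 | ⟨-, h1⟩
      · exact hsd h1
      · rw [h12] at h1
        omega
    · have h5 := H876.D3.core_psu p K hN4 (by simp) hK hC e
      rw [h12] at h5
      obtain rfl : N = 12 := by omega
      refine Or.inr ⟨K, i1, i2, i3, q, hK, ⟨e⟩, fun g hg => ?_⟩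
      exact ((H905.Md.psu_both p hC.absIrred hC.perfect hN hK h32 e hg).2).symm
  · have h4 := H927.LDTwF4.card_le_iso h2 hC.perfect h3
    rw [h12] at h4
    omega

end own

variable {H P : Subgroup (GL (Fin 12) F)}

/-- `SU₁₂(7)` contains no scalar of order 3 -/
theorem not_three_dvd {q : ℕ} (hq : ¬ 3 ∣ q + 1) (hq0 : q ≠ 0) (hPU : P ≤ Cfsg.GU 12 F q) :
    ¬ 3 ∣ Nat.card ((scalars (Fin 12) F).subgroupOf P) := by
  intro h3
  haveI : Fact (Nat.Prime 3) := ⟨Nat.prime_three⟩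
  obtain ⟨⟨⟨g, hg⟩, hz⟩, hord⟩ := exists_prime_orderOf_dvd_card' (G := (scalars (Fin 12) F).subgroupOf P) 3 h3
  have hs : g ∈ scalars (Fin 12) F := hz
  obtain ⟨c, hc⟩ := (mem_scalars_iff g).1 hs
  have h1 := ClassicalGeometry.GUBasic.transpose_mul_map hq0
    ((ClassicalGeometry.GUBasic.mem_GU_iff _).1 (hPU hg))
  have h2 := congrFun (congrFun h1 0) 0
  rw [hc, Matrix.transpose_smul, Matrix.transpose_one, Matrix.smul_mul, Matrix.one_mul] at h2
  simp only [Matrix.smul_apply, Matrix.map_apply, Matrix.one_apply_eq, smul_eq_mul, mul_one] at h2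
  have h4 : g ^ 3 = 1 := by
    have h5 : (⟨⟨g, hg⟩, hz⟩ : (scalars (Fin 12) F).subgroupOf P) ^ 3 = 1 := by
      rw [← hord]
      exact pow_orderOf_eq_one _
    exact congrArg (fun x : (scalars (Fin 12) F).subgroupOf P => ((x : P) : GL (Fin 12) F)) h5
  have h6 : (c : F) ^ 3 = 1 := by
    have h7 := congrArg (fun x : GL (Fin 12) F => (x : Matrix (Fin 12) (Fin 12) F)) h4
    simp only [Units.val_pow_eq_pow_val, Units.val_one] at h7
    rw [hc, smul_pow, one_pow] at h7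
    have h8 := congrFun (congrFun h7 0) 0
    simpa using h8
  have h7 : (c : F) ^ (q + 1) = 1 := by rw [pow_succ, mul_comm]; exact h2
  have h8 : (c : F) = 1 := by
    have h9 : Nat.gcd 3 (q + 1) = 1 := (Nat.Prime.coprime_iff_not_dvd Nat.prime_three).2 hq
    have h10 := orderOf_dvd_of_pow_eq_one h6
    have h11 := orderOf_dvd_of_pow_eq_one h7
    have h12 := Nat.dvd_gcd h10 h11
    rw [h9] at h12
    exact orderOf_eq_one_iff.1 (Nat.dvd_one.1 h12)
  have h9 : g = 1 := by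
    apply Units.ext
    rw [hc, h8, one_smul, Units.val_one]
  subst h9
  have h10 : (⟨⟨1, hg⟩, hz⟩ : (scalars (Fin 12) F).subgroupOf P) = 1 := rfl
  rw [h10, orderOf_one] at hord
  exact absurd hord (by norm_num)

theorem not_sq {p q : ℕ} (hp : p.Prime) (h : p = q ^ 2) : False := by
  rw [h] at hp
  exact Nat.Prime.not_prime_pow le_rfl hp

/-- **The linear row.** -/
theorem lin_concl (hH : IsMaximalIn (specialLinear (Fin 12) F) H) (hR : IsResidualCore H P) (hC : Core P)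
    (hsd : ¬ SD P) (hcj : ∀ (p : ℕ) (_ : Fact p.Prime) (_ : CharP F p) (k : ℕ), ¬ Cj P (p ^ k))
    (hk : IsKnownSimple' (Soc P))
    (hcr : ∀ p : ℕ, p.Prime → CharP F p → CrossRows p P)
    (six : (Soc P ≃* alternatingGroup (Fin 6)) → 3 ∣ Nat.card ((scalars (Fin 12) F).subgroupOf P) → False) :
    ∃ p : ℕ, p.Prime ∧ CharP F p ∧
    ((Nonempty (Soc P ≃* Matrix.ProjectiveSpecialLinearGroup (Fin 2) (ZMod 23)) ∧ Fintype.card F = p ∧ p ≠ 2 ∧
      (p % 23 = 1 ∨ p % 23 = 2 ∨ p % 23 = 3 ∨ p % 23 = 4 ∨ p % 23 = 6 ∨ p % 23 = 8 ∨ p % 23 = 9 ∨ p % 23 = 12 ∨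
        p % 23 = 13 ∨ p % 23 = 16 ∨ p % 23 = 18)) ∨
     ((∃ (K : Type) (_ : Field K) (_ : Fintype K), Fintype.card K = 4 ∧
        Nonempty (Soc P ≃* Matrix.ProjectiveSpecialLinearGroup (Fin 3) K)) ∧ Fintype.card F = 49) ∨
     (Cfsg.Spor.IsoSuz (Soc P) ∧ Fintype.card F = p ∧ p % 3 = 1)) := by
  obtain ⟨p, hFp⟩ := CharP.exists F
  have hpp := CharP.char_is_prime F p
  haveI hp : Fact p.Prime := ⟨hpp⟩
  have hcj1 : ¬ Cj P p := by
    have := hcj p hp hFp 1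
    rwa [pow_one] at this
  refine ⟨p, hpp, hFp, ?_⟩
  by_cases hL : IsLieTypeChar p (Soc P)
  · exfalso
    rcases own p hC hsd hL with h | ⟨K, i1, i2, i3, q, hK, -, h⟩
    · have h1 := hH.1
      exact absurd (h ▸ hR.le) (not_le_of_gt h1)
    · obtain ⟨k, rfl⟩ := H920.Nine.exists_q_pow (F := K) p hK
      exact hcj p hp hFp k h
  · rcases cross p hC hsd hk hL (hcr p hpp hFp) with ⟨K, i1, i2, hK, hp23, ⟨e⟩⟩ | ⟨⟨e⟩⟩ | ⟨-, h, h49, -⟩ |
      ⟨hS, h⟩ | ⟨h5, -, h⟩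
    · left
      obtain ⟨⟨-, h2⟩, -, ⟨h3, h4⟩ | ⟨-, h4, -⟩⟩ := H464.Sl2.l2_23_12 p hC hK hp23 e (by simp)
      · exact ⟨H912.Five.psl_zmod (by norm_num) ⟨K, i1, i2, hK, ⟨e⟩⟩, h3, h2, h4⟩
      · exact (hcj1 h4).elim
    · exfalso
      by_cases h3 : 3 ∣ Nat.card ((scalars (Fin 12) F).subgroupOf P)
      · exact six e h3
      · exact hsd (H937.T2.a6_sd hC e h3)
    · exact Or.inr (Or.inl ⟨h, h49⟩)
    · rcases h with ⟨h1, h2⟩ | ⟨-, h2⟩
      · exact Or.inr (Or.inr ⟨hS, hC.card_eq p h2, h1⟩)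
      · exact (hcj1 h2).elim
    · subst h5
      exact (hcj1 h).elim

/-- the kills in the unitary case -/
structure UniKills (P : Subgroup (GL (Fin 12) F)) : Prop where
  six : (Soc P ≃* alternatingGroup (Fin 6)) → 3 ∣ Nat.card ((scalars (Fin 12) F).subgroupOf P) → False
  seven : CharP F 5 → Cj P 5 → (Soc P ≃* alternatingGroup (Fin 7)) → False

/-- **The unitary row.** -/
theorem uni_concl {q : ℕ} (hF : Fintype.card F = q ^ 2)
    (hH : IsMaximalIn (Cfsg.GU 12 F q ⊓ specialLinear (Fin 12) F) H) (hR : IsResidualCore H P) (hC : Core P)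
    (hsd : ¬ SD P) (hk : IsKnownSimple' (Soc P))
    (hcr : ∀ p : ℕ, p.Prime → CharP F p → CrossRows p P)
    (kills : UniKills P) :
    q.Prime ∧
    ((Nonempty (Soc P ≃* Matrix.ProjectiveSpecialLinearGroup (Fin 2) (ZMod 23)) ∧
      (q % 23 = 5 ∨ q % 23 = 7 ∨ q % 23 = 10 ∨ q % 23 = 11 ∨ q % 23 = 14 ∨ q % 23 = 15 ∨ q % 23 = 17 ∨ q % 23 = 19 ∨
        q % 23 = 20 ∨ q % 23 = 21 ∨ q % 23 = 22)) ∨
     (Cfsg.Spor.IsoSuz (Soc P) ∧ q % 3 = 2)) := by
  obtain ⟨p, hFp⟩ := CharP.exists F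
  have hpp := CharP.char_is_prime F p
  haveI hp : Fact p.Prime := ⟨hpp⟩
  have hPU : P ≤ Cfsg.GU 12 F q := fun g hg => (hH.1.le (hR.le hg)).1
  have hcjq : Cj P q := H920.Nine.cj_of_le_GU hF hPU
  by_cases hL : IsLieTypeChar p (Soc P)
  · exfalso
    rcases own p hC hsd hL with h | ⟨K, i1, i2, i3, q₀, hK, ⟨e⟩, -⟩
    · have h1 := hH.1
      exact absurd (le_trans inf_le_right (h ▸ hR.le)) (not_le_of_gt h1)
    · have h1 := H48.NatSU.psu_eq hC p hF hPU hK (by norm_num) (by norm_num) e rfl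
      have h2 := hH.1
      exact absurd (h1.2 ▸ hR.le) (not_le_of_gt h2)
  · rcases cross p hC hsd hk hL (hcr p hpp hFp) with ⟨K, i1, i2, hK, hp23, ⟨e⟩⟩ | ⟨⟨e⟩⟩ | ⟨h7, -, h49, h3⟩ |
      ⟨hS, h⟩ | ⟨h5, ⟨e⟩, h⟩
    · obtain ⟨⟨-, -⟩, -, ⟨h3, -⟩ | ⟨h3, h4, h5⟩⟩ := H464.Sl2.l2_23_12 p hC hK hp23 e (by simp)
      · exfalso
        exact not_sq hpp (h3.symm.trans hF)
      · have hqp : q = p := H915.LD.q_eq_of_cj hC p hF h4
        subst hqp
        exact ⟨hpp, Or.inl ⟨H912.Five.psl_zmod (by norm_num) ⟨K, i1, i2, hK, ⟨e⟩⟩, h5⟩⟩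
    · exfalso
      by_cases h3 : 3 ∣ Nat.card ((scalars (Fin 12) F).subgroupOf P)
      · exact kills.six e h3
      · exact hsd (H937.T2.a6_sd hC e h3)
    · exfalso
      have hq : q = 7 := by
        rw [h49] at hF
        have : 7 ^ 2 = q ^ 2 := by omega
        exact (Nat.pow_left_injective (n := 2) (by norm_num) this).symm
      subst hq
      exact not_three_dvd (by norm_num) (by norm_num) hPU h3
    · rcases h with ⟨-, h2⟩ | ⟨h1, h2⟩
      · exact (H915.LD.not_fr_of_card hC p hF h2).elim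
      · have hqp : q = p := H915.LD.q_eq_of_cj hC p hF h2
        subst hqp
        exact ⟨hpp, Or.inr ⟨hS, h1⟩⟩
    · subst h5
      exact (kills.seven hFp h e).elim

/-- **S5863**, from the pieces. -/
theorem row5863 (hk : ∀ (T : Type u) [Group T] [Finite T] [IsSimpleGroup T], IsKnownSimple' T)
    (hH : IsMaximalIn (specialLinear (Fin 12) F) H) (hS : InLinearResidualClass H)
    (hcr : ∀ P : Subgroup (GL (Fin 12) F), Core P → ∀ p : ℕ, p.Prime → CharP F p → CrossRows p P)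
    (six : ∀ P : Subgroup (GL (Fin 12) F), IsResidualCore H P → (Soc P ≃* alternatingGroup (Fin 6)) →
      3 ∣ Nat.card ((scalars (Fin 12) F).subgroupOf P) → False) :
    ∃ (P : Subgroup (GL (Fin 12) F)) (p : ℕ), IsResidualCore H P ∧ p.Prime ∧ CharP F p ∧
    ((Nonempty ((P ⧸ (scalars (Fin 12) F).subgroupOf P) ≃* Matrix.ProjectiveSpecialLinearGroup (Fin 2) (ZMod 23)) ∧
        Fintype.card F = p ∧ p ≠ 2 ∧
      (p % 23 = 1 ∨ p % 23 = 2 ∨ p % 23 = 3 ∨ p % 23 = 4 ∨ p % 23 = 6 ∨ p % 23 = 8 ∨ p % 23 = 9 ∨ p % 23 = 12 ∨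
        p % 23 = 13 ∨ p % 23 = 16 ∨ p % 23 = 18)) ∨
     ((∃ (K : Type) (_ : Field K) (_ : Fintype K), Fintype.card K = 4 ∧
        Nonempty ((P ⧸ (scalars (Fin 12) F).subgroupOf P) ≃* Matrix.ProjectiveSpecialLinearGroup (Fin 3) K)) ∧
        Fintype.card F = 49) ∨
     (Cfsg.Spor.IsoSuz (P ⧸ (scalars (Fin 12) F).subgroupOf P) ∧ Fintype.card F = p ∧ p % 3 = 1)) := by
  obtain ⟨P, hR, hC, hsd, hcj⟩ := H915.LD.linear_core hS
  have hsimp : IsSimpleGroup (Soc P) := hC.simple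
  obtain ⟨p, h1, h2, h3⟩ := lin_concl hH hR hC hsd hcj (hk _) (hcr P hC) (six P hR)
  exact ⟨P, p, hR, h1, h2, h3⟩

/-- **S5866**, from the pieces. -/
theorem row5866 (hk : ∀ (T : Type u) [Group T] [Finite T] [IsSimpleGroup T], IsKnownSimple' T)
    {q : ℕ} (hF : Fintype.card F = q ^ 2)
    (hH : IsMaximalIn (Cfsg.GU 12 F q ⊓ specialLinear (Fin 12) F) H) (hS : InUnitaryResidualClass H)
    (hcr : ∀ P : Subgroup (GL (Fin 12) F), Core P → ∀ p : ℕ, p.Prime → CharP F p → CrossRows p P)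
    (kills : ∀ P : Subgroup (GL (Fin 12) F), IsResidualCore H P → ¬ SD P → UniKills P) :
    ∃ P : Subgroup (GL (Fin 12) F), IsResidualCore H P ∧ q.Prime ∧
    ((Nonempty ((P ⧸ (scalars (Fin 12) F).subgroupOf P) ≃* Matrix.ProjectiveSpecialLinearGroup (Fin 2) (ZMod 23)) ∧
      (q % 23 = 5 ∨ q % 23 = 7 ∨ q % 23 = 10 ∨ q % 23 = 11 ∨ q % 23 = 14 ∨ q % 23 = 15 ∨ q % 23 = 17 ∨ q % 23 = 19 ∨
        q % 23 = 20 ∨ q % 23 = 21 ∨ q % 23 = 22)) ∨
     (Cfsg.Spor.IsoSuz (P ⧸ (scalars (Fin 12) F).subgroupOf P) ∧ q % 3 = 2)) := by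
  obtain ⟨P, hR, hC, hsd⟩ := H915.LD.unitary_core hS
  have hsimp : IsSimpleGroup (Soc P) := hC.simple
  obtain ⟨h1, h2⟩ := uni_concl hF hH hR hC hsd (hk _) (hcr P hC) (kills P hR hsd)
  exact ⟨P, hR, h1, h2⟩

end Cfsg.Agent.H929.Twelve
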