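import Cfsg.Agent.H13.M22.Twelve
import Cfsg.Agent.H875.DefCov
import Cfsg.Agent.H915.LD

/-!
# `M₂₂` in dimension twelve, odd characteristic (helper929)

Transfer of `H13.M22.twelve_false` to cores.
-/

set_option autoImplicit false
set_option linter.unusedSectionVars false

namespace Cfsg.Agent.H929.Twelve

open Cfsg Cfsg.Geo Matrix
open H915.LD

universe u

variable {ι : Type} [Fintype ι] [DecidableEq ι] {F : Type u} [Field F] [Finite F] {P : Subgroup (GL ι F)}

/-- the representation of `P` over the algebraic closure, as a homomorphism to endomorphisms -/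
noncomputable def acEnd (P : Subgroup (GL ι F)) :
    P →* Module.End (AlgebraicClosure F) (ι → AlgebraicClosure F) :=
  (Matrix.toLinAlgEquiv' (R := AlgebraicClosure F) (n := ι)).toAlgHom.toRingHom.toMonoidHom.comp
    ((((algebraMap F (AlgebraicClosure F)).mapMatrix (m := ι)).toMonoidHom.comp (Units.coeHom (Matrix ι ι F))).comp
      P.subtype)

theorem acEnd_apply (g : P) : acEnd P g =
    Matrix.toLin' (((g : GL ι F) : Matrix ι ι F).map (algebraMap F (AlgebraicClosure F))) := rfl

theorem acEnd_inj : Function.Injective (acEnd P) := by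
  intro g h hgh
  rw [acEnd_apply, acEnd_apply] at hgh
  have h1 := Matrix.toLin'.injective hgh
  have h2 := Matrix.map_injective (algebraMap F (AlgebraicClosure F)).injective h1
  exact Subtype.ext (Units.ext h2)

theorem cov_of_core {T : Type*} [Group T] (p : ℕ) [hp : Fact p.Prime] [CharP F p] (e : Soc P ≃* T) :
    H13.M22.Cov (e.toMonoidHom.comp (toSoc P)) (acEnd P) where
  surj := e.surjective.comp (toSoc_surjective P)
  cen := by rw [ker_comp e]; exact scalars_le_center
  scal := by
    intro z hz
    rw [ker_comp e, Subgroup.mem_subgroupOf, mem_scalars_iff] at hz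
    obtain ⟨c, hc⟩ := hz
    refine ⟨algebraMap F (AlgebraicClosure F) c, ?_⟩
    rw [acEnd_apply, hc]
    apply LinearMap.ext
    intro v
    rw [Matrix.toLin'_apply]
    have h1 : ((c : F) • (1 : Matrix ι ι F)).map (algebraMap F (AlgebraicClosure F)) =
        algebraMap F (AlgebraicClosure F) c • (1 : Matrix ι ι (AlgebraicClosure F)) := by
      ext i j
      by_cases hij : i = j
      · subst hij
        simp
      · simp [hij]
    rw [h1, Matrix.smul_mulVec, Matrix.one_mulVec]
    rfl
  inj := acEnd_inj
  card := by
    rw [ker_comp e]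
    have hchar : CharP (AlgebraicClosure F) p := charP_of_injective_algebraMap (algebraMap F _).injective p
    intro h0
    rw [CharP.cast_eq_zero_iff (AlgebraicClosure F) p] at h0
    have h1 := H875.DefCov.card_scalars_coprime (P := P) p
    rw [Nat.coprime_comm, hp.out.coprime_iff_not_dvd] at h1
    exact h1 h0

/-- **`M₂₂`, dimension 12, odd characteristic.** -/
theorem m22_odd (p : ℕ) [hp : Fact p.Prime] [CharP F p] (h2 : p ≠ 2) (h : Spor.IsoM22 (Soc P))
    (hn : Fintype.card ι = 12) : False := by
  obtain ⟨e⟩ := h
  have hchar : CharP (AlgebraicClosure F) p := charP_of_injective_algebraMap (algebraMap F _).injective p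
  refine H13.M22.twelve_false (cov_of_core p e) ?_ (by rw [Module.finrank_fintype_fun_eq_card, hn])
  intro h0
  have h1 : ((2 : ℕ) : AlgebraicClosure F) = 0 := by exact_mod_cast h0
  rw [CharP.cast_eq_zero_iff (AlgebraicClosure F) p] at h1
  exact h2 ((Nat.prime_dvd_prime_iff_eq hp.out Nat.prime_two).1 h1)

end Cfsg.Agent.H929.Twelve
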