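import Cfsg.Agent.H920.NineBase
import Cfsg.Agent.H936.List12c
import Cfsg.Agent.H937.T2Rep
import Cfsg.Agent.H464.L2Num
import Cfsg.Agent.H614.AMod.Main
import Cfsg.Agent.H659.Sp4Stage
import Cfsg.Agent.H659.U3Stage
import Cfsg.Agent.H936.U33Two
import Cfsg.Agent.H36.U52.Main
import Cfsg.Agent.H434.LD.PSp45
import Cfsg.Agent.H916.SpSixK
import Cfsg.Agent.H916.OmD
import Cfsg.Agent.H637.A7Main
import Cfsg.Agent.H4.LDM.Stage24
import Cfsg.Agent.H6.M11.Main11
import Cfsg.Agent.H6.M11.Stage12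
import Cfsg.Agent.H932.MtThreeG
import Cfsg.Agent.H932.MtCov
import Cfsg.Agent.H1.TJ1
import Cfsg.Agent.H1.TJ2
import Cfsg.Agent.H95.JT.Core
import Cfsg.Agent.H175.LD.Core33
import Cfsg.Agent.H881.U34.Main
import Cfsg.Agent.H814.SzEightCore
import Cfsg.Agent.H918.U43.Main
import Cfsg.Agent.H878.Sz.MainThree
import Cfsg.Agent.H878.Sz.MainP3
import Cfsg.Agent.H937.G24.Row
import Cfsg.Agent.H906.T12Four
import Cfsg.Agent.H929.TwelveM22
import Cfsg.Agent.H921.M22.Final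

/-!
# Dimension twelve, not self-dual: the simple groups that are not of Lie type in the characteristic (helper929)

Rows S5863 and S5866.

* `CrossRows` : the pieces that are still open;
* **`cross`** : `L₂(23)`, `A₆`, `L₃(4)` (`p = 7`) or `Suz`.
-/

set_option autoImplicit false
set_option linter.unusedSectionVars false
set_option linter.style.haveILetI false

namespace Cfsg.Agent.H929.Twelve

open Cfsg Cfsg.Geo Matrix
open H915.LD (Core Soc tr SD Fr Cj)
open H912.Bd (IsL IsU IsS IsOP)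

universe u

variable {F : Type u} [Field F] [Fintype F] {P : Subgroup (GL (Fin 12) F)} (p : ℕ) [hp : Fact p.Prime]
  [hFp : CharP F p]

/-- the cross characteristic possibilities that are not self-dual -/
def Cross12 (p : ℕ) (P : Subgroup (GL (Fin 12) F)) : Prop :=
  (∃ (K : Type) (_ : Field K) (_ : Fintype K), Fintype.card K = 23 ∧ p ≠ 23 ∧
    Nonempty (Soc P ≃* ProjectiveSpecialLinearGroup (Fin 2) K)) ∨
  Nonempty (Soc P ≃* alternatingGroup (Fin 6)) ∨
  (p = 7 ∧ IsL 3 4 (Soc P) ∧ Fintype.card F = 49 ∧ 3 ∣ Nat.card ((scalars (Fin 12) F).subgroupOf P)) ∨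
  (Cfsg.Spor.IsoSuz (Soc P) ∧ ((p % 3 = 1 ∧ Fr P p) ∨ (p % 3 = 2 ∧ Cj P p))) ∨
  (p = 5 ∧ Nonempty (Soc P ≃* alternatingGroup (Fin 7)) ∧ Cj P 5)

/-- the pieces still open -/
structure CrossRows (p : ℕ) (P : Subgroup (GL (Fin 12) F)) : Prop where
  a7 : 3 ∣ Nat.card ((scalars (Fin 12) F).subgroupOf P) → (Soc P ≃* alternatingGroup (Fin 7)) →
    SD P ∨ (p = 5 ∧ Cj P 5)

theorem two_ne {p : ℕ} [hp : Fact p.Prime] [CharP F p] (h : p ≠ 2) : (2 : F) ≠ 0 := by
  intro h0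
  have h1 : ((2 : ℕ) : F) = 0 := by exact_mod_cast h0
  rw [CharP.cast_eq_zero_iff F p] at h1
  exact h ((Nat.prime_dvd_prime_iff_eq hp.out Nat.prime_two).1 h1)

theorem three_ne {p : ℕ} [hp : Fact p.Prime] [CharP F p] (h : p ≠ 3) : (3 : F) ≠ 0 := by
  intro h0
  have h1 : ((3 : ℕ) : F) = 0 := by exact_mod_cast h0
  rw [CharP.cast_eq_zero_iff F p] at h1
  exact h ((Nat.prime_dvd_prime_iff_eq hp.out Nat.prime_three).1 h1)

/-- the order of the scalars divides `|F| - 1` -/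
theorem card_scalars_dvd_pred (P : Subgroup (GL (Fin 12) F)) :
    Nat.card ((scalars (Fin 12) F).subgroupOf P) ∣ Fintype.card F - 1 := by
  classical
  have h1 : Nat.card ((scalars (Fin 12) F).subgroupOf P) ∣ Nat.card (scalars (Fin 12) F) :=
    Subgroup.card_comap_dvd_of_injective _ P.subtype P.subtype_injective
  have h2 : Nat.card (scalars (Fin 12) F) ∣ Nat.card Fˣ := Subgroup.card_range_dvd _
  rw [Nat.card_units, Nat.card_eq_fintype_card (α := F)] at h2
  exact h1.trans h2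

include hFp hp in
/-- `|F| = p ^ 2` from the order of the scalars -/
theorem card_of_fr (hC : Core P) (h : Fr P (p ^ 2)) {m : ℕ} (hm : m ∣ Nat.card ((scalars (Fin 12) F).subgroupOf P))
    (hmp : ¬ m ∣ p - 1) : Fintype.card F = p ^ 2 := by
  have h1 := hC.card_le p two_ne_zero h
  obtain ⟨n, -, hn⟩ := FiniteField.card F p
  rw [hn] at h1 ⊢
  have h2 : (n : ℕ) ≤ 2 := (Nat.pow_le_pow_iff_right hp.out.one_lt).1 h1
  have h3 := n.pos
  rcases (show (n : ℕ) = 1 ∨ (n : ℕ) = 2 by omega) with h4 | h4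
  · exfalso
    rw [h4, pow_one] at hn
    apply hmp
    rw [← hn]
    exact hm.trans (card_scalars_dvd_pred P)
  · rw [h4]

theorem zero_or_one {K : Type*} [Field K] [Fintype K] (hK : Fintype.card K = 2) (x : K) : x = 0 ∨ x = 1 := by
  classical
  by_contra h
  push Not at h
  have h1 : ({0, 1, x} : Finset K).card = 3 := by
    rw [Finset.card_insert_of_notMem, Finset.card_insert_of_notMem, Finset.card_singleton]
    · simp only [Finset.mem_singleton]
      exact fun h2 => h.2 h2.symm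
    · simp only [Finset.mem_insert, Finset.mem_singleton]
      rintro (h2 | h2)
      · exact zero_ne_one h2
      · exact h.1 h2.symm
  have h2 := Finset.card_le_univ ({0, 1, x} : Finset K)
  omega

include hFp hp in
theorem l2 (hC : Core P) (hsd : ¬ SD P) {K : Type} [Field K] [Fintype K] (h5 : 5 ≤ Fintype.card K)
    (h9 : Fintype.card K ≠ 9) (hpK : ¬ p ∣ Fintype.card K) (e : Soc P ≃* ProjectiveSpecialLinearGroup (Fin 2) K) :
    Fintype.card K = 23 ∧ p ≠ 23 := by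
  rcases H464.Sl2.l2_stage1_le p hC h5 h9 hpK e (by simp) with h | ⟨h1, -, -⟩
  · exact (hsd h).elim
  · rw [Fintype.card_fin] at h1
    have hK : Fintype.card K = 23 := by omega
    refine ⟨hK, ?_⟩
    rintro rfl
    rw [hK] at hpK
    exact hpK dvd_rfl

include hFp hp in
theorem u33 (hC : Core P) (h3 : p ≠ 3) (h : IsU 3 3 (Soc P)) : False := by
  obtain ⟨K, i1, i2, hK, ⟨e⟩⟩ := h
  by_cases h2 : p = 2
  · subst h2
    have := (H936.U33Two.u33_two hC (by rw [hK]; norm_num) ⟨e⟩ (by simp)).1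
    simp at this
  · have := (H659.U3.u33_stage hC p h2 h3 (by simp) (by rw [hK]; norm_num) e).2
    simp at this

include hFp hp in
theorem u42 (hC : Core P) (h2 : p ≠ 2) (h3 : p ≠ 3) (h : IsU 4 2 (Soc P)) : False := by
  obtain ⟨K, i1, i2, hK, ⟨e⟩⟩ := h
  have := H659.Sp4.u42_stage' hC p h2 h3 (by simp) (by rw [hK]; norm_num) e
  simp at this

include hFp hp in
theorem u43 (hC : Core P) (h3 : p ≠ 3) (h : IsU 4 3 (Soc P)) : False := by
  obtain ⟨K, i1, i2, hK, ⟨e⟩⟩ := h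
  have := (H918.U43.u43_core hC p h3 (by rw [hK]; norm_num) e (by simp)).1
  simp at this

include hFp hp in
theorem u52 (hC : Core P) (h2 : p ≠ 2) (h : IsU 5 2 (Soc P)) : False := by
  obtain ⟨K, i1, i2, hK, ⟨e⟩⟩ := h
  have := H36.U52.t6 hC p h2 (by norm_num) (by rw [hK]; norm_num) e
  omega

include hFp hp in
theorem s62 (hC : Core P) (h2 : p ≠ 2) (h : IsS 3 2 (Soc P)) : False := by
  obtain ⟨K, i1, i2, hK, ⟨e⟩⟩ := h
  have h3 := H916.SpSix.spSix_dim (zero_or_one hK) hC e (two_ne h2) (by simp)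
  simp at h3

include hFp hp in
theorem o82 (hC : Core P) (h2 : p ≠ 2) (h : IsOP 4 2 (Soc P)) : False := by
  obtain ⟨K, i1, i2, hK, ⟨e⟩⟩ := h
  have h3 := H916.Om.omega_dim (zero_or_one hK) hC e (two_ne h2) (by simp)
  simp at h3

include hFp hp in
theorem l33 (hC : Core P) (h3 : p ≠ 3) (h : IsL 3 3 (Soc P)) : SD P := by
  obtain ⟨K, i1, i2, hK, ⟨e⟩⟩ := h
  exact (H175.L33.l33 hC p h3 hK e (by simp)).2.1

include hFp hp in
theorem a7 (hC : Core P) (h3 : ¬ 3 ∣ Nat.card ((scalars (Fin 12) F).subgroupOf P))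
    (e : Soc P ≃* alternatingGroup (Fin 7)) : SD P := by
  have hZ : ∀ g ∈ P, g ∈ scalars (Fin 12) F → g * g = 1 := by
    intro g hg hs
    have h1 := hC.card_scalars_dvd e (S2116.result 7 (Or.inr rfl))
    rw [show Nat.card (Multiplicative (ZMod 6)) = 6 from Nat.card_zmod 6] at h1
    have hz : (⟨g, hg⟩ : P) ∈ (scalars (Fin 12) F).subgroupOf P := hs
    have h2 : Nat.card ((scalars (Fin 12) F).subgroupOf P) ∣ 2 := by
      have h4 : (Nat.card ((scalars (Fin 12) F).subgroupOf P)).Coprime 3 := by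
        rw [Nat.coprime_comm, Nat.Prime.coprime_iff_not_dvd (by norm_num)]
        exact h3
      exact h4.dvd_of_dvd_mul_right (h1 : _ ∣ 2 * 3)
    obtain ⟨m, hm⟩ := h2
    have h4 : (⟨⟨g, hg⟩, hz⟩ : (scalars (Fin 12) F).subgroupOf P) ^
        Nat.card ((scalars (Fin 12) F).subgroupOf P) = 1 := pow_card_eq_one'
    have h5 : (⟨g, hg⟩ : P) ^ Nat.card ((scalars (Fin 12) F).subgroupOf P) = 1 := congrArg Subtype.val h4
    have h6 : (⟨g, hg⟩ : P) ^ 2 = 1 := by rw [hm, pow_mul, h5, one_pow]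
    rw [pow_two] at h6
    exact congrArg Subtype.val h6
  rcases H637.A7Main.le_two p hC e hZ with h | ⟨h | ⟨h, -⟩, -⟩
  · exact h
  · simp at h
  · simp at h

include hFp hp in
theorem m12 (hC : Core P) (e : Soc P ≃* Spor.M12) : SD P := by
  by_cases h3 : p = 3
  · subst h3
    exfalso
    have h2 : (2 : F) ≠ 0 := two_ne (p := 3) (by norm_num)
    obtain ⟨φ, hφ, hφe⟩ := H932.Mt.exists_cover hC e
    exact (H932.Mt.odd12_rp h2 e hφe).three_false (by exact_mod_cast CharP.cast_eq_zero F 3)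
      (H932.Mt.irr_rp hC hφ)
  · by_cases h2 : p = 2
    · exact H6.M11.m12_odd hC p h3 ⟨e⟩ (by simp) (Or.inr h2)
    · exact H932.Mt.sd (two_ne h2) (three_ne h3) hC e

include hFp hp in
theorem m22_false (hC : Core P) (h : Cfsg.Spor.IsoM22 (Soc P)) : False := by
  by_cases h2 : p = 2
  · subst h2
    obtain ⟨e⟩ := h
    rcases H921.M22.main e hC (by simp) with ⟨h1, -⟩ | ⟨h1, -⟩ <;> simp at h1
  · exact m22_odd p h2 h (by simp)

include hFp hp in
theorem g24 (hC : Core P) (h2 : p ≠ 2) (h : H912.Bd.IsG2 4 (Soc P)) : SD P :=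
  (H937.G24.row hC h p h2 (by simp)).2.1

include hFp hp in
theorem l34 (hC : Core P) (h2 : p ≠ 2) (h : IsL 3 4 (Soc P)) :
    p = 7 ∧ Fintype.card F = 49 ∧ 3 ∣ Nat.card ((scalars (Fin 12) F).subgroupOf P) := by
  obtain ⟨K, i1, i2, hK, ⟨e⟩⟩ := h
  obtain ⟨h7, h12, hfr⟩ := H906.T12.l34_twelve' p hC h2 hK (by simp) e
  subst h7
  exact ⟨rfl, card_of_fr 7 hC (by norm_num; exact hfr) h12 (by norm_num), (by norm_num : (3 : ℕ) ∣ 12).trans h12⟩

include hFp hp in
theorem suz_three (hC : Core P) (h3 : p = 3) (h : Spor.IsoSuz (Soc P)) : SD P := by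
  subst h3
  obtain ⟨e⟩ := h
  exact (H878.Sz.core_Suz_three hC e (by simp)).2.2.1

include hFp hp in
theorem suz (hC : Core P) (h3 : p ≠ 3) (h : Spor.IsoSuz (Soc P)) :
    (p % 3 = 1 ∧ Fr P p) ∨ (p % 3 = 2 ∧ Cj P p) := by
  obtain ⟨e⟩ := h
  obtain ⟨-, -, h1, h2⟩ := H878.Sz.core_Suz hC e (by simp) p h3
  have h4 : p % 3 ≠ 0 := fun h => h3 ((Nat.prime_dvd_prime_iff_eq Nat.prime_three hp.out).1 (Nat.dvd_of_mod_eq_zero h)).symm
  have h5 : p % 3 = 1 ∨ p % 3 = 2 := by omega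
  rcases h5 with h5 | h5
  · exact Or.inl ⟨h5, h1 h5⟩
  · exact Or.inr ⟨h5, h2 h5⟩

include hFp hp in
/-- **The list in dimension 12, cross characteristic, not self-dual.** -/
theorem cross (hC : Core P) (hsd : ¬ SD P) (hk : IsKnownSimple' (Soc P)) (hL : ¬ IsLieTypeChar p (Soc P))
    (R : CrossRows p P) : Cross12 p P := by
  have hl34 : p ≠ 2 → IsL 3 4 (Soc P) → Cross12 p P := by
    intro h1 h
    obtain ⟨h2, h3⟩ := l34 p hC h1 h
    exact Or.inr (Or.inr (Or.inl ⟨h2, h, h3⟩))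
  have hl2 : ∀ q, 5 ≤ q → q ≠ 9 → ¬ p ∣ q → IsL 2 q (Soc P) → Cross12 p P := by
    rintro q hq hq9 hpq ⟨K, i1, i2, hK, ⟨e⟩⟩
    obtain ⟨h1, h2⟩ := l2 p hC hsd (by rwa [hK]) (by rwa [hK]) (by rwa [hK]) e
    exact Or.inl ⟨K, i1, i2, h1, h2, ⟨e⟩⟩
  rcases H936.List12.list₂ (p := p) (n := 12) (by norm_num) hC hk hL with h | h | h | h | h
  · obtain ⟨m, h5, h14, -, -, -, ⟨e⟩⟩ := h
    have hm : m = 5 ∨ m = 6 ∨ m = 7 ∨ 8 ≤ m := by omega
    rcases hm with rfl | rfl | rfl | hm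
    · exact (hsd (H937.T2.a5_sd hC e)).elim
    · exact Or.inr (Or.inl ⟨e⟩)
    · by_cases h3 : 3 ∣ Nat.card ((scalars (Fin 12) F).subgroupOf P)
      · rcases R.a7 h3 e with h4 | h4
        · exact (hsd h4).elim
        · exact Or.inr (Or.inr (Or.inr (Or.inr ⟨h4.1, ⟨e⟩, h4.2⟩)))
      · exact (hsd (a7 p hC h3 e)).elim
    · refine (hsd (H614.AMod.Main.alt_sd_fr hC p e hm (by simp) ?_).1).elim
      rintro ⟨rfl, rfl⟩
      apply hL
      obtain ⟨e'⟩ := Cfsg.Agent.S0256.result (F := ZMod 2) (by simp)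
      exact H936.List12.lie_of_isL Nat.prime_two (dvd_refl 2) (by norm_num) (by norm_num)
        ⟨ZMod 2, inferInstance, inferInstance, by simp, ⟨e.trans e'.symm⟩⟩
  · rcases h with ⟨q, hq, hpq, -, h⟩ | ⟨h1, -, h⟩ | ⟨h1, -, h⟩ | ⟨h1, -, h⟩ | ⟨h1, h2, -, h⟩ | ⟨h1, -, h⟩ |
      ⟨h1, -, h⟩ | ⟨h1, -, h⟩ | ⟨h1, -, h⟩
    · simp only [Finset.mem_insert, Finset.mem_singleton] at hq
      exact hl2 q (by omega) (by omega) hpq h
    · exact (hsd (l33 p hC h1 h)).elim
    · exact (u33 p hC h1 h).elim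
    · exact (hsd (H881.U34.main p h1 hC (by simp) h).2.2.1).elim
    · exact (u42 p hC h1 h2 h).elim
    · exact (u52 p hC h1 h).elim
    · exact (hsd (H434.PSp45.sd p hC h h1 (by simp))).elim
    · exact (s62 p hC h1 h).elim
    · exact (o82 p hC h1 h).elim
  · rcases h with ⟨h1, -, h | h | ⟨h2, h⟩ | h | h | h⟩ | ⟨h1, -, h⟩
    · refine hl2 7 (by norm_num) (by norm_num) ?_ h
      intro hd
      exact hL (H936.List12.lie_of_isL hp.out hd le_rfl (by norm_num) h)
    · exact hl34 h1 h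
    · exact (u42 p hC h1 h2 h).elim
    · exact (s62 p hC h1 h).elim
    · exact (o82 p hC h1 h).elim
    · exact (hsd (g24 p hC h1 h)).elim
    · exact (u43 p hC h1 h).elim
  · exfalso
    have := (H814.Sz8.core_sz8 hC (two_ne h.1) (by simp) h.2.2).1
    simp at this
  · rcases h with h | h | h | h | h | h | h | h | h
    · rcases H6.M11.m11 hC p h (by simp) with h1 | ⟨h1, -⟩ | ⟨h1, -⟩
      · exact (hsd h1).elim
      · simp at h1
      · simp at h1
    · obtain ⟨e⟩ := h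
      exact (hsd (m12 p hC e)).elim
    · exact (m22_false p hC h).elim
    · obtain ⟨e⟩ := h
      have := (H4.LDM.Stage.m23_low hC e p (by simp)).2.1
      simp at this
    · obtain ⟨e⟩ := h
      have := (H4.LDM.Stage.m24_low hC e p (by simp)).2.1
      simp at this
    · exact (hsd (H1.TJ1.sd_iso hC h)).elim
    · exact (hsd (H1.TJ2.sd_iso hC h (by simp))).elim
    · exfalso
      have := (H95.JT.j3 p hC h (by simp)).2.1
      simp at this
    · by_cases h3 : p = 3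
      · exact (hsd (suz_three p hC h3 h)).elim
      · exact Or.inr (Or.inr (Or.inr (Or.inl ⟨h, suz p hC h3 h⟩)))

end Cfsg.Agent.H929.Twelve
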