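import Mathlib.Data.Nat.Choose.Lucas
import Mathlib.Data.Nat.Prime.Factorial
import Mathlib.Algebra.Order.Ring.Nat
import Mathlib.Tactic

/-!
# Nonvanishing binomial coefficients modulo `p` (helper929)
-/

set_option autoImplicit false
set_option linter.unusedSectionVars false

namespace Cfsg.Agent.H929.U3.Dig

variable (p : ℕ) [hp : Fact p.Prime]

/-- `p` does not divide `n` choose `k` -/
def bx (n k : ℕ) : Prop := ¬ p ∣ n.choose k

instance decBx (n k : ℕ) : Decidable (bx p n k) := by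
  unfold bx
  infer_instance

variable {p}

theorem bx_small {r s : ℕ} (hr : r < p) : bx p r s ↔ s ≤ r := by
  unfold bx
  constructor
  · intro h
    by_contra hcon
    exact h (by rw [Nat.choose_eq_zero_of_lt (by omega)]; exact dvd_zero _)
  · intro h hdvd
    have h1 := Nat.choose_mul_factorial_mul_factorial h
    have h2 : p ∣ r.factorial := by
      rw [← h1, mul_assoc]
      exact hdvd.mul_right _
    rw [hp.out.dvd_factorial] at h2
    omega

theorem bx_iff (n k : ℕ) : bx p n k ↔ k % p ≤ n % p ∧ bx p (n / p) (k / p) := by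
  have h1 := Choose.choose_modEq_choose_mod_mul_choose_div_nat (p := p) (n := n) (k := k)
  have h2 : p ∣ n.choose k ↔ p ∣ (n % p).choose (k % p) * (n / p).choose (k / p) := by
    rw [← Nat.modEq_zero_iff_dvd, ← Nat.modEq_zero_iff_dvd]
    exact ⟨fun h => h1.symm.trans h, fun h => h1.trans h⟩
  rw [← bx_small (Nat.mod_lt n hp.out.pos)]
  unfold bx
  rw [h2, hp.out.dvd_mul]
  tauto

theorem bx_zero (n : ℕ) : bx p n 0 := by
  unfold bx
  rw [Nat.choose_zero_right, Nat.dvd_one]
  exact hp.out.ne_one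

theorem bx_self (n : ℕ) : bx p n n := by
  unfold bx
  rw [Nat.choose_self, Nat.dvd_one]
  exact hp.out.ne_one

theorem bx_le {n k : ℕ} (h : bx p n k) : k ≤ n := by
  by_contra hcon
  exact h (by rw [Nat.choose_eq_zero_of_lt (by omega)]; exact dvd_zero _)

theorem bx_sub {n k : ℕ} (h : bx p n k) : bx p n (n - k) := by
  unfold bx at *
  rwa [Nat.choose_symm (bx_le h)]

theorem bx_add {f a' a'' x y : ℕ} (ha' : a' < p ^ f) (hx : x < p ^ f) (h1 : bx p a' x) (h2 : bx p a'' y) :
    bx p (a' + p ^ f * a'') (x + p ^ f * y) := by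
  induction f generalizing a' x with
  | zero =>
    rw [pow_zero, Nat.lt_one_iff] at ha' hx
    subst ha' hx
    simpa using h2
  | succ f ih =>
    rw [bx_iff] at h1 ⊢
    have hpos := hp.out.pos
    have e1 : ∀ u v : ℕ, (u + p ^ (f + 1) * v) % p = u % p := by
      intro u v
      rw [pow_succ', mul_assoc, Nat.add_mul_mod_self_left]
    have e2 : ∀ u v : ℕ, (u + p ^ (f + 1) * v) / p = u / p + p ^ f * v := by
      intro u v
      rw [pow_succ', mul_assoc, Nat.add_mul_div_left _ _ hpos]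
    rw [e1, e1, e2, e2]
    refine ⟨h1.1, ih ?_ ?_ h1.2⟩
    · rw [Nat.div_lt_iff_lt_mul hpos, ← pow_succ]
      exact ha'
    · rw [Nat.div_lt_iff_lt_mul hpos, ← pow_succ]
      exact hx

/-- the sumset of the boxes is an interval if all digit sums are at least `p - 1` -/
theorem cover {f a' a'' : ℕ} (ha' : a' < p ^ f) (ha'' : a'' < p ^ f)
    (hs : ∀ k < f, p ≤ a' / p ^ k % p + a'' / p ^ k % p + 1) {m : ℕ} (hm : m ≤ a' + a'') :
    ∃ x y, x + y = m ∧ bx p a' x ∧ bx p a'' y := by
  induction f generalizing a' a'' m with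
  | zero =>
    rw [pow_zero, Nat.lt_one_iff] at ha' ha''
    subst ha' ha''
    exact ⟨0, 0, by omega, bx_zero _, bx_zero _⟩
  | succ f ih =>
    have hpos := hp.out.pos
    have h1 : a' / p < p ^ f := by
      rw [Nat.div_lt_iff_lt_mul hpos, ← pow_succ]
      exact ha'
    have h2 : a'' / p < p ^ f := by
      rw [Nat.div_lt_iff_lt_mul hpos, ← pow_succ]
      exact ha''
    have h3 : ∀ k < f, p ≤ a' / p / p ^ k % p + a'' / p / p ^ k % p + 1 := by
      intro k hk
      rw [Nat.div_div_eq_div_mul, Nat.div_div_eq_div_mul, ← pow_succ']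
      exact hs (k + 1) (by omega)
    have h0 := hs 0 (by omega)
    rw [pow_zero, Nat.div_one, Nat.div_one] at h0
    have ha := Nat.div_add_mod a' p
    have hb := Nat.div_add_mod a'' p
    have hr := Nat.mod_lt a' hpos
    have hs' := Nat.mod_lt a'' hpos
    set r := a' % p with hr0
    set s := a'' % p with hs0
    set A := a' / p with hA
    set B := a'' / p with hB
    -- the quotient part
    obtain ⟨y0, x0, hy0, hx0, hxy⟩ : ∃ y0 x0, y0 ≤ A + B ∧ x0 ≤ r + s ∧ x0 + p * y0 = m := by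
      have hm1 := Nat.div_add_mod m p
      have hm2 := Nat.mod_lt m hpos
      by_cases hc : m / p ≤ A + B
      · exact ⟨m / p, m % p, hc, by omega, by omega⟩
      · push Not at hc
        have h5 : p * (A + B) ≤ p * (m / p) := Nat.mul_le_mul_left _ hc.le
        refine ⟨A + B, m - p * (A + B), le_rfl, ?_, ?_⟩
        · have h6 : p * (A + B) = p * A + p * B := mul_add _ _ _
          omega
        · omega
    obtain ⟨x1, y1, h4, h5, h6⟩ := ih h1 h2 h3 hy0
    have key : ∀ i u : ℕ, i < p → (i + p * u) % p = i ∧ (i + p * u) / p = u := by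
      intro i u hi
      constructor
      · rw [Nat.add_mul_mod_self_left, Nat.mod_eq_of_lt hi]
      · rw [Nat.add_mul_div_left _ _ hpos, Nat.div_eq_of_lt hi, zero_add]
    refine ⟨min x0 r + p * x1, (x0 - min x0 r) + p * y1, ?_, ?_, ?_⟩
    · rw [← hxy, ← h4, mul_add]
      omega
    · rw [bx_iff, (key _ _ (by omega)).1, (key _ _ (by omega)).2]
      exact ⟨by omega, h5⟩
    · rw [bx_iff, (key _ _ (by omega)).1, (key _ _ (by omega)).2]
      exact ⟨by omega, h6⟩

variable (p) in
/-- number of nonvanishing binomials -/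
def dc (f n : ℕ) : ℕ := ((Finset.range (p ^ f)).filter fun k => bx p n k).card

theorem dc_zero (n : ℕ) : dc p 0 n = 1 := by
  unfold dc
  rw [pow_zero, Finset.range_one, Finset.filter_singleton, if_pos (bx_zero n), Finset.card_singleton]

theorem dc_succ (f n : ℕ) : dc p (f + 1) n = (n % p + 1) * dc p f (n / p) := by
  have hpos := hp.out.pos
  have key : ∀ i u : ℕ, i < p → (i + p * u) % p = i ∧ (i + p * u) / p = u := by
    intro i u hi
    constructor
    · rw [Nat.add_mul_mod_self_left, Nat.mod_eq_of_lt hi]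
    · rw [Nat.add_mul_div_left _ _ hpos, Nat.div_eq_of_lt hi, zero_add]
  have hm := Nat.mod_lt n hpos
  unfold dc
  rw [← Finset.card_range (n % p + 1), ← Finset.card_product]
  refine Finset.card_nbij' (fun k => (k % p, k / p)) (fun t => t.1 + p * t.2) ?_ ?_ ?_ ?_
  · intro k hk
    simp only [Finset.coe_filter, Finset.mem_range, Set.mem_ofPred_eq] at hk
    simp only [Finset.coe_product, Finset.coe_filter, Set.mem_prod, Finset.coe_range, Set.mem_Iio, Set.mem_ofPred_eq,
      Finset.mem_range]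
    rw [bx_iff] at hk
    refine ⟨by omega, ?_, hk.2.2⟩
    rw [Nat.div_lt_iff_lt_mul hpos, ← pow_succ]
    exact hk.1
  · rintro ⟨i, u⟩ ht
    simp only [Finset.coe_product, Finset.coe_filter, Set.mem_prod, Finset.coe_range, Set.mem_Iio, Set.mem_ofPred_eq,
      Finset.mem_range] at ht
    simp only [Finset.coe_filter, Finset.mem_range, Set.mem_ofPred_eq]
    have hk := key i u (by omega)
    rw [bx_iff, hk.1, hk.2]
    refine ⟨?_, by omega, ht.2.2⟩
    have h1 : p * u + p ≤ p * p ^ f := by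
      rw [← Nat.mul_succ]
      exact Nat.mul_le_mul_left _ ht.2.1
    rw [pow_succ']
    omega
  · intro k _
    exact Nat.mod_add_div k p
  · rintro ⟨i, u⟩ ht
    simp only [Finset.coe_product, Finset.coe_filter, Set.mem_prod, Finset.coe_range, Set.mem_Iio, Set.mem_ofPred_eq,
      Finset.mem_range] at ht
    have hk := key i u (by omega)
    simp only [hk.1, hk.2]

theorem dc_of_zero (f : ℕ) : dc p f 0 = 1 := by
  induction f with
  | zero => exact dc_zero 0
  | succ f ih => rw [dc_succ, Nat.zero_mod, Nat.zero_div, ih]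

/-- classification of small counts -/
theorem classify {f a : ℕ} (ha : 0 < a) (haf : a < p ^ f) (hd : dc p f a ≤ 5) :
    ∃ k c, a = p ^ k * c ∧ ((1 ≤ c ∧ c < p ∧ c ≤ 4 ∧ dc p f a = c + 1) ∨ ∃ i, 1 ≤ i ∧ c = 1 + p ^ i ∧ dc p f a = 4) := by
  induction f generalizing a with
  | zero =>
    rw [pow_zero] at haf
    omega
  | succ f ih =>
    have hpos := hp.out.pos
    have hm := Nat.mod_lt a hpos
    have hdiv := Nat.div_add_mod a p
    have h1 : a / p < p ^ f := by
      rw [Nat.div_lt_iff_lt_mul hpos, ← pow_succ]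
      exact haf
    rw [dc_succ] at hd ⊢
    by_cases h0 : a % p = 0
    · rw [h0] at hd hdiv ⊢
      have h2 : 0 < a / p := by
        rcases Nat.eq_zero_or_pos (a / p) with h | h
        · rw [h] at hdiv
          omega
        · exact h
      obtain ⟨k, c, h3, h4⟩ := ih h2 h1 (by omega)
      refine ⟨k + 1, c, ?_, ?_⟩
      · rw [pow_succ', mul_assoc, ← h3]
        omega
      · simpa using h4
    · by_cases h2 : a / p = 0
      · rw [h2] at hdiv hd ⊢
        rw [dc_of_zero] at hd ⊢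
        refine ⟨0, a, by simp, Or.inl ⟨ha, by omega, by omega, by omega⟩⟩
      · have h3 : 2 * dc p f (a / p) ≤ (a % p + 1) * dc p f (a / p) := Nat.mul_le_mul_right _ (by omega)
        obtain ⟨k, c, h4, h5⟩ := ih (Nat.pos_of_ne_zero h2) h1 (by omega)
        have h6 : 2 ≤ dc p f (a / p) := by
          rcases h5 with h5 | ⟨i, -, -, h5⟩ <;> omega
        have h7 : dc p f (a / p) = 2 := by omega
        have h8 : a % p = 1 := by
          rw [h7] at hd
          omega
        rcases h5 with h5 | ⟨i, -, -, h5⟩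
        · obtain rfl : c = 1 := by omega
          refine ⟨0, 1 + p ^ (k + 1), ?_, Or.inr ⟨k + 1, by omega, rfl, ?_⟩⟩
          · rw [pow_zero, one_mul, pow_succ']
            rw [h4, mul_one] at hdiv
            omega
          · rw [h7, h8]
        · omega

/-- rotation of the digits, bringing a small digit sum to the top -/
theorem rotate {f a' a'' k : ℕ} (ha' : a' < p ^ f) (ha'' : a'' < p ^ f) (hk : k < f)
    (hs : a' / p ^ k % p + a'' / p ^ k % p + 2 ≤ p) :
    ∃ m u' v' u'' v'', m ≤ f ∧ a' = u' + p ^ m * v' ∧ a'' = u'' + p ^ m * v'' ∧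
      (v' + p ^ (f - m) * u'') + (v'' + p ^ (f - m) * u') + 2 ≤ p ^ f := by
  have hpos := hp.out.pos
  refine ⟨k + 1, a' % p ^ (k + 1), a' / p ^ (k + 1), a'' % p ^ (k + 1), a'' / p ^ (k + 1), hk,
    (Nat.mod_add_div _ _).symm, (Nat.mod_add_div _ _).symm, ?_⟩
  obtain ⟨g, rfl⟩ : ∃ g, f = g + (k + 1) := ⟨f - (k + 1), by omega⟩
  rw [Nat.add_sub_cancel]
  have key : ∀ b c : ℕ, b < p ^ (g + (k + 1)) →
      b / p ^ (k + 1) + p ^ g * (c % p ^ (k + 1)) + 1 ≤ p ^ (g + k) * (c / p ^ k % p + 1) := by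
    intro b c hb
    have h1 : b / p ^ (k + 1) + 1 ≤ p ^ g := by
      rw [Nat.succ_le_iff, Nat.div_lt_iff_lt_mul (pow_pos hpos _), ← pow_add]
      exact hb
    have h2 : c % p ^ k + 1 ≤ p ^ k := Nat.mod_lt _ (pow_pos hpos _)
    have h3 : p ^ g * (c % p ^ k + 1) ≤ p ^ g * p ^ k := Nat.mul_le_mul_left _ h2
    rw [Nat.mod_pow_succ, pow_add p g k]
    calc b / p ^ (k + 1) + p ^ g * (c % p ^ k + p ^ k * (c / p ^ k % p)) + 1
        ≤ p ^ g + p ^ g * (c % p ^ k + p ^ k * (c / p ^ k % p)) := by omega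
      _ = p ^ g * (c % p ^ k + 1) + p ^ g * p ^ k * (c / p ^ k % p) := by ring
      _ ≤ p ^ g * p ^ k + p ^ g * p ^ k * (c / p ^ k % p) := by omega
      _ = p ^ g * p ^ k * (c / p ^ k % p + 1) := by ring
  have h1 := key a' a'' ha'
  have h2 := key a'' a' ha''
  have h3 : p ^ (g + k) * (a' / p ^ k % p + a'' / p ^ k % p + 2) ≤ p ^ (g + k) * p := Nat.mul_le_mul_left _ hs
  have h4 : p ^ (g + (k + 1)) = p ^ (g + k) * p := by rw [← pow_succ]; rfl
  rw [h4]
  have h5 : p ^ (g + k) * (a' / p ^ k % p + a'' / p ^ k % p + 2) =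
      p ^ (g + k) * (a' / p ^ k % p + 1) + p ^ (g + k) * (a'' / p ^ k % p + 1) := by ring
  omega

theorem two_le_dc {f a : ℕ} (ha : 0 < a) (haf : a < p ^ f) : 2 ≤ dc p f a := by
  have h1 : ({0, a} : Finset ℕ) ⊆ (Finset.range (p ^ f)).filter fun k => bx p a k := by
    intro x hx
    rw [Finset.mem_insert, Finset.mem_singleton] at hx
    rw [Finset.mem_filter, Finset.mem_range]
    rcases hx with rfl | rfl
    · exact ⟨by omega, bx_zero _⟩
    · exact ⟨haf, bx_self _⟩
  have h2 := Finset.card_le_card h1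
  rwa [Finset.card_pair (by omega)] at h2

theorem dc_lt {f c : ℕ} (hc : c < p) (hf : 0 < f) : dc p f c = c + 1 := by
  obtain ⟨g, rfl⟩ : ∃ g, f = g + 1 := ⟨f - 1, by omega⟩
  rw [dc_succ, Nat.mod_eq_of_lt hc, Nat.div_eq_of_lt hc, dc_of_zero, mul_one]

theorem dc_pow_mul {f i : ℕ} (hi : i ≤ f) (c : ℕ) : dc p f (p ^ i * c) = dc p (f - i) c := by
  induction i generalizing f with
  | zero => simp
  | succ i ih =>
    obtain ⟨g, rfl⟩ : ∃ g, f = g + 1 := ⟨f - 1, by omega⟩
    rw [dc_succ, pow_succ', mul_assoc, Nat.mul_mod_right, Nat.mul_div_cancel_left _ hp.out.pos, ih (by omega), zero_add,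
      one_mul]
    congr 1
    omega

/-- two digits -/
theorem dc_pair {f i c c' : ℕ} (hi : 0 < i) (hif : i < f) (hc : c < p) (hc' : c' < p) :
    dc p f (c + p ^ i * c') = (c + 1) * (c' + 1) := by
  have hpos := hp.out.pos
  obtain ⟨g, rfl⟩ : ∃ g, f = g + 1 := ⟨f - 1, by omega⟩
  obtain ⟨k, rfl⟩ : ∃ k, i = k + 1 := ⟨i - 1, by omega⟩
  rw [dc_succ, pow_succ', mul_assoc, Nat.add_mul_mod_self_left, Nat.mod_eq_of_lt hc, Nat.add_mul_div_left _ _ hpos,
    Nat.div_eq_of_lt hc, zero_add, dc_pow_mul (by omega), dc_lt hc' (by omega)]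

theorem pair_lt {f i c c' : ℕ} (hi : 0 < i) (hif : i < f) (hc : c < p) (hc' : c' < p) : c + p ^ i * c' < p ^ f := by
  have hpos := hp.out.pos
  have h1 : p ^ (i + 1) ≤ p ^ f := Nat.pow_le_pow_right hpos hif
  have h2 : p ^ 1 ≤ p ^ i := Nat.pow_le_pow_right hpos hi
  have h3 : p ^ i * (c' + 1) ≤ p ^ i * p := Nat.mul_le_mul_left _ hc'
  rw [pow_succ] at h1
  rw [pow_one] at h2
  have h5 : p ^ i * (c' + 1) = p ^ i * c' + p ^ i := by ring
  omega

end Cfsg.Agent.H929.U3.Dig
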