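import Cfsg.Agent.H929.UThreeKer

/-!
# The three coordinate planes (helper929)

If every residue class modulo `q + 1` contains some `k` with `p ∤ (a choose k)` and `5 ≤ q`, the rank of `h ^ a` is at
least `13` (in fact `3 q`).
-/

set_option autoImplicit false
set_option linter.unusedSectionVars false

namespace Cfsg.Agent.H929.U3

open Cfsg Cfsg.Agent.LieClassical.HermSiegel Cfsg.Agent.LieClassical.HermBasic Matrix Cfsg.Agent.H906

variable {E : Type*} [Field E] [Fintype E] {q : ℕ} {K : Type*} [Field K] {κ : Type} [Fintype κ] [DecidableEq κ]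

/-- simultaneous eigenfunctions with distinct eigenvalues are independent -/
theorem indep_of_classes {X ι : Type*} (T₁ T₂ : X → X) (f : ι → X → K) (χ₁ χ₂ : ι → K)
    (h₁ : ∀ i x, f i (T₁ x) = χ₁ i * f i x) (h₂ : ∀ i x, f i (T₂ x) = χ₂ i * f i x) (hne : ∀ i, f i ≠ 0)
    (hinj : ∀ i i', χ₁ i = χ₁ i' → χ₂ i = χ₂ i' → i = i') : LinearIndependent K f := by
  classical
  rw [linearIndependent_iff']
  intro s
  induction s using Finset.induction_on with
  | empty => intro g _ i hi; simp at hi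
  | insert b s hb ih =>
    intro g hg
    have hsum : ∀ x, g b * f b x + ∑ i ∈ s, g i * f i x = 0 := by
      intro x
      have := congrFun hg x
      rw [Finset.sum_insert hb] at this
      simpa [Finset.sum_apply] using this
    have key : ∀ (T : X → X) (χ : ι → K), (∀ i x, f i (T x) = χ i * f i x) → ∀ i ∈ s, g i * (χ i - χ b) = 0 := by
      intro T χ hT
      apply ih
      funext x
      have h3 := hsum (T x)
      have h4 := hsum x
      simp only [hT] at h3
      rw [Finset.sum_apply, Pi.zero_apply]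
      have h5 : ∑ i ∈ s, (g i * (χ i - χ b)) * f i x =
          (g b * (χ b * f b x) + ∑ i ∈ s, g i * (χ i * f i x)) - χ b * (g b * f b x + ∑ i ∈ s, g i * f i x) := by
        have h6 : χ b * ∑ i ∈ s, g i * f i x = ∑ i ∈ s, χ b * (g i * f i x) := Finset.mul_sum _ _ _
        rw [mul_add, h6]
        have h7 : ∑ i ∈ s, (g i * (χ i - χ b)) * f i x =
            ∑ i ∈ s, g i * (χ i * f i x) - ∑ i ∈ s, χ b * (g i * f i x) := by
          rw [← Finset.sum_sub_distrib]
          exact Finset.sum_congr rfl fun i _ => by ring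
        rw [h7]
        ring
      have h8 : ∑ i ∈ s, ((g i * (χ i - χ b)) • f i) x = ∑ i ∈ s, (g i * (χ i - χ b)) * f i x :=
        Finset.sum_congr rfl fun i _ => by rw [Pi.smul_apply, smul_eq_mul]
      rw [h8, h5, h3, h4]
      ring
    have hz : ∀ i ∈ s, g i = 0 := by
      intro i hi
      have hib : i ≠ b := fun h => hb (h ▸ hi)
      by_cases hc : χ₁ i = χ₁ b
      · have hc2 : χ₂ i ≠ χ₂ b := fun h => hib (hinj _ _ hc h)
        exact (mul_eq_zero.1 (key T₂ χ₂ h₂ i hi)).resolve_right (sub_ne_zero.2 hc2)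
      · exact (mul_eq_zero.1 (key T₁ χ₁ h₁ i hi)).resolve_right (sub_ne_zero.2 hc)
    have hgb : g b = 0 := by
      by_contra hcon
      apply hne b
      funext x
      have h3 := hsum x
      rw [Finset.sum_eq_zero fun i hi => by rw [hz i hi, zero_mul], add_zero] at h3
      exact (mul_eq_zero.1 h3).resolve_left hcon
    intro i hi
    rcases Finset.mem_insert.1 hi with rfl | hi
    · exact hgb
    · exact hz i hi

theorem sum_range_shift {n : ℕ} (F : ℕ → K) (hF : F n = F 0) :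
    ∑ s ∈ Finset.range n, F (s + 1) = ∑ s ∈ Finset.range n, F s := by
  have h1 := Finset.sum_range_succ F n
  have h2 := Finset.sum_range_succ' F n
  rw [h1, hF] at h2
  exact (add_right_cancel h2).symm

theorem exists_zeta (hF : Fintype.card E = q ^ 2) : ∃ ζ : E, IsPrimitiveRoot ζ (q + 1) := by
  classical
  have hq := two_le hF
  obtain ⟨t, ht⟩ := IsCyclic.exists_generator (α := Eˣ)
  have h1 : orderOf t = q ^ 2 - 1 := by
    rw [orderOf_eq_card_of_forall_mem_zpowers ht, Nat.card_eq_fintype_card, Fintype.card_units, hF]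
  have h3 : q ^ 2 - 1 = (q - 1) * (q + 1) := by
    obtain ⟨r, rfl⟩ : ∃ r, q = r + 2 := ⟨q - 2, by omega⟩
    have h4 : (r + 2) ^ 2 = (r + 2 - 1) * (r + 2 + 1) + 1 := by
      rw [show r + 2 - 1 = r + 1 by omega]
      ring
    rw [h4]
    omega
  have h4 : 0 < q ^ 2 - 1 := by
    rw [h3]
    exact Nat.mul_pos (by omega) (by omega)
  have h2 : IsPrimitiveRoot (t : E) (q ^ 2 - 1) := by
    rw [IsPrimitiveRoot.coe_units_iff, ← h1]
    exact IsPrimitiveRoot.orderOf t
  exact ⟨(t : E) ^ (q - 1), h2.pow h4 h3⟩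

/-- the partial Fourier transform -/
noncomputable def gP (q : ℕ) (j : E →+* K) (ε ζ : E) (a i : ℕ) (α β : E) : K :=
  ∑ s ∈ Finset.range (q + 1), j ζ ^ (i * s) * j (α ^ q + ε * ζ ^ s * β ^ q) ^ a

section

variable {j : E →+* K} {ε ζ : E} {a : ℕ}

theorem gP_right (hζ : IsPrimitiveRoot ζ (q + 1)) (i : ℕ) (α β : E) :
    gP q j ε ζ a i α (ζ * β) = j ζ ^ i * gP q j ε ζ a i α β := by
  have h1 : ζ ^ (q + 1) = 1 := hζ.pow_eq_one
  rw [gP, ← sum_range_shift, gP, Finset.mul_sum]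
  · refine Finset.sum_congr rfl fun s _ => ?_
    have h2 : ε * ζ ^ (s + 1) * (ζ * β) ^ q = ε * ζ ^ s * β ^ q := by
      rw [mul_pow]
      calc ε * ζ ^ (s + 1) * (ζ ^ q * β ^ q) = ε * ζ ^ s * β ^ q * ζ ^ (q + 1) := by ring
        _ = _ := by rw [h1, mul_one]
    rw [h2, mul_add, mul_one, pow_add]
    ring
  · have h3 : j ζ ^ (q + 1) = 1 := by rw [← map_pow, h1, map_one]
    rw [mul_zero, pow_zero, mul_comm i, pow_mul, h3, one_pow, h1, pow_zero]

theorem gP_left (hζ : IsPrimitiveRoot ζ (q + 1)) (i : ℕ) (α β : E) :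
    gP q j ε ζ a i (ζ * α) β = (j ζ ^ (a + i))⁻¹ * gP q j ε ζ a i α β := by
  have h1 : ζ ^ (q + 1) = 1 := hζ.pow_eq_one
  have hz0 : ζ ≠ 0 := by
    rintro rfl
    rw [zero_pow (by omega)] at h1
    exact zero_ne_one h1
  have hj0 : j ζ ≠ 0 := (map_ne_zero j).2 hz0
  rw [eq_comm, inv_mul_eq_iff_eq_mul₀ (pow_ne_zero _ hj0), eq_comm]
  have h3 : j ζ ^ (q + 1) = 1 := by rw [← map_pow, h1, map_one]
  rw [gP, gP, ← sum_range_shift (n := q + 1) (fun s => j ζ ^ (i * s) * j (α ^ q + ε * ζ ^ s * β ^ q) ^ a), Finset.mul_sum]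
  · refine Finset.sum_congr rfl fun s _ => ?_
    have h2 : ζ * ((ζ * α) ^ q + ε * ζ ^ s * β ^ q) = α ^ q + ε * ζ ^ (s + 1) * β ^ q := by
      calc ζ * ((ζ * α) ^ q + ε * ζ ^ s * β ^ q) = ζ ^ (q + 1) * α ^ q + ε * ζ ^ (s + 1) * β ^ q := by
            rw [mul_pow]; ring
        _ = _ := by rw [h1, one_mul]
    rw [← h2, map_mul, mul_pow, mul_add, mul_one, pow_add, pow_add]
    ring
  · simp only [mul_zero, pow_zero]
    rw [mul_comm i, pow_mul, h3, one_pow, h1]

theorem sum_zeta (hF : Fintype.card E = q ^ 2) (hζ : IsPrimitiveRoot ζ (q + 1)) {k : ℕ} (hk : q + 1 ∣ k) :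
    ∑ s ∈ Finset.range (q + 1), j ζ ^ (k * s) = 1 := by
  have h3 : j ζ ^ k = 1 := by rw [← map_pow, (hζ.pow_eq_one_iff_dvd k).2 hk, map_one]
  have h4 : ((q : ℕ) : K) = 0 := by
    have h5 : ((q : ℕ) : E) = 0 := by
      have h6 : ((q : ℕ) : E) ^ 2 = 0 := by
        rw [← Nat.cast_pow, ← hF]
        exact FiniteField.cast_card_eq_zero E
      exact pow_eq_zero_iff (two_ne_zero) |>.1 h6
    rw [← map_natCast j, h5, map_zero]
  rw [Finset.sum_congr rfl fun s _ => by rw [pow_mul, h3, one_pow], Finset.sum_const, Finset.card_range, nsmul_eq_mul,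
    Nat.cast_add, h4, mul_one, zero_add, Nat.cast_one]

/-- nonvanishing -/
theorem exists_gP_ne (hF : Fintype.card E = q ^ 2) (hζ : IsPrimitiveRoot ζ (q + 1)) (hε : ε ≠ 0) (ha : a < q ^ 2)
    {i k : ℕ} (hk : ((a.choose k : ℕ) : K) ≠ 0) (hik : q + 1 ∣ i + k) : ∃ β, gP q j ε ζ a i 1 β ≠ 0 := by
  classical
  by_contra hcon
  push Not at hcon
  let P : Polynomial K := ∑ k ∈ Finset.range (a + 1), Polynomial.monomial k
    (((a.choose k : ℕ) : K) * j ε ^ k * ∑ s ∈ Finset.range (q + 1), j ζ ^ ((i + k) * s))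
  have hP : P = 0 := by
    apply Polynomial.eq_zero_of_natDegree_lt_card_of_eval_eq_zero P (f := j) j.injective
    · intro t
      have h1 := hcon (t ^ q)
      rw [gP] at h1
      rw [← h1]
      simp only [P, Polynomial.eval_finsetSum, Polynomial.eval_monomial, pow_q_pow_q hF, one_pow, map_add, map_one]
      have h2 : ∀ s : ℕ, (1 + j (ε * ζ ^ s * t)) ^ a =
          ∑ k ∈ Finset.range (a + 1), j (ε * ζ ^ s * t) ^ k * ((a.choose k : ℕ) : K) := by
        intro s
        rw [add_comm, add_pow]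
        exact Finset.sum_congr rfl fun k _ => by rw [one_pow, mul_one]
      simp only [h2, Finset.mul_sum, Finset.sum_mul]
      rw [Finset.sum_comm]
      refine Finset.sum_congr rfl fun s _ => Finset.sum_congr rfl fun k _ => ?_
      simp only [map_mul, map_pow]
      ring
    · rw [hF]
      refine lt_of_le_of_lt (Polynomial.natDegree_sum_le_of_forall_le (n := a) _ _ fun k hk => ?_) ha
      refine (Polynomial.natDegree_monomial_le _).trans ?_
      rw [Finset.mem_range] at hk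
      omega
  have hka : k ∈ Finset.range (a + 1) := by
    rw [Finset.mem_range]
    by_contra h
    exact hk (by rw [Nat.choose_eq_zero_of_lt (by omega), Nat.cast_zero])
  have h2 := congrArg (fun Q => Polynomial.coeff Q k) hP
  simp only [P, Polynomial.finsetSum_coeff, Polynomial.coeff_monomial, Polynomial.coeff_zero] at h2
  rw [Finset.sum_ite_eq' _ k, if_pos hka, sum_zeta hF hζ hik, mul_one] at h2
  exact mul_ne_zero hk (pow_ne_zero _ ((map_ne_zero j).2 hε)) h2

end

theorem card_le_of_rows {V : Iso q E → κ → K} {S : Type*} [Fintype S] (A : S → κ → K)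
    (hA : LinearIndependent K fun (s : S) (w : Iso q E) => A s ⬝ᵥ V w) : Fintype.card S ≤ Fintype.card κ := by
  let T : (κ → K) →ₗ[K] (Iso q E → K) :=
    { toFun := fun x w => x ⬝ᵥ V w
      map_add' := fun x y => by funext u; simp [add_dotProduct]
      map_smul' := fun c x => by funext u; simp [smul_dotProduct] }
  have h1 : LinearIndependent K (T ∘ A) := hA
  have h2 := (LinearIndependent.of_comp T h1).fintype_card_le_finrank
  rwa [Module.finrank_fintype_fun_eq_card] at h2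

/-- twist of a coordinate -/
def tw (ζ : E) (m : Fin 3) (w : Fin 3 → E) : Fin 3 → E := fun l => if l = m then ζ * w l else w l

theorem herm_tw {ζ : E} (hζ : ζ * ζ ^ q = 1) (m : Fin 3) (w : Fin 3 → E) :
    hermForm 3 E q (tw ζ m w) (tw ζ m w) = hermForm 3 E q w w := by
  rw [herm_def, herm_def]
  refine Finset.sum_congr rfl fun l _ => ?_
  simp only [tw]
  split_ifs
  · rw [mul_pow]
    linear_combination (w l * w l ^ q) * hζ
  · rfl

theorem tw_ne {ζ : E} (hζ : ζ ≠ 0) (m : Fin 3) {w : Fin 3 → E} (hw : w ≠ 0) : tw ζ m w ≠ 0 := by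
  intro h
  apply hw
  funext l
  have := congrFun h l
  simp only [tw, Pi.zero_apply] at this
  split_ifs at this
  · exact (mul_eq_zero.1 this).resolve_left hζ
  · exact this

/-- rows of the coordinate planes -/
def uP (i k : Fin 3) (t : E) : Fin 3 → E := Pi.single i 1 + Pi.single k t

theorem herm_uP (i k : Fin 3) (t : E) (w : Fin 3 → E) : hermForm 3 E q (uP i k t) w = w i ^ q + t * w k ^ q := by
  rw [uP, herm_add_left, herm_single_left, herm_single_left, one_mul]

theorem herm_uP_self {i k : Fin 3} (hik : i ≠ k) {t : E} (ht : t * t ^ q = -1) :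
    hermForm 3 E q (uP i k t) (uP i k t) = 0 := by
  rw [herm_uP, uP]
  simp only [Pi.add_apply, Pi.single_eq_same, Pi.single_eq_of_ne hik, Pi.single_eq_of_ne hik.symm, add_zero, zero_add,
    one_pow, ht]
  ring

theorem uP_ne {i k : Fin 3} (hik : i ≠ k) (t : E) : uP i k t ≠ 0 := by
  intro h
  have := congrFun h i
  simp [uP, hik] at this

theorem exists_gamma (hF : Fintype.card E = q ^ 2) (β : E) : ∃ γ : E, γ * γ ^ q = -1 - β * β ^ q := by
  apply exists_norm_eq hF
  rw [sub_pow_q hF, neg_pow_q hF, one_pow, norm_pow_q hF]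

/-- **three planes** -/
theorem Ker.rank_planes (hF : Fintype.card E = q ^ 2) {j : E →+* K} {a : ℕ} {Φ V : Iso q E → κ → K} (h : Ker q j a Φ V)
    (hq : 5 ≤ q) (ha : a < q ^ 2) (hcov : ∀ i, ∃ k, ((a.choose k : ℕ) : K) ≠ 0 ∧ q + 1 ∣ i + k) :
    13 ≤ Fintype.card κ := by
  classical
  obtain ⟨ζ, hζ⟩ := exists_zeta hF
  obtain ⟨ε, hε⟩ := exists_norm_eq hF (c := (-1 : E)) (by rw [neg_pow_q hF, one_pow])
  have hζ1 : ζ * ζ ^ q = 1 := by rw [← pow_succ']; exact hζ.pow_eq_one
  have hζ0 : ζ ≠ 0 := by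
    rintro rfl
    rw [zero_mul] at hζ1
    exact zero_ne_one hζ1
  have hε0 : ε ≠ 0 := by
    rintro rfl
    rw [zero_mul] at hε
    exact one_ne_zero (neg_eq_zero.1 hε.symm)
  have ht : ∀ s : ℕ, (ε * ζ ^ s) * (ε * ζ ^ s) ^ q = -1 := by
    intro s
    have h1 : (ζ ^ s) * (ζ ^ s) ^ q = 1 := by
      rw [← pow_mul, mul_comm s q, pow_mul, ← mul_pow, hζ1, one_pow]
    rw [mul_pow]
    linear_combination (ζ ^ s * (ζ ^ s) ^ q) * hε - h1
  -- the root of unity in `K`
  have hω : IsPrimitiveRoot (j ζ) (q + 1) := hζ.map_of_injective j.injective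
  -- rows
  let row : (i k : Fin 3) → i ≠ k → ℕ → κ → K := fun i k hik m =>
    ∑ s ∈ Finset.range (q + 1), j ζ ^ (m * s) • Φ ⟨uP i k (ε * ζ ^ s), herm_uP_self hik (ht s), uP_ne hik _⟩
  have hrow : ∀ (i k : Fin 3) (hik : i ≠ k) (m : ℕ) (w : Iso q E),
      row i k hik m ⬝ᵥ V w = gP q j ε ζ a m (w.1 i) (w.1 k) := by
    intro i k hik m w
    simp only [row, gP, sum_dotProduct, smul_dotProduct, h.coef, herm_uP, smul_eq_mul]
  let Tw : Fin 3 → Iso q E → Iso q E := fun m w => ⟨tw ζ m w.1, by rw [herm_tw hζ1]; exact w.2.1, tw_ne hζ0 m w.2.2⟩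
  have hTw : ∀ m w l, (Tw m w).1 l = if l = m then ζ * w.1 l else w.1 l := fun _ _ _ => rfl
  -- two good exponents for the third plane
  obtain ⟨v, hv, hv1, hv2, hv3⟩ : ∃ v : Fin 2 → ℕ, v 0 ≠ v 1 ∧ (∀ x, 1 ≤ v x) ∧ (∀ x, v x ≤ q) ∧
      ∀ x, j ζ ^ (a + v x) ≠ 1 := by
    have hd : ∀ m, j ζ ^ m = 1 ↔ q + 1 ∣ m := fun m => hω.pow_eq_one_iff_dvd m
    have hnd : ∀ x y, x < y → y ≤ x + 2 → q + 1 ∣ a + x → ¬ q + 1 ∣ a + y := by
      intro x y hxy hyx h1 h2
      have h3 := Nat.le_of_dvd (by omega) (Nat.dvd_sub h2 h1)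
      omega
    by_cases h1 : q + 1 ∣ a + 1
    · refine ⟨![2, 3], by simp, ?_, ?_, ?_⟩
      · intro x; fin_cases x <;> simp
      · intro x; fin_cases x <;> simp <;> omega
      · intro x
        fin_cases x
        · exact fun h => hnd 1 2 (by norm_num) (by norm_num) h1 ((hd _).1 h)
        · exact fun h => hnd 1 3 (by norm_num) (by norm_num) h1 ((hd _).1 h)
    · by_cases h2 : q + 1 ∣ a + 2
      · refine ⟨![1, 3], by simp, ?_, ?_, ?_⟩
        · intro x; fin_cases x <;> simp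
        · intro x; fin_cases x <;> simp <;> omega
        · intro x
          fin_cases x
          · exact fun h => h1 ((hd _).1 h)
          · exact fun h => hnd 2 3 (by norm_num) (by norm_num) h2 ((hd _).1 h)
      · refine ⟨![1, 2], by simp, ?_, ?_, ?_⟩
        · intro x; fin_cases x <;> simp
        · intro x; fin_cases x <;> simp <;> omega
        · intro x
          fin_cases x
          · exact fun h => h1 ((hd _).1 h)
          · exact fun h => h2 ((hd _).1 h)
  have h01 : (0 : Fin 3) ≠ 1 := by decide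
  have h02 : (0 : Fin 3) ≠ 2 := by decide
  have h12 : (1 : Fin 3) ≠ 2 := by decide
  let A : Fin 6 ⊕ Fin 5 ⊕ Fin 2 → κ → K := Sum.elim (fun m => row 0 1 h01 m)
    (Sum.elim (fun m => row 0 2 h02 (m + 1)) (fun m => row 1 2 h12 (v m)))
  let χ₁ : Fin 6 ⊕ Fin 5 ⊕ Fin 2 → K := Sum.elim (fun m => j ζ ^ (m : ℕ))
    (Sum.elim (fun _ => 1) (fun m => (j ζ ^ (a + v m))⁻¹))
  let χ₂ : Fin 6 ⊕ Fin 5 ⊕ Fin 2 → K := Sum.elim (fun _ => 1)
    (Sum.elim (fun m => j ζ ^ ((m : ℕ) + 1)) (fun m => j ζ ^ v m))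
  have hcard := card_le_of_rows (V := V) A (indep_of_classes (Tw 1) (Tw 2) _ χ₁ χ₂ ?_ ?_ ?_ ?_)
  · simpa using hcard
  · rintro (m | m | m) w
    · change row 0 1 h01 m ⬝ᵥ V (Tw 1 w) = j ζ ^ (m : ℕ) * (row 0 1 h01 m ⬝ᵥ V w)
      rw [hrow 0 1 h01, hrow 0 1 h01, hTw, hTw, if_neg h01, if_pos rfl, gP_right hζ]
    · change row 0 2 h02 (m + 1) ⬝ᵥ V (Tw 1 w) = 1 * (row 0 2 h02 (m + 1) ⬝ᵥ V w)
      rw [hrow 0 2 h02, hrow 0 2 h02, hTw, hTw, if_neg h01, if_neg h12.symm, one_mul]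
    · change row 1 2 h12 (v m) ⬝ᵥ V (Tw 1 w) = (j ζ ^ (a + v m))⁻¹ * (row 1 2 h12 (v m) ⬝ᵥ V w)
      rw [hrow 1 2 h12, hrow 1 2 h12, hTw, hTw, if_pos rfl, if_neg h12.symm, gP_left hζ]
  · rintro (m | m | m) w
    · change row 0 1 h01 m ⬝ᵥ V (Tw 2 w) = 1 * (row 0 1 h01 m ⬝ᵥ V w)
      rw [hrow 0 1 h01, hrow 0 1 h01, hTw, hTw, if_neg h02, if_neg h12, one_mul]
    · change row 0 2 h02 (m + 1) ⬝ᵥ V (Tw 2 w) = j ζ ^ ((m : ℕ) + 1) * (row 0 2 h02 (m + 1) ⬝ᵥ V w)
      rw [hrow 0 2 h02, hrow 0 2 h02, hTw, hTw, if_neg h02, if_pos rfl, gP_right hζ]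
    · change row 1 2 h12 (v m) ⬝ᵥ V (Tw 2 w) = j ζ ^ (v m) * (row 1 2 h12 (v m) ⬝ᵥ V w)
      rw [hrow 1 2 h12, hrow 1 2 h12, hTw, hTw, if_neg h12, if_pos rfl, gP_right hζ]
  · have key : ∀ i : ℕ, ∃ β, gP q j ε ζ a i 1 β ≠ 0 := by
      intro i
      obtain ⟨k, hk, hik⟩ := hcov i
      exact exists_gP_ne hF hζ hε0 ha hk hik
    rintro (m | m | m) h0
    · obtain ⟨β, hβ⟩ := key m
      obtain ⟨γ, hγ⟩ := exists_gamma hF β
      have h1 := congrFun h0 ⟨![1, β, γ], by
        rw [herm_def, Fin.sum_univ_three]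
        simp [hγ], fun hh => by simpa using congrFun hh 0⟩
      change row 0 1 h01 m ⬝ᵥ V _ = 0 at h1
      rw [hrow 0 1 h01] at h1
      exact hβ h1
    · obtain ⟨β, hβ⟩ := key (m + 1)
      obtain ⟨γ, hγ⟩ := exists_gamma hF β
      have h1 := congrFun h0 ⟨![1, γ, β], by
        rw [herm_def, Fin.sum_univ_three]
        simp [hγ]
        ring, fun hh => by simpa using congrFun hh 0⟩
      change row 0 2 h02 (m + 1) ⬝ᵥ V _ = 0 at h1
      rw [hrow 0 2 h02] at h1
      exact hβ h1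
    · obtain ⟨β, hβ⟩ := key (v m)
      obtain ⟨γ, hγ⟩ := exists_gamma hF β
      have h1 := congrFun h0 ⟨![γ, 1, β], by
        rw [herm_def, Fin.sum_univ_three]
        simp [hγ]
        ring, fun hh => by simpa using congrFun hh 1⟩
      change row 1 2 h12 (v m) ⬝ᵥ V _ = 0 at h1
      rw [hrow 1 2 h12] at h1
      exact hβ h1
  · have hone : ∀ m, m < q + 1 → j ζ ^ m = 1 → m = 0 := by
      intro m hm h1
      exact hω.pow_inj hm (by omega) (by rw [h1, pow_zero])
    have hinv : ∀ x, (j ζ ^ (a + v x))⁻¹ ≠ 1 := fun x hx => hv3 x (inv_eq_one.1 hx)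
    rintro (m | m | m) (m' | m' | m') h1 h2
    · change j ζ ^ (m : ℕ) = j ζ ^ (m' : ℕ) at h1
      have := hω.pow_inj (by omega) (by omega) h1
      rw [Fin.ext this]
    · change (1 : K) = j ζ ^ ((m' : ℕ) + 1) at h2
      have := hone _ (by omega) h2.symm
      omega
    · change (1 : K) = j ζ ^ (v m') at h2
      have := hone _ (by have := hv2 m'; omega) h2.symm
      have := hv1 m'
      omega
    · change j ζ ^ ((m : ℕ) + 1) = (1 : K) at h2
      have := hone _ (by omega) h2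
      omega
    · change j ζ ^ ((m : ℕ) + 1) = j ζ ^ ((m' : ℕ) + 1) at h2
      have := hω.pow_inj (by omega) (by omega) h2
      rw [Fin.ext (by omega : (m : ℕ) = m')]
    · change (1 : K) = (j ζ ^ (a + v m'))⁻¹ at h1
      exact absurd h1.symm (hinv m')
    · change j ζ ^ (v m) = (1 : K) at h2
      have := hone _ (by have := hv2 m; omega) h2
      have := hv1 m
      omega
    · change (j ζ ^ (a + v m))⁻¹ = (1 : K) at h1
      exact absurd h1 (hinv m)
    · change j ζ ^ (v m) = j ζ ^ (v m') at h2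
      have h3 := hω.pow_inj (by have := hv2 m; omega) (by have := hv2 m'; omega) h2
      have h4 : m = m' := by
        fin_cases m <;> fin_cases m'
        · rfl
        · exact absurd h3 hv
        · exact absurd h3.symm hv
        · rfl
      rw [h4]

end Cfsg.Agent.H929.U3
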