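import Cfsg.Agent.H929.UThreeSmall
import Cfsg.Agent.H929.UThreePlanes
import Cfsg.Agent.H929.UThreeDigits

/-!
# Classification of the exponents of rank at most `12` (helper929)
-/

set_option autoImplicit false
set_option linter.unusedSectionVars false

namespace Cfsg.Agent.H929.U3

open Cfsg Cfsg.Agent.LieClassical.HermSiegel Cfsg.Agent.LieClassical.HermBasic Matrix Cfsg.Agent.H906 Dig

variable {E : Type*} [Field E] [Fintype E] {q : ℕ} {K : Type*} [Field K] {κ : Type} [Fintype κ] [DecidableEq κ]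

/-! ### Rotations of the exponent -/

/-- `x ^ a` is the `p ^ e`-th power of `x ^ b` -/
def Rot (E : Type*) [Field E] (p a b : ℕ) : Prop := ∃ e, ∀ x : E, x ^ a = x ^ (p ^ e * b)

theorem Rot.refl (p a : ℕ) : Rot E p a a := ⟨0, fun x => by rw [pow_zero, one_mul]⟩

theorem Rot.trans {p a b c : ℕ} (h : Rot E p a b) (h' : Rot E p b c) : Rot E p a c := by
  obtain ⟨e, he⟩ := h
  obtain ⟨e', he'⟩ := h'
  refine ⟨e + e', fun x => ?_⟩
  rw [he, pow_mul, he', ← pow_mul, pow_add, mul_assoc]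

theorem Rot.mul (p k b : ℕ) : Rot E p (p ^ k * b) b := ⟨k, fun _ => rfl⟩

theorem Rot.swap (hF : Fintype.card E = q ^ 2) {p f : ℕ} (hq : q = p ^ f) (a b : ℕ) : Rot E p (a + q * b) (b + q * a) := by
  refine ⟨f, fun x => ?_⟩
  rw [← hq, mul_add, ← mul_assoc, ← pow_two, pow_add, pow_add, pow_mul x (q ^ 2), ← hF, FiniteField.pow_card, mul_comm]

theorem Rot.rotate (hF : Fintype.card E = q ^ 2) {p f : ℕ} (hq : q = p ^ f) {m u' v' u'' v'' : ℕ} (hm : m ≤ f) :
    Rot E p ((u' + p ^ m * v') + q * (u'' + p ^ m * v'')) ((v' + p ^ (f - m) * u'') + q * (v'' + p ^ (f - m) * u')) := by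
  refine ⟨m, fun x => ?_⟩
  have h1 : p ^ m * p ^ (f - m) = q := by rw [← pow_add, hq, Nat.add_sub_cancel' hm]
  have h2 : p ^ m * ((v' + p ^ (f - m) * u'') + q * (v'' + p ^ (f - m) * u')) =
      (p ^ m * v' + q * (u'' + p ^ m * v'')) + q ^ 2 * u' := by
    calc _ = p ^ m * v' + (p ^ m * p ^ (f - m)) * u'' + q * (p ^ m * v'') + q * (p ^ m * p ^ (f - m)) * u' := by ring
      _ = _ := by rw [h1]; ring
  rw [h2, pow_add x _ (q ^ 2 * u'), pow_mul x (q ^ 2), ← hF, FiniteField.pow_card, ← pow_add]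
  congr 1
  ring

section

variable {p : ℕ} [hp : Fact p.Prime] [CharP E p] [CharP K p]

theorem Ker.rot {j : E →+* K} {a b : ℕ} {Φ V : Iso q E → κ → K} (h : Ker q j a Φ V) (hr : Rot E p a b) :
    ∃ j' : E →+* K, Ker q j' b Φ V := by
  obtain ⟨e, he⟩ := hr
  refine ⟨j.comp (iterateFrobenius E p e), h.congr fun x => ?_⟩
  rw [RingHom.comp_apply, iterateFrobenius_def, ← map_pow, ← map_pow, ← pow_mul, he]

theorem cast_ne_iff {m : ℕ} : ((m : ℕ) : K) ≠ 0 ↔ ¬ p ∣ m := by
  rw [Ne, CharP.cast_eq_zero_iff K p]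

/-! ### The case `a < q` -/

include hp in
theorem Ker.rank_zero' (hF : Fintype.card E = q ^ 2) {f : ℕ} (hq : q = p ^ f) {j : E →+* K} {a : ℕ}
    {Φ V : Iso q E → κ → K} (h : Ker q j a Φ V) (ha0 : 0 < a) (ha : a < q) : 3 * dc p f a ≤ Fintype.card κ + 3 ∧
      ((∃ α l, 0 < α ∧ 0 < l ∧ α + l < a ∧ bx p a α ∧ bx p (a - α) l) → 3 * dc p f a ≤ Fintype.card κ + 2) := by
  classical
  set T := (Finset.range q ×ˢ Finset.range q).filter fun t : ℕ × ℕ =>
      ((a.choose t.1 : K) * ((a - t.1).choose t.2 : K)) ≠ 0 with hT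
  have h0 : T.card ≤ Fintype.card κ := h.rank_zero hF ha
  have hTm : ∀ α l, bx p a α → bx p (a - α) l → (α, l) ∈ T := by
    intro α l h1 h2
    have h3 := bx_le h1
    have h4 := bx_le h2
    rw [hT, Finset.mem_filter, Finset.mem_product, Finset.mem_range, Finset.mem_range]
    refine ⟨⟨by simp only; omega, by simp only; omega⟩, mul_ne_zero ?_ ?_⟩
    · rw [cast_ne_iff (p := p)]
      exact h1
    · rw [cast_ne_iff (p := p)]
      exact h2
  set B := (Finset.range (p ^ f)).filter fun k => bx p a k with hB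
  have hBm : ∀ i, i ∈ B ↔ bx p a i := by
    intro i
    rw [hB, Finset.mem_filter, Finset.mem_range, ← hq]
    refine ⟨fun h => h.2, fun h => ⟨?_, h⟩⟩
    have := bx_le h
    omega
  have hBc : B.card = dc p f a := rfl
  have h0B : 0 ∈ B := (hBm 0).2 (bx_zero a)
  have haB : a ∈ B := (hBm a).2 (bx_self a)
  set S := B.image (fun l => ((0 : ℕ), l)) ∪ ((B.erase 0).image (fun α => (α, (0 : ℕ))) ∪
    ((B.erase 0).erase a).image (fun α => (α, a - α))) with hS
  have hd1 : Disjoint ((B.erase 0).image (fun α => (α, (0 : ℕ)))) (((B.erase 0).erase a).image (fun α => (α, a - α))) := by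
    rw [Finset.disjoint_left]
    intro x hx hx'
    obtain ⟨α, h1, rfl⟩ := Finset.mem_image.1 hx
    obtain ⟨β, h2, h3⟩ := Finset.mem_image.1 hx'
    rw [Prod.mk.injEq] at h3
    rw [Finset.mem_erase, Finset.mem_erase, hBm] at h2
    have := bx_le h2.2.2
    omega
  have hd2 : Disjoint (B.image (fun l => ((0 : ℕ), l))) ((B.erase 0).image (fun α => (α, (0 : ℕ))) ∪
      ((B.erase 0).erase a).image (fun α => (α, a - α))) := by
    rw [Finset.disjoint_left]
    intro x hx hx'
    obtain ⟨α, h1, rfl⟩ := Finset.mem_image.1 hx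
    rcases Finset.mem_union.1 hx' with hx' | hx'
    · obtain ⟨β, h2, h3⟩ := Finset.mem_image.1 hx'
      rw [Prod.mk.injEq] at h3
      exact (Finset.mem_erase.1 h2).1 h3.1
    · obtain ⟨β, h2, h3⟩ := Finset.mem_image.1 hx'
      rw [Prod.mk.injEq] at h3
      exact (Finset.mem_erase.1 (Finset.mem_erase.1 h2).2).1 h3.1
  have hcard : S.card = dc p f a + ((dc p f a - 1) + (dc p f a - 1 - 1)) := by
    rw [hS, Finset.card_union_of_disjoint hd2, Finset.card_union_of_disjoint hd1, Finset.card_image_of_injective,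
      Finset.card_image_of_injective, Finset.card_image_of_injective, Finset.card_erase_of_mem (a := a),
      Finset.card_erase_of_mem h0B, hBc]
    · rw [Finset.mem_erase]
      exact ⟨by omega, haB⟩
    · intro x y hxy
      exact (Prod.mk.inj hxy).1
    · intro x y hxy
      exact (Prod.mk.inj hxy).1
    · intro x y hxy
      exact (Prod.mk.inj hxy).2
  have hsub : S ⊆ T := by
    intro x hx
    rcases Finset.mem_union.1 hx with hx | hx
    · obtain ⟨l, h1, rfl⟩ := Finset.mem_image.1 hx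
      exact hTm _ _ (bx_zero a) (by rw [Nat.sub_zero]; exact (hBm l).1 h1)
    rcases Finset.mem_union.1 hx with hx | hx
    · obtain ⟨l, h1, rfl⟩ := Finset.mem_image.1 hx
      exact hTm _ _ ((hBm l).1 (Finset.mem_of_mem_erase h1)) (bx_zero _)
    · obtain ⟨l, h1, rfl⟩ := Finset.mem_image.1 hx
      exact hTm _ _ ((hBm l).1 (Finset.mem_of_mem_erase (Finset.mem_of_mem_erase h1))) (bx_self _)
  constructor
  · have := Finset.card_le_card hsub
    omega
  · rintro ⟨α, l, h1, h2, h3, h4, h5⟩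
    have h6 : (α, l) ∉ S := by
      intro hx
      rcases Finset.mem_union.1 hx with hx | hx
      · obtain ⟨β, h7, h8⟩ := Finset.mem_image.1 hx
        rw [Prod.mk.injEq] at h8
        omega
      rcases Finset.mem_union.1 hx with hx | hx
      · obtain ⟨β, h7, h8⟩ := Finset.mem_image.1 hx
        rw [Prod.mk.injEq] at h8
        omega
      · obtain ⟨β, h7, h8⟩ := Finset.mem_image.1 hx
        rw [Prod.mk.injEq] at h8
        omega
    have h7 : insert (α, l) S ⊆ T := Finset.insert_subset (hTm _ _ h4 h5) hsub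
    have h8 := Finset.card_le_card h7
    rw [Finset.card_insert_of_notMem h6] at h8
    omega

/-! ### Upper bounds -/

theorem herm_three (u w : Fin 3 → E) :
    hermForm 3 E q u w = u 0 * w 0 ^ q + u 1 * w 1 ^ q + u 2 * w 2 ^ q := by
  rw [herm_def, Fin.sum_univ_three]

theorem Ker.le_one {j : E →+* K} {Φ V : Iso q E → κ → K} (h : Ker q j 1 Φ V) : Fintype.card κ ≤ 3 := by
  have := h.le (S := Fin 3) (fun s u => j (u.1 s)) (fun s w => j (w.1 s ^ q)) (fun u w => by
    rw [herm_three, Fin.sum_univ_three, pow_one]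
    simp only [map_add, map_mul])
  simpa using this

theorem Ker.le_two {j : E →+* K} {Φ V : Iso q E → κ → K} (h : Ker q j 2 Φ V) : Fintype.card κ ≤ 6 := by
  have := h.le (S := Fin 6)
    ![fun u => j (u.1 0) ^ 2, fun u => j (u.1 1) ^ 2, fun u => j (u.1 2) ^ 2, fun u => j (u.1 0) * j (u.1 1),
      fun u => j (u.1 0) * j (u.1 2), fun u => j (u.1 1) * j (u.1 2)]
    ![fun w => (j (w.1 0) ^ q) ^ 2, fun w => (j (w.1 1) ^ q) ^ 2, fun w => (j (w.1 2) ^ q) ^ 2,
      fun w => 2 * (j (w.1 0) ^ q * j (w.1 1) ^ q), fun w => 2 * (j (w.1 0) ^ q * j (w.1 2) ^ q),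
      fun w => 2 * (j (w.1 1) ^ q * j (w.1 2) ^ q)] (fun u w => by
    rw [herm_three]
    simp only [map_add, map_mul, map_pow, Fin.sum_univ_succ, Matrix.cons_val_zero, Matrix.cons_val_succ,
      Finset.univ_eq_empty, Finset.sum_empty]
    ring)
  simpa using this

theorem Ker.le_three {j : E →+* K} {Φ V : Iso q E → κ → K} (h : Ker q j 3 Φ V) : Fintype.card κ ≤ 10 := by
  have := h.le (S := Fin 10)
    ![fun u => j (u.1 0) ^ 3, fun u => j (u.1 1) ^ 3, fun u => j (u.1 2) ^ 3, fun u => j (u.1 0) ^ 2 * j (u.1 1),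
      fun u => j (u.1 0) ^ 2 * j (u.1 2), fun u => j (u.1 1) ^ 2 * j (u.1 2), fun u => j (u.1 0) * j (u.1 1) ^ 2,
      fun u => j (u.1 0) * j (u.1 2) ^ 2, fun u => j (u.1 1) * j (u.1 2) ^ 2,
      fun u => j (u.1 0) * j (u.1 1) * j (u.1 2)]
    ![fun w => (j (w.1 0) ^ q) ^ 3, fun w => (j (w.1 1) ^ q) ^ 3, fun w => (j (w.1 2) ^ q) ^ 3,
      fun w => 3 * ((j (w.1 0) ^ q) ^ 2 * j (w.1 1) ^ q), fun w => 3 * ((j (w.1 0) ^ q) ^ 2 * j (w.1 2) ^ q),
      fun w => 3 * ((j (w.1 1) ^ q) ^ 2 * j (w.1 2) ^ q), fun w => 3 * (j (w.1 0) ^ q * (j (w.1 1) ^ q) ^ 2),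
      fun w => 3 * (j (w.1 0) ^ q * (j (w.1 2) ^ q) ^ 2), fun w => 3 * (j (w.1 1) ^ q * (j (w.1 2) ^ q) ^ 2),
      fun w => 6 * (j (w.1 0) ^ q * j (w.1 1) ^ q * j (w.1 2) ^ q)] (fun u w => by
    rw [herm_three]
    simp only [map_add, map_mul, map_pow, Fin.sum_univ_succ, Matrix.cons_val_zero, Matrix.cons_val_succ,
      Finset.univ_eq_empty, Finset.sum_empty]
    ring)
  simpa using this

include hp in
theorem Ker.le_pair {j : E →+* K} {Φ V : Iso q E → κ → K} {i : ℕ} (h : Ker q j (1 + p ^ i) Φ V) :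
    Fintype.card κ ≤ 9 := by
  have := h.le (S := Fin 3 × Fin 3) (fun s u => j (u.1 s.1) * j (u.1 s.2) ^ p ^ i)
    (fun s w => j (w.1 s.1 ^ q) * j (w.1 s.2 ^ q) ^ p ^ i) (fun u w => by
    have h1 : j (hermForm 3 E q u.1 w.1) = ∑ s, j (u.1 s) * j (w.1 s ^ q) := by
      rw [herm_def, map_sum]
      exact Finset.sum_congr rfl fun s _ => map_mul _ _ _
    rw [pow_add, pow_one, h1, sum_pow_char_pow, Finset.sum_mul_sum, Fintype.sum_prod_type]
    refine Finset.sum_congr rfl fun s _ => Finset.sum_congr rfl fun t _ => ?_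
    simp only
    rw [mul_pow]
    ring)
  simpa using this

/-! ### The Steinberg module -/

theorem Ker.steinberg (hF : Fintype.card E = q ^ 2) {j : E →+* K} {Φ V : Iso q E → κ → K}
    (h : Ker q j (q ^ 2 - 1) Φ V) : q ^ 3 ≤ Fintype.card κ := by
  classical
  obtain ⟨e, he, he0⟩ : ∃ e : Fin 3 → E, hermForm 3 E q e e = 0 ∧ e ≠ 0 := by
    obtain ⟨t, ht⟩ := exists_norm_eq hF (c := (-1 : E)) (by rw [neg_pow_q hF, one_pow])
    refine ⟨![1, t, 0], ?_, fun h0 => by simpa using congrFun h0 0⟩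
    rw [herm_def, Fin.sum_univ_three]
    simp [zero_pow_q hF, ht]
  obtain ⟨e₂, e₃, hfr⟩ := exists_fr hF he he0
  have hq := two_le hF
  have hq2 : q ^ 2 - 1 ≠ 0 := by
    have : 1 < q ^ 2 := Nat.one_lt_pow (by norm_num) (by omega)
    omega
  have hpow : ∀ x : E, x ≠ 0 → j x ^ (q ^ 2 - 1) = 1 := by
    intro x hx
    rw [← map_pow, ← hF, FiniteField.pow_card_sub_one_eq_one x hx, map_one]
  let P : HP q E → Iso q E := fun z => ⟨pt e e₂ e₃ z.1, herm_pt_self hF hfr z, pt_ne_zero hF hfr _⟩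
  have hc := card_le_of_pairing (fun z : HP q E => Φ (P z) - Φ ⟨e, he, he0⟩) (fun z => V (P z)) (by
    intro x hx
    funext s
    have h1 := hx s
    have h2 : ∀ t : HP q E, (Φ (P s) - Φ ⟨e, he, he0⟩) ⬝ᵥ V (P t) = if t = s then -1 else 0 := by
      intro t
      rw [sub_dotProduct, h.coef, h.coef]
      have h3 : hermForm 3 E q e (pt e e₂ e₃ t.1) = 1 := by
        rw [herm_swap hF, herm_pt_left hF hfr, one_pow]
      change j (hermForm 3 E q (pt e e₂ e₃ s.1) (pt e e₂ e₃ t.1)) ^ (q ^ 2 - 1) -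
        j (hermForm 3 E q e (pt e e₂ e₃ t.1)) ^ (q ^ 2 - 1) = _
      rw [h3, map_one, one_pow]
      split_ifs with hts
      · rw [hts, herm_pt_self hF hfr, map_zero, zero_pow hq2, zero_sub]
      · rw [hpow _ (herm_pt_ne hF hfr (Ne.symm hts)), sub_self]
    simp only [h2, ite_mul, zero_mul, neg_mul, one_mul] at h1
    rw [Finset.sum_ite_eq' Finset.univ s, if_pos (Finset.mem_univ _)] at h1
    exact neg_eq_zero.1 h1)
  rwa [← Nat.card_eq_fintype_card (α := HP q E), card_HP hF] at hc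

/-! ### The classification -/

/-- the possible exponents, up to rotation, with the dimension -/
def Good (p f n b : ℕ) : Prop :=
  (b = 1 ∧ n = 3) ∨ (b = 2 ∧ p ≠ 2 ∧ n = 6) ∨ (b = 3 ∧ 5 ≤ p ∧ n = 10) ∨
    (∃ i, 0 < i ∧ i < f ∧ b = 1 + p ^ i ∧ n = 9) ∨ b = 1 + p ^ f

section Classify

variable (hF : Fintype.card E = q ^ 2) {f : ℕ} (hq : q = p ^ f)
include hF hq hp

/-- `a < q` -/
theorem Ker.classify_zero {j : E →+* K} {a : ℕ} {Φ V : Iso q E → κ → K} (h : Ker q j a Φ V) (ha0 : 0 < a) (ha : a < q)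
    (hn : Fintype.card κ ≤ 12) : ∃ b, Rot E p a b ∧ Good p f (Fintype.card κ) b := by
  have hp2 := hp.out.two_le
  have h1 := (h.rank_zero' (p := p) hF hq ha0 ha).1
  obtain ⟨k, c, hac, hcc⟩ := classify ha0 (hq ▸ ha) (by omega : dc p f a ≤ 5)
  have hpk : 1 ≤ p ^ k := Nat.one_le_pow _ _ hp.out.pos
  have hca : c ≤ a := by
    rw [hac]
    exact Nat.le_mul_of_pos_left _ (by omega)
  have hrot : Rot E p a c := by rw [hac]; exact Rot.mul p k c
  obtain ⟨j', h'⟩ := h.rot hrot
  have hf : 0 < f := by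
    rcases Nat.eq_zero_or_pos f with h0 | h0
    · rw [h0, pow_zero] at hq
      omega
    · exact h0
  refine ⟨c, hrot, ?_⟩
  rcases hcc with ⟨hc1, hcp, hc4, hdc⟩ | ⟨i, hi, rfl, hdc⟩
  · have h2 := h'.rank_zero' (p := p) hF hq (by omega) (by omega)
    rw [dc_lt hcp hf] at h2
    have hint : 3 ≤ c → ∃ α l, 0 < α ∧ 0 < l ∧ α + l < c ∧ bx p c α ∧ bx p (c - α) l := by
      intro h3
      exact ⟨1, 1, by omega, by omega, by omega, (bx_small hcp).2 (by omega), (bx_small (by omega)).2 (by omega)⟩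
    interval_cases c
    · exact Or.inl ⟨rfl, le_antisymm h'.le_one (by omega)⟩
    · exact Or.inr (Or.inl ⟨rfl, by omega, le_antisymm h'.le_two (by omega)⟩)
    · have h3 := h2.2 (hint le_rfl)
      refine Or.inr (Or.inr (Or.inl ⟨rfl, ?_, le_antisymm h'.le_three (by omega)⟩))
      by_contra hcon
      obtain rfl : p = 4 := by omega
      exact absurd hp.out (by norm_num)
    · have h3 := h2.2 (hint (by norm_num))
      omega
  · have hif : i < f := by
      by_contra hcon
      push Not at hcon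
      have h3 : p ^ f ≤ p ^ i := Nat.pow_le_pow_right hp.out.pos hcon
      omega
    have h2 := (h'.rank_zero' (p := p) hF hq (by omega) (by omega)).1
    have h3 := dc_pair (p := p) (c := 1) (c' := 1) hi hif (by omega) (by omega)
    rw [mul_one] at h3
    rw [h3] at h2
    exact Or.inr (Or.inr (Or.inr (Or.inl ⟨i, hi, hif, rfl, le_antisymm h'.le_pair (by omega)⟩)))

/-- `a = a' + q a''`, `a' + a'' < q` -/
theorem Ker.classify_two (hq3 : 3 ≤ q) {j : E →+* K} {a' a'' : ℕ} {Φ V : Iso q E → κ → K}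
    (h : Ker q j (a' + q * a'') Φ V) (ha0 : 0 < a' + q * a'') (ha : a' + a'' < q) (hn : Fintype.card κ ≤ 12) :
    ∃ b, Rot E p (a' + q * a'') b ∧ Good p f (Fintype.card κ) b := by
  classical
  have hp2 := hp.out.two_le
  have hf : 0 < f := by
    rcases Nat.eq_zero_or_pos f with h0 | h0
    · rw [h0, pow_zero] at hq
      omega
    · exact h0
  -- one of the parts is zero
  rcases Nat.eq_zero_or_pos a'' with h0'' | h0''
  · subst h0''
    rw [mul_zero, add_zero] at h ha0 ⊢
    exact h.classify_zero hF hq ha0 (by omega) hn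
  rcases Nat.eq_zero_or_pos a' with h0' | h0'
  · subst h0'
    have hrot : Rot E p (0 + q * a'') a'' := by rw [zero_add, hq]; exact Rot.mul p f a''
    obtain ⟨j', h'⟩ := h.rot hrot
    obtain ⟨b, hb, hg⟩ := h'.classify_zero hF hq h0'' (by omega) hn
    exact ⟨b, hrot.trans hb, hg⟩
  -- both parts are positive
  have h1 := h.rank_two hF ha
  have hdc : ∀ a, ((Finset.range q).filter fun i => ((a.choose i : ℕ) : K) ≠ 0).card = dc p f a := by
    intro a
    unfold dc
    rw [← hq]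
    congr 1
    ext i
    rw [Finset.mem_filter, Finset.mem_filter, cast_ne_iff (p := p)]
    rfl
  rw [hdc, hdc] at h1
  have ha' : a' < p ^ f := by omega
  have ha'' : a'' < p ^ f := by omega
  have h2 := two_le_dc h0' ha'
  have h3 := two_le_dc h0'' ha''
  have h4 : dc p f a' * dc p f a'' ≤ 6 := by omega
  have h5 : dc p f a' ≤ 3 := by
    by_contra hcon
    have : 4 * 2 ≤ dc p f a' * dc p f a'' := Nat.mul_le_mul (by omega) h3
    omega
  have h6 : dc p f a'' ≤ 3 := by
    by_contra hcon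
    have : 2 * 4 ≤ dc p f a' * dc p f a'' := Nat.mul_le_mul h2 (by omega)
    omega
  have h7 : ¬ (dc p f a' = 3 ∧ dc p f a'' = 3) := by
    rintro ⟨h7, h8⟩
    rw [h7, h8] at h4
    omega
  obtain ⟨k, c, hkc, hc⟩ := classify h0' ha' (by omega)
  obtain ⟨l, c', hlc, hc'⟩ := classify h0'' ha'' (by omega)
  replace hc : 1 ≤ c ∧ c < p ∧ dc p f a' = c + 1 := by
    rcases hc with hc | ⟨i, -, -, hc⟩
    · exact ⟨hc.1, hc.2.1, hc.2.2.2⟩
    · omega
  replace hc' : 1 ≤ c' ∧ c' < p ∧ dc p f a'' = c' + 1 := by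
    rcases hc' with hc' | ⟨i, -, -, hc'⟩
    · exact ⟨hc'.1, hc'.2.1, hc'.2.2.2⟩
    · omega
  have hkf : k < f := by
    by_contra hcon
    push Not at hcon
    have h8 : p ^ f ≤ p ^ k := Nat.pow_le_pow_right hp.out.pos hcon
    have h9 : p ^ k ≤ a' := by rw [hkc]; exact Nat.le_mul_of_pos_right _ (by omega)
    omega
  have hlf : l < f := by
    by_contra hcon
    push Not at hcon
    have h8 : p ^ f ≤ p ^ l := Nat.pow_le_pow_right hp.out.pos hcon
    have h9 : p ^ l ≤ a'' := by rw [hlc]; exact Nat.le_mul_of_pos_right _ (by omega)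
    omega
  -- the unpaired case
  have key : ∀ i x y : ℕ, 0 < i → i < f → x < p → y < p → 1 ≤ x → 1 ≤ y → Rot E p (a' + q * a'') (x + p ^ i * y) →
      x = 2 ∨ y = 2 ∨ (x = 1 ∧ y = 1) → ∃ b, Rot E p (a' + q * a'') b ∧ Good p f (Fintype.card κ) b := by
    intro i x y hi hif hx hy hx1 hy1 hrot hxy
    obtain ⟨j', h'⟩ := h.rot hrot
    have hlt := pair_lt (p := p) hi hif hx hy
    rcases hxy with hxy | hxy | ⟨rfl, rfl⟩
    · exfalso
      subst hxy
      have h8 := (h'.rank_zero' (p := p) hF hq (by omega) (by omega)).1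
      rw [dc_pair hi hif hx hy] at h8
      have h9 : (2 + 1) * (1 + 1) ≤ (2 + 1) * (y + 1) := Nat.mul_le_mul_left _ (by omega)
      omega
    · exfalso
      subst hxy
      have h8 := (h'.rank_zero' (p := p) hF hq (by omega) (by omega)).1
      rw [dc_pair hi hif hx hy] at h8
      have h9 : (1 + 1) * (2 + 1) ≤ (x + 1) * (2 + 1) := Nat.mul_le_mul_right _ (by omega)
      omega
    · obtain ⟨b, hb, hg⟩ := h'.classify_zero hF hq (by omega) (by omega) hn
      exact ⟨b, hrot.trans hb, hg⟩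
  have hcc : (c = 1 ∧ c' = 1) ∨ (c = 2 ∧ c' = 1) ∨ (c = 1 ∧ c' = 2) := by omega
  rcases lt_trichotomy k l with hkl | hkl | hkl
  · -- `k < l`
    have hrot : Rot E p (a' + q * a'') (c' + p ^ (f - (l - k)) * c) := by
      have e1 : a' + q * a'' = p ^ k * (c + q * (p ^ (l - k) * c')) := by
        have : p ^ l = p ^ k * p ^ (l - k) := by rw [← pow_add, Nat.add_sub_cancel' hkl.le]
        rw [hkc, hlc, this]
        ring
      have e2 : Rot E p (c + q * (p ^ (l - k) * c')) (0 + q * (c' + p ^ (f - (l - k)) * c)) := by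
        have := Rot.rotate (E := E) hF hq (m := l - k) (u' := c) (v' := 0) (u'' := 0) (v'' := c') (by omega)
        simpa using this
      have e3 : Rot E p (0 + q * (c' + p ^ (f - (l - k)) * c)) (c' + p ^ (f - (l - k)) * c) := by
        rw [zero_add, hq]
        exact Rot.mul p f _
      rw [e1]
      exact ((Rot.mul p k _).trans e2).trans e3
    exact key _ c' c (by omega) (by omega) hc'.2.1 hc.2.1 hc'.1 hc.1 hrot (by omega)
  · -- `k = l`
    subst hkl
    have hrot : Rot E p (a' + q * a'') (c + q * c') := by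
      have e1 : a' + q * a'' = p ^ k * (c + q * c') := by rw [hkc, hlc]; ring
      rw [e1]
      exact Rot.mul p k _
    rcases hcc with ⟨rfl, rfl⟩ | ⟨rfl, rfl⟩ | ⟨rfl, rfl⟩
    · refine ⟨1 + q * 1, hrot, ?_⟩
      rw [mul_one, hq]
      exact Or.inr (Or.inr (Or.inr (Or.inr rfl)))
    · exfalso
      obtain ⟨j', h'⟩ := h.rot hrot
      have h8 : (2 : K) ≠ 0 := by
        have := (cast_ne_iff (K := K) (p := p) (m := 2)).2 (fun hd => by
          have := Nat.le_of_dvd (by norm_num) hd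
          omega)
        simpa using this
      have h9 : 1 ≤ p ^ k := Nat.one_le_pow _ _ hp.out.pos
      have := h'.rank_21 hF (by omega) h8
      omega
    · exfalso
      obtain ⟨j', h'⟩ := h.rot (hrot.trans (Rot.swap hF hq 1 2))
      have h8 : (2 : K) ≠ 0 := by
        have := (cast_ne_iff (K := K) (p := p) (m := 2)).2 (fun hd => by
          have := Nat.le_of_dvd (by norm_num) hd
          omega)
        simpa using this
      have h9 : 1 ≤ p ^ k := Nat.one_le_pow _ _ hp.out.pos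
      have := h'.rank_21 hF (by omega) h8
      omega
  · -- `l < k`
    have hrot : Rot E p (a' + q * a'') (c + p ^ (f - (k - l)) * c') := by
      have e1 : a' + q * a'' = p ^ l * (p ^ (k - l) * c + q * c') := by
        have : p ^ k = p ^ l * p ^ (k - l) := by rw [← pow_add, Nat.add_sub_cancel' hkl.le]
        rw [hkc, hlc, this]
        ring
      have e2 : Rot E p (p ^ (k - l) * c + q * c') (c + p ^ (f - (k - l)) * c') := by
        have := Rot.rotate (E := E) hF hq (m := k - l) (u' := 0) (v' := c) (u'' := c') (v'' := 0) (by omega)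
        simpa using this
      rw [e1]
      exact (Rot.mul p l _).trans e2
    exact key _ c c' (by omega) (by omega) hc.2.1 hc'.2.1 hc.1 hc'.1 hrot (by omega)

omit [CharP E p] in
/-- every residue is covered -/
theorem exists_cover_res {a' a'' : ℕ} (ha' : a' < q) (ha'' : a'' < q) (hs : ∀ k < f, p ≤ a' / p ^ k % p + a'' / p ^ k % p + 1)
    (hsum : q ≤ a' + a'') (i : ℕ) : ∃ k, (((a' + q * a'').choose k : ℕ) : K) ≠ 0 ∧ q + 1 ∣ i + k := by
  have hm : (a'' + q * i) % (q + 1) < q + 1 := Nat.mod_lt _ (by omega)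
  obtain ⟨x, y, hxy, hx, hy⟩ := cover (p := p) (hq ▸ ha') (hq ▸ ha'') hs (m := (a'' + q * i) % (q + 1)) (by omega)
  refine ⟨x + q * (a'' - y), ?_, ?_⟩
  · rw [cast_ne_iff (p := p), hq]
    have hxle := bx_le hx
    exact bx_add (by omega) (by omega) hx (bx_sub hy)
  · have hyle := bx_le hy
    obtain ⟨t, ht⟩ : ∃ t, a'' = t + y := ⟨a'' - y, by omega⟩
    rw [ht, Nat.add_sub_cancel]
    have h1 : ((q : ℤ) + 1) ∣ (i : ℤ) + (x + q * t) := by
      have h2 : (((a'' + q * i) % (q + 1) : ℕ) : ℤ) = (a'' + q * i) % (q + 1) := by push_cast; rfl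
      have h3 := Int.emod_add_mul_ediv ((a'' : ℤ) + q * i) (q + 1)
      rw [← h2, ← hxy, ht] at h3
      push_cast at h3
      refine ⟨t + i - ((t : ℤ) + y + q * i) / (q + 1), ?_⟩
      linear_combination h3
    exact_mod_cast h1

/-- **classification** -/
theorem Ker.classify (hq3 : 3 ≤ q) {j : E →+* K} {a : ℕ} {Φ V : Iso q E → κ → K} (h : Ker q j a Φ V) (ha0 : 0 < a)
    (ha : a ≤ q ^ 2 - 1) (hn : Fintype.card κ ≤ 12) : ∃ b, Rot E p a b ∧ Good p f (Fintype.card κ) b := by
  have hq2 : 0 < q ^ 2 := by positivity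
  obtain ⟨a', a'', rfl, ha', ha''⟩ : ∃ a' a'', a = a' + q * a'' ∧ a' < q ∧ a'' < q := by
    refine ⟨a % q, a / q, (Nat.mod_add_div _ _).symm, Nat.mod_lt _ (by omega), ?_⟩
    rw [Nat.div_lt_iff_lt_mul (by omega), ← pow_two]
    omega
  by_cases hsum : a' + a'' < q
  · exact h.classify_two hF hq hq3 ha0 hsum hn
  push Not at hsum
  by_cases hs : ∀ k < f, p ≤ a' / p ^ k % p + a'' / p ^ k % p + 1
  · exfalso
    have hcov := exists_cover_res (K := K) (p := p) hF hq ha' ha'' hs hsum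
    have hst : ¬ (a' = q - 1 ∧ a'' = q - 1) := by
      rintro ⟨rfl, rfl⟩
      have h1 : q - 1 + q * (q - 1) = q ^ 2 - 1 := by
        obtain ⟨r, rfl⟩ : ∃ r, q = r + 1 := ⟨q - 1, by omega⟩
        rw [Nat.add_sub_cancel]
        have : (r + 1) ^ 2 = r + (r + 1) * r + 1 := by ring
        rw [this, Nat.add_sub_cancel]
      rw [h1] at h
      have h2 := h.steinberg hF
      have h3 : 3 ^ 3 ≤ q ^ 3 := Nat.pow_le_pow_left hq3 3
      omega
    by_cases hq5 : 5 ≤ q
    · have := h.rank_planes hF hq5 (by omega) hcov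
      omega
    · obtain rfl | rfl : q = 3 ∨ q = 4 := by omega
      · obtain rfl : p = 3 := by
          have h1 : p ∣ 3 ^ 1 := by
            rw [pow_one, hq]
            refine dvd_pow_self p ?_
            rintro rfl
            norm_num at hq
          exact (Nat.prime_dvd_prime_iff_eq hp.out Nat.prime_three).1 (hp.out.dvd_of_dvd_pow h1)
        have h8 : (2 : K) ≠ 0 := by
          have := (cast_ne_iff (K := K) (p := 3) (m := 2)).2 (by norm_num)
          simpa using this
        have h9 : (a' = 2 ∧ a'' = 1) ∨ (a' = 1 ∧ a'' = 2) := by omega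
        rcases h9 with ⟨rfl, rfl⟩ | ⟨rfl, rfl⟩
        · have := h.rank_q3 hF h8
          omega
        · obtain ⟨j', h'⟩ := h.rot (Rot.swap hF hq 1 2)
          have := h'.rank_q3 hF h8
          omega
      · obtain rfl : p = 2 := by
          have h1 : p ∣ 2 ^ 2 := by
            norm_num
            rw [hq]
            refine dvd_pow_self p ?_
            rintro rfl
            norm_num at hq
          exact (Nat.prime_dvd_prime_iff_eq hp.out Nat.prime_two).1 (hp.out.dvd_of_dvd_pow h1)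
        obtain rfl : f = 2 := by
          have h1 : 2 ^ 2 = 2 ^ f := by rw [← hq]; norm_num
          exact (Nat.pow_right_injective le_rfl h1).symm
        have h8 : (2 : K) = 0 := by
          have := CharP.cast_eq_zero K 2
          simpa using this
        have hx16 : ∀ x : E, x ^ 16 = x := by
          intro x
          have := FiniteField.pow_card x
          rwa [hF] at this
        have e0 := hs 0 (by norm_num)
        have e1 := hs 1 (by norm_num)
        norm_num at e0 e1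
        have h9 : (a' = 3 ∧ a'' = 1) ∨ (a' = 1 ∧ a'' = 3) ∨ (a' = 3 ∧ a'' = 2) ∨ (a' = 2 ∧ a'' = 3) := by omega
        rcases h9 with ⟨rfl, rfl⟩ | ⟨rfl, rfl⟩ | ⟨rfl, rfl⟩ | ⟨rfl, rfl⟩
        · have := h.rank_q4 hF h8
          omega
        · obtain ⟨j', h'⟩ := h.rot (Rot.swap hF hq 1 3)
          have := h'.rank_q4 hF h8
          omega
        · have hrot : Rot E 2 (3 + 4 * 2) (3 + 4 * 1) := by
            refine ⟨3, fun x => ?_⟩
            calc x ^ (3 + 4 * 2) = x ^ 3 * x ^ 8 := by ring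
              _ = (x ^ 16) ^ 3 * x ^ 8 := by rw [hx16]
              _ = _ := by ring
          obtain ⟨j', h'⟩ := h.rot hrot
          have := h'.rank_q4 hF h8
          omega
        · have hrot : Rot E 2 (2 + 4 * 3) (3 + 4 * 1) := ⟨1, fun x => by norm_num⟩
          obtain ⟨j', h'⟩ := h.rot hrot
          have := h'.rank_q4 hF h8
          omega
  · push Not at hs
    obtain ⟨k, hk, hs⟩ := hs
    obtain ⟨m, u', v', u'', v'', hm, h1, h2, h3⟩ := rotate (p := p) (hq ▸ ha') (hq ▸ ha'') hk (by omega)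
    have hrot : Rot E p (a' + q * a'') ((v' + p ^ (f - m) * u'') + q * (v'' + p ^ (f - m) * u')) := by
      rw [h1, h2]
      exact Rot.rotate hF hq hm
    obtain ⟨j', h'⟩ := h.rot hrot
    have hpos : 0 < (v' + p ^ (f - m) * u'') + q * (v'' + p ^ (f - m) * u') := by
      by_contra hcon
      have h4 : (v' + p ^ (f - m) * u'') + q * (v'' + p ^ (f - m) * u') = 0 := by omega
      rw [Nat.add_eq_zero_iff, Nat.add_eq_zero_iff, Nat.mul_eq_zero, Nat.mul_eq_zero, Nat.add_eq_zero_iff,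
        Nat.mul_eq_zero] at h4
      have h5 : p ^ (f - m) ≠ 0 := pow_ne_zero _ hp.out.pos.ne'
      obtain ⟨⟨h6, h7⟩, h8⟩ := h4
      have h9 := h7.resolve_left h5
      have h10 := h8.resolve_left (by omega)
      have h11 := h10.2.resolve_left h5
      rw [h6, h11] at h1
      rw [h10.1, h9] at h2
      rw [h1, h2] at hsum
      simp at hsum
      omega
    obtain ⟨b, hb, hg⟩ := h'.classify_two hF hq hq3 hpos (by omega) hn
    exact ⟨b, hrot.trans hb, hg⟩

end Classify

end

end Cfsg.Agent.H929.U3
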