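import Cfsg.Agent.H929.UThreeGeo
import Cfsg.Agent.H906.RankOne
import Cfsg.Agent.Lib.PGroupFixedVector

/-!
# Irreducible modules of `SU_3(q)` in the defining characteristic (helper929)

`M : SU_3(E) → M_κ(K)` spanning the full matrix algebra, `2 ≤ |κ| < q^3`, `K` algebraically closed of characteristic
`p`, `j : E → K`. There are `1 ≤ a ≤ q^2 - 1`, `φ`, `v` with `φ (M g⁻¹ v) = j (h(g e, e)) ^ a`.
-/

set_option autoImplicit false
set_option linter.unusedSectionVars false

namespace Cfsg.Agent.H929.U3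

open Cfsg Cfsg.Agent.LieClassical.HermSiegel Cfsg.Agent.LieClassical.HermBasic Matrix Cfsg.Agent.H906

variable {E : Type*} [Field E] [Fintype E] {q : ℕ} {K : Type*} [Field K] {κ : Type} [Fintype κ] [DecidableEq κ]

/-- `φ` is a functional on which the stabiliser of the line of `e` acts by the `a`-th power. -/
def IsWt (j : E →+* K) (M : SU 3 E q →* Matrix κ κ K) (e : Fin 3 → E) (a : ℕ) (φ : κ → K) : Prop :=
  φ ≠ 0 ∧ ∀ (g : SU 3 E q) (t : E), t ≠ 0 → act g e = t • e → contra M g *ᵥ φ = j t ^ a • φ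

theorem contra_contra (M : SU 3 E q →* Matrix κ κ K) : contra (contra M) = M := by
  ext g i k
  rw [contra_apply, contra_apply, Matrix.transpose_transpose, inv_inv]

/-- fixed vectors of a `p`-group, algebraically closed field -/
theorem exists_fixed' {G : Type*} [Group G] (p : ℕ) [Fact p.Prime] [CharP K p] (ρ : G →* Matrix κ κ K)
    {S : Subgroup G} [Finite S] (hS : IsPGroup p S) (W : Submodule K (κ → K)) (hW : W ≠ ⊥)
    (hinv : ∀ s ∈ S, ∀ v ∈ W, ρ s *ᵥ v ∈ W) : ∃ v ∈ W, v ≠ 0 ∧ v ∈ fixSub ρ S := by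
  let R : Representation K S (κ → K) :=
    { toFun := fun s => Matrix.toLin' (ρ s)
      map_one' := by simp; rfl
      map_mul' := fun a b => by simp; rfl }
  obtain ⟨v, hv, hv0, hv1⟩ := Cfsg.Agent.Lib.PGroupFixedVector.exists_mem_ne_zero_fixed_rep hS R W
    (fun g v hv => hinv g g.2 v hv) hW
  exact ⟨v, hv, hv0, fun s hs => hv1 ⟨s, hs⟩⟩

section Wt

variable (hF : Fintype.card E = q ^ 2) (p : ℕ) [Fact p.Prime] [CharP E p] [CharP K p] (j : E →+* K)
  {M : SU 3 E q →* Matrix κ κ K} {e : Fin 3 → E} (he : hermForm 3 E q e e = 0) (he0 : e ≠ 0)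

include hF he he0 p in
/-- existence of a weight -/
theorem exists_wt [IsAlgClosed K] [Nonempty κ] : ∃ a, 1 ≤ a ∧ a ≤ q ^ 2 - 1 ∧ ∃ φ, IsWt j M e a φ := by
  classical
  have hfin : Finite (SU 3 E q) := inferInstance
  have hq := two_le hF
  have hq2 : 1 < q ^ 2 := Nat.one_lt_pow (by norm_num) (by omega)
  -- the fixed functionals
  set N := fixSub (contra M) (Stab q e) with hN
  have hN0 : N ≠ ⊥ := by
    obtain ⟨v, -, hv0, hv⟩ := exists_fixed' p (contra M) (isPGroup_Stab (p := p) hF he he0) ⊤ (by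
      intro h
      obtain ⟨i⟩ := (inferInstance : Nonempty κ)
      have h1 : (Pi.single i (1 : K) : κ → K) ∈ (⊥ : Submodule K (κ → K)) := h ▸ Submodule.mem_top
      rw [Submodule.mem_bot] at h1
      have := congrFun h1 i
      simp at this) (fun _ _ _ _ => trivial)
    intro h
    rw [h] at hN
    exact hv0 ((Submodule.mem_bot K).1 (hN ▸ hv))
  -- a generator of the multiplicative group
  obtain ⟨t₀, ht₀⟩ := IsCyclic.exists_generator (α := Eˣ)
  have ht0e : hermForm 3 E q ((t₀ : E) • e) ((t₀ : E) • e) = 0 := by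
    rw [herm_smul_left, herm_smul_right, he, mul_zero, mul_zero]
  obtain ⟨g₀, hg₀⟩ := exists_act hF he he0 ht0e (smul_ne_zero t₀.ne_zero he0)
  -- `g₀` acts on `N`
  have hact : ∀ v ∈ N, contra M g₀ *ᵥ v ∈ N := by
    intro v hv
    apply fixSub_invariant _ _ hv
    intro s hs
    rw [mem_Stab] at hs ⊢
    rw [act_mul, act_mul, hg₀, act_smul, hs, ← hg₀, act_inv_act]
  let L : N →ₗ[K] N := (Matrix.toLin' (contra M g₀)).restrict (p := N) (q := N) (by
    intro v hv
    rw [Matrix.toLin'_apply]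
    exact hact v hv)
  have hNn : Nontrivial N := Submodule.nontrivial_iff_ne_bot.2 hN0
  obtain ⟨c, hc⟩ := Module.End.exists_eigenvalue L
  obtain ⟨φ, hφ⟩ := hc.exists_hasEigenvector
  have hφ0 : (φ : κ → K) ≠ 0 := fun h => hφ.2 (Subtype.ext h)
  have hφ1 : contra M g₀ *ᵥ (φ : κ → K) = c • (φ : κ → K) := by
    have h1 := congrArg Subtype.val hφ.apply_eq_smul
    exact h1
  have hpow : ∀ k : ℕ, contra M (g₀ ^ k) *ᵥ (φ : κ → K) = c ^ k • (φ : κ → K) := by
    intro k
    induction k with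
    | zero => rw [pow_zero, map_one, Matrix.one_mulVec, pow_zero, one_smul]
    | succ k ih => rw [pow_succ, rho_mul, hφ1, Matrix.mulVec_smul, ih, smul_smul, pow_succ, mul_comm]
  have hgpow : ∀ k : ℕ, act (g₀ ^ k) e = (t₀ : E) ^ k • e := by
    intro k
    induction k with
    | zero => rw [pow_zero, act_one, pow_zero, one_smul]
    | succ k ih => rw [pow_succ, act_mul, hg₀, act_smul, ih, smul_smul, pow_succ, mul_comm]
  have hfix : ∀ u ∈ Stab q e, contra M u *ᵥ (φ : κ → K) = φ := fun u hu => φ.2 u hu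
  have hgen : ∀ (g : SU 3 E q) (k : ℕ), act g e = (t₀ : E) ^ k • e → contra M g *ᵥ (φ : κ → K) = c ^ k • (φ : κ → K) := by
    intro g k hg
    have h1 : (g₀ ^ k)⁻¹ * g ∈ Stab q e := by
      rw [mem_Stab, act_mul, hg, ← hgpow, act_inv_act]
    have h2 : g = g₀ ^ k * ((g₀ ^ k)⁻¹ * g) := by group
    rw [h2, rho_mul, hfix _ h1, hpow]
  -- the eigenvalue
  have hcard : Fintype.card Eˣ = q ^ 2 - 1 := by rw [Fintype.card_units, hF]
  have hcq : c ^ (q ^ 2 - 1) = 1 := by
    have h1 : contra M (1 : SU 3 E q) *ᵥ (φ : κ → K) = c ^ (q ^ 2 - 1) • (φ : κ → K) := by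
      apply hgen
      rw [act_one, ← hcard, ← Units.val_pow_eq_pow_val, pow_card_eq_one, Units.val_one, one_smul]
    rw [map_one, Matrix.one_mulVec] at h1
    have h2 : (c ^ (q ^ 2 - 1) - 1) • (φ : κ → K) = 0 := by rw [sub_smul, one_smul, ← h1, sub_self]
    rcases smul_eq_zero.1 h2 with h | h
    · exact sub_eq_zero.1 h
    · exact absurd h hφ0
  have hprim : IsPrimitiveRoot (j (t₀ : E)) (q ^ 2 - 1) := by
    have h1 : IsPrimitiveRoot (t₀ : E) (q ^ 2 - 1) := by
      rw [IsPrimitiveRoot.coe_units_iff, ← hcard]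
      have := IsPrimitiveRoot.orderOf t₀
      rwa [orderOf_eq_card_of_forall_mem_zpowers ht₀, Nat.card_eq_fintype_card] at this
    exact h1.map_of_injective j.injective
  have hne : NeZero (q ^ 2 - 1) := ⟨by omega⟩
  obtain ⟨i, hi, hic⟩ := hprim.eq_pow_of_pow_eq_one hcq
  -- the exponent in `[1, q^2 - 1]`
  obtain ⟨a, ha1, ha2, hac⟩ : ∃ a, 1 ≤ a ∧ a ≤ q ^ 2 - 1 ∧ j (t₀ : E) ^ a = c := by
    by_cases h0 : i = 0
    · subst h0
      refine ⟨q ^ 2 - 1, by omega, le_rfl, ?_⟩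
      rw [hprim.pow_eq_one, ← hic, pow_zero]
    · exact ⟨i, by omega, hi.le, hic⟩
  refine ⟨a, ha1, ha2, φ, hφ0, ?_⟩
  intro g t ht hgt
  have h1 : Units.mk0 t ht ∈ Submonoid.powers t₀ := by
    rw [mem_powers_iff_mem_zpowers]
    exact ht₀ _
  obtain ⟨k, hk⟩ := h1
  have hk' : (t₀ : E) ^ k = t := by
    have := congrArg Units.val hk
    simpa using this
  rw [hgen g k (by rw [hk', hgt]), ← hac, ← hk', map_pow, ← pow_mul, ← pow_mul, mul_comm]


end Wt

/-! ### Points of the Hermitian curve -/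

theorem card_fiber (hF : Fintype.card E = q ^ 2) {c : E} (hc : c ^ q = c) :
    Nat.card {y : E // y + y ^ q = c} = q := by
  classical
  let T : E →+ E := { toFun := fun y => y + y ^ q, map_zero' := by rw [zero_pow_q hF, add_zero],
                      map_add' := fun a b => by rw [add_pow_q hF]; ring }
  have hT : ∀ y, T y = y + y ^ q := fun y => rfl
  have hrange : Nat.card T.range = q := by
    rw [← card_fixed hF]
    apply Nat.card_congr
    refine Equiv.subtypeEquivRight fun x => ?_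
    constructor
    · rintro ⟨y, rfl⟩
      exact trace_pow_q hF y
    · intro hx
      obtain ⟨y, hy⟩ := exists_trace_eq hF hx
      exact ⟨y, hy⟩
  have hq := two_le hF
  have hker : Nat.card T.ker = q := by
    have h1 := AddSubgroup.card_eq_card_quotient_mul_card_addSubgroup T.ker
    have h2 : Nat.card (E ⧸ T.ker) = q := by
      rw [← hrange]
      exact Nat.card_congr (QuotientAddGroup.quotientKerEquivRange T).toEquiv
    rw [h2, Nat.card_eq_fintype_card, hF, pow_two] at h1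
    exact (Nat.eq_of_mul_eq_mul_left (by omega) h1).symm
  obtain ⟨y₀, hy₀⟩ := exists_trace_eq hF hc
  refine Eq.trans (Nat.card_congr ?_) hker
  exact
    { toFun := fun y => ⟨y.1 - y₀, by
        rw [AddMonoidHom.mem_ker, map_sub, hT, hT, y.2, hy₀, sub_self]⟩
      invFun := fun z => ⟨z.1 + y₀, by
        have h1 : T z.1 = 0 := z.2
        rw [← hT, map_add, h1, hT, hy₀, zero_add]⟩
      left_inv := fun y => by ext; simp
      right_inv := fun z => by ext; simp }

/-- points of the affine Hermitian curve -/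
abbrev HP (q : ℕ) (E : Type*) [Field E] := {z : E × E // z.2 + z.2 ^ q + z.1 * z.1 ^ q = 0}

theorem neg_norm_fixed (hF : Fintype.card E = q ^ 2) (x : E) : (-(x * x ^ q)) ^ q = -(x * x ^ q) := by
  rw [neg_pow_q hF, norm_pow_q hF]

theorem card_HP (hF : Fintype.card E = q ^ 2) : Nat.card (HP q E) = q ^ 3 := by
  classical
  have h1 : Nat.card (HP q E) = Nat.card (Σ x : E, {y : E // y + y ^ q = -(x * x ^ q)}) := by
    apply Nat.card_congr
    exact
      { toFun := fun z => ⟨z.1.1, z.1.2, by linear_combination z.2⟩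
        invFun := fun w => ⟨(w.1, w.2.1), by linear_combination w.2.2⟩
        left_inv := fun z => rfl
        right_inv := fun w => rfl }
  rw [h1, Nat.card_sigma]
  rw [Finset.sum_congr rfl fun x _ => card_fiber hF (neg_norm_fixed hF x), Finset.sum_const, Finset.card_univ, hF,
    smul_eq_mul]
  ring

/-! ### The coefficient formula -/

theorem dot_contra (M : SU 3 E q →* Matrix κ κ K) (g : SU 3 E q) (φ v : κ → K) :
    (contra M g *ᵥ φ) ⬝ᵥ v = φ ⬝ᵥ (M g⁻¹ *ᵥ v) := by
  rw [contra_apply, Matrix.mulVec_transpose, Matrix.dotProduct_mulVec]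

/-- the point `(x, y)` of the Hermitian curve as a vector of a frame -/
def pt (e₁ e₂ e₃ : Fin 3 → E) (z : E × E) : Fin 3 → E := z.2 • e₁ + z.1 • e₂ + (1 : E) • e₃

theorem herm_pt (hF : Fintype.card E = q ^ 2) {e₁ e₂ e₃ : Fin 3 → E} (h : Fr q e₁ e₂ e₃) (z w : E × E) :
    hermForm 3 E q (pt e₁ e₂ e₃ z) (pt e₁ e₂ e₃ w) = z.2 + z.1 * w.1 ^ q + w.2 ^ q := by
  rw [pt, pt, h.herm_comb hF, one_pow, mul_one, one_mul]

theorem herm_pt_self (hF : Fintype.card E = q ^ 2) {e₁ e₂ e₃ : Fin 3 → E} (h : Fr q e₁ e₂ e₃) (z : HP q E) :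
    hermForm 3 E q (pt e₁ e₂ e₃ z.1) (pt e₁ e₂ e₃ z.1) = 0 := by
  rw [herm_pt hF h]
  linear_combination z.2

theorem herm_pt_left (hF : Fintype.card E = q ^ 2) {e₁ e₂ e₃ : Fin 3 → E} (h : Fr q e₁ e₂ e₃) (z : E × E) :
    hermForm 3 E q (pt e₁ e₂ e₃ z) e₁ = 1 := by
  have h1 := h.herm_comb hF z.2 z.1 1 1 0 0
  simp only [one_smul, zero_smul, add_zero, one_pow, zero_pow_q hF, mul_zero, mul_one, zero_add] at h1
  rw [pt, one_smul]
  exact h1

theorem pt_ne_zero (hF : Fintype.card E = q ^ 2) {e₁ e₂ e₃ : Fin 3 → E} (h : Fr q e₁ e₂ e₃) (z : E × E) :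
    pt e₁ e₂ e₃ z ≠ 0 := h.comb_ne_zero hF one_ne_zero

theorem herm_pt_ne (hF : Fintype.card E = q ^ 2) {e₁ e₂ e₃ : Fin 3 → E} (h : Fr q e₁ e₂ e₃) {z w : HP q E}
    (hzw : z ≠ w) : hermForm 3 E q (pt e₁ e₂ e₃ z.1) (pt e₁ e₂ e₃ w.1) ≠ 0 := by
  intro h0
  obtain ⟨t, ht⟩ := eq_smul_of_orth hF (herm_pt_self hF h w) (pt_ne_zero hF h _) (herm_pt_self hF h z) h0
  have h1 := herm_pt_left hF h z.1
  rw [ht, herm_smul_left, herm_pt_left hF h, mul_one] at h1
  subst h1
  rw [one_smul] at ht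
  apply hzw
  have h2 : ∀ a b c : E, hermForm 3 E q (pt e₁ e₂ e₃ z.1) (a • e₁ + b • e₂ + c • e₃) =
      hermForm 3 E q (pt e₁ e₂ e₃ w.1) (a • e₁ + b • e₂ + c • e₃) := fun a b c => by rw [ht]
  have h3 := h2 0 0 1
  have h4 := h2 0 1 0
  rw [pt, pt, h.herm_comb hF, h.herm_comb hF] at h3 h4
  simp only [one_pow, zero_pow_q hF, mul_zero, mul_one, add_zero, zero_add] at h3 h4
  exact Subtype.ext (Prod.ext h4 h3)

section Coef

variable {j : E →+* K} {M : SU 3 E q →* Matrix κ κ K} {e : Fin 3 → E}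

theorem IsWt.fix {a : ℕ} {φ : κ → K} (h : IsWt j M e a φ) : φ ∈ fixSub (contra M) (Stab q e) := by
  intro u hu
  have h1 := h.2 u 1 one_ne_zero (by rw [one_smul]; exact hu)
  rwa [map_one, one_pow, one_smul] at h1

/-- translation of the arguments -/
theorem dot_stab {φ v : κ → K} (hφ : φ ∈ fixSub (contra M) (Stab q e)) (hv : v ∈ fixSub M (Stab q e))
    {u w : SU 3 E q} (hu : u ∈ Stab q e) (hw : w ∈ Stab q e) (g : SU 3 E q) :
    φ ⬝ᵥ (M (u * g * w)⁻¹ *ᵥ v) = φ ⬝ᵥ (M g⁻¹ *ᵥ v) := by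
  have h1 : (u * g * w)⁻¹ = w⁻¹ * g⁻¹ * u⁻¹ := by group
  rw [h1, map_mul, map_mul, ← Matrix.mulVec_mulVec, ← Matrix.mulVec_mulVec, hv _ (inv_mem hu), ← dot_contra, hφ _ hw]

theorem coef_big (hF : Fintype.card E = q ^ 2) (he : hermForm 3 E q e e = 0) (he0 : e ≠ 0) {a : ℕ} {φ : κ → K}
    (h : IsWt j M e a φ) {v : κ → K} (hv : v ∈ fixSub M (Stab q e)) :
    ∃ c : K, ∀ g : SU 3 E q, hermForm 3 E q (act g e) e ≠ 0 →
      φ ⬝ᵥ (M g⁻¹ *ᵥ v) = c * j (hermForm 3 E q (act g e) e) ^ a := by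
  obtain ⟨e₂, e₃, hfr⟩ := exists_fr hF he he0
  have he3 : e₃ ≠ 0 := by
    rintro rfl
    have := hfr.h13
    rw [herm_zero_right hF] at this
    exact zero_ne_one this
  obtain ⟨g₁, hg₁⟩ := exists_act hF he he0 hfr.h33 he3
  refine ⟨φ ⬝ᵥ (M g₁⁻¹ *ᵥ v), fun g hg => ?_⟩
  set s := hermForm 3 E q (act g e) e with hs
  have h1 : hermForm 3 E q (s • e₃) e = s := by rw [herm_smul_left, hfr.h31 hF, mul_one]
  have h2 : hermForm 3 E q (s • e₃) (s • e₃) = 0 := by
    rw [herm_smul_left, herm_smul_right, hfr.h33, mul_zero, mul_zero]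
  have h3 : hermForm 3 E q (act g e) (act g e) = 0 := by rw [herm_act, he]
  obtain ⟨u, hu, hu2⟩ := exists_act_fix hF he h2 h3 (by rw [h1]) (by rw [h1]; exact hg)
  obtain ⟨gs, hgs⟩ := exists_act hF he he0 (v := s • e) (by
    rw [herm_smul_left, herm_smul_right, he, mul_zero, mul_zero]) (smul_ne_zero hg he0)
  have h4 : act (u * (g₁ * gs)) e = act g e := by
    rw [act_mul, act_mul, hgs, act_smul, hg₁, hu2]
  have h5 : (u * (g₁ * gs))⁻¹ * g ∈ Stab q e := by
    rw [mem_Stab, act_mul, ← h4, act_inv_act]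
  have h6 : g = u * (g₁ * gs) * ((u * (g₁ * gs))⁻¹ * g) := by group
  rw [h6, dot_stab h.fix hv hu h5, _root_.mul_inv_rev, map_mul, ← Matrix.mulVec_mulVec, ← dot_contra, h.2 gs s hg hgs,
    smul_dotProduct, smul_eq_mul, mul_comm]

theorem coef_line {a : ℕ} {φ : κ → K}
    (h : IsWt j M e a φ) (v : κ → K) {g : SU 3 E q} {t : E} (ht : t ≠ 0) (hg : act g e = t • e) :
    φ ⬝ᵥ (M g⁻¹ *ᵥ v) = j t ^ a * (φ ⬝ᵥ v) := by
  rw [← dot_contra, h.2 g t ht hg, smul_dotProduct, smul_eq_mul]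

/-- all coefficients vanish: one of the vectors is zero -/
theorem eq_zero_of_coef (hM : Submodule.span K (Set.range M) = ⊤) {φ v : κ → K} (hφ : φ ≠ 0)
    (h : ∀ g : SU 3 E q, φ ⬝ᵥ (M g⁻¹ *ᵥ v) = 0) : v = 0 := by
  by_contra hv
  have h1 : ∀ X : Matrix κ κ K, φ ⬝ᵥ (X *ᵥ v) = 0 := by
    intro X
    have hX : X ∈ Submodule.span K (Set.range M) := by rw [hM]; trivial
    induction hX using Submodule.span_induction with
    | mem x hx =>
      obtain ⟨g, rfl⟩ := hx
      have := h g⁻¹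
      rwa [inv_inv] at this
    | zero => rw [Matrix.zero_mulVec, dotProduct_zero]
    | add x y _ _ hx hy => rw [Matrix.add_mulVec, dotProduct_add, hx, hy, add_zero]
    | smul c x _ hx => rw [Matrix.smul_mulVec, dotProduct_smul, hx, smul_zero]
  exact coef_ne_zero hφ hv (LinearMap.ext fun X => h1 X)

variable (hF : Fintype.card E = q ^ 2) (he : hermForm 3 E q e e = 0) (he0 : e ≠ 0)
  (hM : Submodule.span K (Set.range M) = ⊤)

include hF he he0 hM in
/-- a fixed vector whose coefficient vanishes on the big cell is zero -/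
theorem eq_zero_of_big (hn : Fintype.card κ < q ^ 3) {a : ℕ} {φ : κ → K} (h : IsWt j M e a φ) {v : κ → K}
    (hv : v ∈ fixSub M (Stab q e))
    (h0 : ∀ g : SU 3 E q, hermForm 3 E q (act g e) e ≠ 0 → φ ⬝ᵥ (M g⁻¹ *ᵥ v) = 0) : v = 0 := by
  classical
  by_contra hv0
  -- `φ v ≠ 0`
  have hφv : φ ⬝ᵥ v ≠ 0 := by
    intro hcon
    apply hv0
    refine eq_zero_of_coef hM h.1 fun g => ?_
    by_cases hg : hermForm 3 E q (act g e) e = 0
    · obtain ⟨t, ht⟩ := eq_smul_of_orth hF he he0 (u := act g e) (by rw [herm_act, he]) hg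
      have ht0 : t ≠ 0 := by
        rintro rfl
        rw [zero_smul, act_eq_zero] at ht
        exact he0 ht
      rw [coef_line h v ht0 ht, hcon, mul_zero]
    · exact h0 g hg
  obtain ⟨e₂, e₃, hfr⟩ := exists_fr hF he he0
  have hg : ∀ z : HP q E, ∃ g : SU 3 E q, act g e = pt e e₂ e₃ z.1 := fun z =>
    exists_act hF he he0 (herm_pt_self hF hfr z) (pt_ne_zero hF hfr _)
  choose g hg using hg
  have hval : ∀ z w : HP q E, (contra M (g z) *ᵥ φ) ⬝ᵥ (M (g w) *ᵥ v) = if z = w then φ ⬝ᵥ v else 0 := by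
    intro z w
    have h1 : (contra M (g z) *ᵥ φ) ⬝ᵥ (M (g w) *ᵥ v) = φ ⬝ᵥ (M ((g w)⁻¹ * g z)⁻¹ *ᵥ v) := by
      rw [dot_contra, _root_.mul_inv_rev, inv_inv, map_mul, Matrix.mulVec_mulVec]
    rw [h1]
    split_ifs with hzw
    · rw [hzw, inv_mul_cancel, inv_one, map_one, Matrix.one_mulVec]
    · apply h0
      rw [act_mul, hg, ← herm_act (g w), act_act_inv, hg]
      exact herm_pt_ne hF hfr hzw
  have hli : LinearIndependent K fun w : HP q E => M (g w) *ᵥ v := by
    rw [linearIndependent_iff']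
    intro S c hc z hz
    have h1 := congrArg (fun x => (contra M (g z) *ᵥ φ) ⬝ᵥ x) hc
    simp only [dotProduct_sum, dotProduct_smul, hval, dotProduct_zero, smul_eq_mul, mul_ite, mul_zero] at h1
    rw [Finset.sum_ite_eq S z, if_pos hz] at h1
    exact (mul_eq_zero.1 h1).resolve_right hφv
  have h2 := hli.fintype_card_le_finrank
  rw [Module.finrank_fintype_fun_eq_card, ← Nat.card_eq_fintype_card, card_HP hF] at h2
  omega

variable (p : ℕ) [Fact p.Prime] [CharP E p] [CharP K p] [IsAlgClosed K]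

include hF he he0 hM p j in
/-- the fixed vectors of the stabiliser are proportional -/
theorem fix_unique (hn : Fintype.card κ < q ^ 3) {v v' : κ → K} (hv : v ∈ fixSub M (Stab q e))
    (hv' : v' ∈ fixSub M (Stab q e)) (hv0 : v ≠ 0) : ∃ k : K, v' = k • v := by
  have hne : Nonempty κ := by
    by_contra hcon
    rw [not_nonempty_iff] at hcon
    exact hv0 (funext fun i => (hcon.false i).elim)
  obtain ⟨a, -, -, φ, h⟩ := exists_wt hF p j (M := M) he he0
  obtain ⟨c, hc⟩ := coef_big hF he he0 h hv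
  obtain ⟨c', hc'⟩ := coef_big hF he he0 h hv'
  have hc0 : c ≠ 0 := by
    rintro rfl
    apply hv0
    exact eq_zero_of_big hF he he0 hM hn h hv fun g hg => by rw [hc g hg, zero_mul]
  have h1 : c • v' - c' • v ∈ fixSub M (Stab q e) := Submodule.sub_mem _ (Submodule.smul_mem _ _ hv')
    (Submodule.smul_mem _ _ hv)
  have h2 := eq_zero_of_big hF he he0 hM hn h h1 fun g hg => by
    rw [Matrix.mulVec_sub, dotProduct_sub, Matrix.mulVec_smul, Matrix.mulVec_smul, dotProduct_smul, dotProduct_smul,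
      hc g hg, hc' g hg, smul_eq_mul, smul_eq_mul]
    ring
  refine ⟨c⁻¹ * c', ?_⟩
  rw [sub_eq_zero] at h2
  rw [mul_smul, ← h2, smul_smul, inv_mul_cancel₀ hc0, one_smul]

include hF he he0 hM p j in
/-- uniqueness of functionals -/
theorem fix_unique' (hn : Fintype.card κ < q ^ 3) {v v' : κ → K} (hv : v ∈ fixSub (contra M) (Stab q e))
    (hv' : v' ∈ fixSub (contra M) (Stab q e)) (hv0 : v ≠ 0) : ∃ k : K, v' = k • v :=
  fix_unique (j := j) (M := contra M) hF he he0 (span_contra hM) p hn hv hv' hv0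

include hF he he0 hM p in
/-- **The model**: the coefficient is a power of the Hermitian form. -/
theorem exists_model (hn : Fintype.card κ < q ^ 3) (h2 : 2 ≤ Fintype.card κ) :
    ∃ a, 1 ≤ a ∧ a ≤ q ^ 2 - 1 ∧ ∃ φ v : κ → K, IsWt j M e a φ ∧ v ≠ 0 ∧ v ∈ fixSub M (Stab q e) ∧
      ∀ g : SU 3 E q, φ ⬝ᵥ (M g⁻¹ *ᵥ v) = j (hermForm 3 E q (act g e) e) ^ a := by
  classical
  have hfin : Finite (SU 3 E q) := inferInstance
  have hne : Nonempty κ := Fintype.card_pos_iff.1 (by omega)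
  obtain ⟨a, ha1, ha2, φ, h⟩ := exists_wt hF p j (M := M) he he0
  obtain ⟨v, -, hv0, hv⟩ := exists_fixed' p M (isPGroup_Stab (p := p) hF he he0) ⊤ (by
      intro h
      obtain ⟨i⟩ := hne
      have h1 : (Pi.single i (1 : K) : κ → K) ∈ (⊥ : Submodule K (κ → K)) := h ▸ Submodule.mem_top
      rw [Submodule.mem_bot] at h1
      have := congrFun h1 i
      simp at this) (fun _ _ _ _ => trivial)
  obtain ⟨c, hc⟩ := coef_big hF he he0 h hv
  have hc0 : c ≠ 0 := by
    rintro rfl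
    apply hv0
    exact eq_zero_of_big hF he he0 hM hn h hv fun g hg => by rw [hc g hg, zero_mul]
  -- `φ v = 0`
  have hφv : φ ⬝ᵥ v = 0 := by
    by_contra hcon
    -- functionals vanishing on `v`
    let W : Submodule K (κ → K) :=
      { carrier := {ψ | ψ ⬝ᵥ v = 0}
        add_mem' := fun {a b} ha hb => by
          change (a + b) ⬝ᵥ v = 0
          rw [add_dotProduct, ha, hb, add_zero]
        zero_mem' := zero_dotProduct _
        smul_mem' := fun k ψ hψ => by
          change (k • ψ) ⬝ᵥ v = 0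
          rw [smul_dotProduct, hψ, smul_zero] }
    have hW : ∀ ψ, ψ ∈ W ↔ ψ ⬝ᵥ v = 0 := fun _ => Iff.rfl
    have hW0 : W ≠ ⊥ := by
      intro hbot
      obtain ⟨i, k, hik⟩ := Fintype.exists_ne_of_one_lt_card (by omega : 1 < Fintype.card κ) (Classical.arbitrary κ) |>.imp
        fun a ha => (⟨Classical.arbitrary κ, ha⟩ : ∃ b, a ≠ b)
      have h1 : (v k • Pi.single i (1 : K) - v i • Pi.single k (1 : K) : κ → K) ∈ W := by
        rw [hW, sub_dotProduct, smul_dotProduct, smul_dotProduct, single_dotProduct, single_dotProduct]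
        simp [mul_comm]
      rw [hbot, Submodule.mem_bot] at h1
      have h3 : ∀ i k : κ, i ≠ k → v k = 0 := by
        intro i k hik
        have h1 : (v k • Pi.single i (1 : K) - v i • Pi.single k (1 : K) : κ → K) ∈ W := by
          rw [hW, sub_dotProduct, smul_dotProduct, smul_dotProduct, single_dotProduct, single_dotProduct]
          simp [mul_comm]
        rw [hbot, Submodule.mem_bot] at h1
        have := congrFun h1 i
        simpa [Pi.single_apply, hik] using this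
      apply hv0
      funext l
      obtain ⟨m, hm⟩ := Fintype.exists_ne_of_one_lt_card (by omega : 1 < Fintype.card κ) l
      exact h3 m l hm
    obtain ⟨ψ, hψW, hψ0, hψ⟩ := exists_fixed' p (contra M) (isPGroup_Stab (p := p) hF he he0) W hW0 (by
      intro u hu ψ hψ
      rw [hW] at hψ ⊢
      rw [dot_contra, hv _ (inv_mem hu), hψ])
    obtain ⟨k, hk⟩ := fix_unique' (j := j) hF he he0 hM p hn h.fix hψ h.1
    rw [hW, hk, smul_dotProduct, smul_eq_mul] at hψW
    rcases mul_eq_zero.1 hψW with h5 | h5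
    · rw [h5, zero_smul] at hk
      exact hψ0 hk
    · exact hcon h5
  refine ⟨a, ha1, ha2, φ, c⁻¹ • v, h, smul_ne_zero (inv_ne_zero hc0) hv0, Submodule.smul_mem _ _ hv, fun g => ?_⟩
  rw [Matrix.mulVec_smul, dotProduct_smul, smul_eq_mul]
  by_cases hg : hermForm 3 E q (act g e) e = 0
  · obtain ⟨t, ht⟩ := eq_smul_of_orth hF he he0 (u := act g e) (by rw [herm_act, he]) hg
    have ht0 : t ≠ 0 := by
      rintro rfl
      rw [zero_smul, act_eq_zero] at ht
      exact he0 ht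
    rw [coef_line h v ht0 ht, hφv, hg, map_zero, zero_pow (by omega), mul_zero, mul_zero]
  · rw [hc g hg, ← mul_assoc, inv_mul_cancel₀ hc0, one_mul]

end Coef

end Cfsg.Agent.H929.U3
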