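import Cfsg.Agent.H929.UThreeKer

/-!
# Lower bounds for the rank of `h ^ a` (helper929)

* `Ker.rank_zero` : `a < q`;
* `Ker.rank_two` : `a = a' + q a''`, `a' + a'' < q`.
-/

set_option autoImplicit false
set_option linter.unusedSectionVars false

namespace Cfsg.Agent.H929.U3

open Cfsg Cfsg.Agent.LieClassical.HermSiegel Cfsg.Agent.LieClassical.HermBasic Matrix Cfsg.Agent.H906

variable {E : Type*} [Field E] [Fintype E] {q : ℕ} {K : Type*} [Field K] {κ : Type} [Fintype κ] [DecidableEq κ]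

theorem add_pow_ext {R : Type*} [CommSemiring R] (x y : R) {n N : ℕ} (h : n < N) :
    (x + y) ^ n = ∑ m ∈ Finset.range N, x ^ m * y ^ (n - m) * (n.choose m) := by
  rw [add_pow]
  apply Finset.sum_subset
  · intro i hi
    rw [Finset.mem_range] at hi ⊢
    omega
  · intro i _ hi
    rw [Finset.mem_range, not_lt] at hi
    rw [Nat.choose_eq_zero_of_lt (by omega), Nat.cast_zero, mul_zero]

section

variable (hF : Fintype.card E = q ^ 2) {j : E →+* K} {Φ V : Iso q E → κ → K}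

include hF in
/-- `a < q` : the multinomial coefficients -/
theorem Ker.rank_zero [DecidableEq K] {a : ℕ} (h : Ker q j a Φ V) (ha : a < q) :
    ((Finset.range q ×ˢ Finset.range q).filter fun t : ℕ × ℕ =>
      ((a.choose t.1 : K) * ((a - t.1).choose t.2 : K)) ≠ 0).card ≤ Fintype.card κ := by
  refine h.pivot_diag hF (Finset.range q ×ˢ Finset.range q) (fun t => (a.choose t.1 : K) * ((a - t.1).choose t.2 : K))
    (fun t => (t.1, 0, a - t.1 - t.2)) (fun t => (t.1, 0, t.2)) ?_ ?_ ?_ _ (Finset.filter_subset _ _) ?_ ?_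
  · rintro ⟨α, l⟩ ht -
    simp only [Finset.mem_product, Finset.mem_range] at ht
    exact ⟨ht.1, by simp only; omega, by simp only; omega⟩
  · rintro ⟨α, l⟩ ht -
    simp only [Finset.mem_product, Finset.mem_range] at ht
    exact ⟨ht.1, by simp only; omega, ht.2⟩
  · intro z w
    rw [map_add, map_add, map_mul, add_comm, add_pow_ext _ _ ha, Finset.sum_product]
    refine Finset.sum_congr rfl fun α _ => ?_
    rw [add_comm (j z.1.2), add_pow_ext (j w.1.2) (j z.1.2) (n := a - α) (N := q) (by omega), Finset.mul_sum,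
      Finset.sum_mul]
    refine Finset.sum_congr rfl fun l _ => ?_
    simp only [mono, pow_zero, mul_one]
    ring
  · intro s hs
    exact (Finset.mem_filter.1 hs).2
  · rintro ⟨α, l⟩ hs ⟨α', l'⟩ hs' ⟨β, m⟩ ht hct h1 h2
    simp only [Prod.mk.injEq, true_and] at h1 h2 ⊢
    have h3 := (Finset.mem_filter.1 hs).2
    simp only [ne_eq, mul_eq_zero, not_or] at h3 hct
    have h4 : ∀ n k : ℕ, ¬ ((n.choose k : ℕ) : K) = 0 → k ≤ n := by
      intro n k hnk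
      by_contra hcon
      exact hnk (by rw [Nat.choose_eq_zero_of_lt (by omega), Nat.cast_zero])
    have h5 := h4 _ _ h3.2
    have h6 := h4 _ _ hct.2
    have h7 := h4 _ _ h3.1
    omega

/-- the terms of the expansion, case `a' + a'' < q` -/
def cf (K : Type*) [Field K] (a' a'' : ℕ) (t : ℕ × ℕ × ℕ × ℕ × ℕ × ℕ) : K :=
  ((a'.choose t.1 : K) * ((a' - t.1).choose t.2.1 : K)) *
    ((a''.choose t.2.2.1 : K) * ((t.2.2.1).choose t.2.2.2.1 : K) * ((-1) ^ t.2.2.2.1 * (-1) ^ (a'' - t.2.2.1)) *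
      ((a'' - t.2.2.1).choose t.2.2.2.2.1 : K) * ((a'' - t.2.2.1 - t.2.2.2.2.1).choose t.2.2.2.2.2 : K))

/-- row exponents -/
def rf (a' a'' : ℕ) (t : ℕ × ℕ × ℕ × ℕ × ℕ × ℕ) : ℕ × ℕ × ℕ :=
  (t.1 + t.2.2.2.2.2, t.2.2.1 - t.2.2.2.1 + t.2.2.2.2.2,
    (a' - t.1 - t.2.1) + (a'' - t.2.2.1 - t.2.2.2.2.1 - t.2.2.2.2.2))

/-- column exponents -/
def nf (t : ℕ × ℕ × ℕ × ℕ × ℕ × ℕ) : ℕ × ℕ × ℕ := (t.1 + t.2.2.2.1, t.2.2.1, t.2.1 + t.2.2.2.2.1)

theorem expand (x xb y c cb d : K) {a' a'' : ℕ} (ha : a' < q) (ha'' : a'' < q) :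
    (y + d + x * c) ^ a' * (-(y + d) - x * xb - c * cb + xb * cb) ^ a'' =
      ∑ t ∈ Finset.range q ×ˢ Finset.range q ×ˢ Finset.range q ×ˢ Finset.range q ×ˢ Finset.range q ×ˢ Finset.range q,
        cf K a' a'' t * (x ^ (rf a' a'' t).1 * xb ^ (rf a' a'' t).2.1 * y ^ (rf a' a'' t).2.2) *
          (c ^ (nf t).1 * cb ^ (nf t).2.1 * d ^ (nf t).2.2) := by
  have h1 : (y + d + x * c) ^ a' = ∑ α ∈ Finset.range q, ∑ i ∈ Finset.range q,
      (a'.choose α : K) * ((a' - α).choose i : K) * ((x * c) ^ α * (d ^ i * y ^ (a' - α - i))) := by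
    rw [add_comm (y + d), add_pow_ext _ _ ha]
    refine Finset.sum_congr rfl fun α _ => ?_
    rw [add_comm y, add_pow_ext d y (n := a' - α) (N := q) (by omega), Finset.mul_sum, Finset.sum_mul]
    exact Finset.sum_congr rfl fun l _ => by ring
  have h2 : (-(y + d) - x * xb - c * cb + xb * cb) ^ a'' = ∑ m ∈ Finset.range q, ∑ γ ∈ Finset.range q,
      ∑ k ∈ Finset.range q, ∑ b ∈ Finset.range q, (a''.choose m : K) * (m.choose γ : K) * ((-1) ^ γ * (-1) ^ (a'' - m)) *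
        ((a'' - m).choose k : K) * ((a'' - m - k).choose b : K) *
          (cb ^ m * (c ^ γ * xb ^ (m - γ)) * (d ^ k * ((x * xb) ^ b * y ^ (a'' - m - k - b)))) := by
    have h3 : -(y + d) - x * xb - c * cb + xb * cb = cb * (-1 * c + xb) + (-1) * (d + (x * xb + y)) := by ring
    rw [h3, add_pow_ext _ _ ha'']
    refine Finset.sum_congr rfl fun m hm => ?_
    rw [Finset.mem_range] at hm
    rw [mul_pow cb, mul_pow (-1 : K), add_pow_ext (-1 * c) xb hm, Finset.mul_sum, Finset.sum_mul, Finset.sum_mul]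
    refine Finset.sum_congr rfl fun γ _ => ?_
    rw [add_pow_ext d (x * xb + y) (n := a'' - m) (N := q) (by omega), Finset.mul_sum, Finset.mul_sum, Finset.sum_mul]
    refine Finset.sum_congr rfl fun k _ => ?_
    rw [add_pow_ext (x * xb) y (n := a'' - m - k) (N := q) (by omega), Finset.mul_sum, Finset.sum_mul, Finset.mul_sum,
      Finset.mul_sum, Finset.sum_mul]
    refine Finset.sum_congr rfl fun b _ => ?_
    rw [mul_pow (-1 : K) c]
    ring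
  rw [h1, h2]
  simp only [Finset.sum_product]
  rw [Finset.sum_mul]
  refine Finset.sum_congr rfl fun α _ => ?_
  rw [Finset.sum_mul]
  refine Finset.sum_congr rfl fun i _ => ?_
  rw [Finset.mul_sum]
  refine Finset.sum_congr rfl fun m _ => ?_
  rw [Finset.mul_sum]
  refine Finset.sum_congr rfl fun γ _ => ?_
  rw [Finset.mul_sum]
  refine Finset.sum_congr rfl fun k _ => ?_
  rw [Finset.mul_sum]
  refine Finset.sum_congr rfl fun b _ => ?_
  simp only [cf, rf, nf]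
  ring

include hF in
theorem pow_expand (j : E →+* K) (a' a'' : ℕ) (z w : HP q E) :
    j (z.1.2 + w.1.2 + z.1.1 * w.1.1) ^ (a' + q * a'') =
      (j z.1.2 + j w.1.2 + j z.1.1 * j w.1.1) ^ a' *
        (-(j z.1.2 + j w.1.2) - j z.1.1 * j z.1.1 ^ q - j w.1.1 * j w.1.1 ^ q + j z.1.1 ^ q * j w.1.1 ^ q) ^ a'' := by
  rw [pow_add, pow_mul, ← map_pow j _ q, add_pow_q hF, add_pow_q hF, mul_pow]
  congr 1
  · rw [map_add, map_add, map_mul]
  · congr 1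
    have h1 : z.1.2 ^ q = -z.1.2 - z.1.1 * z.1.1 ^ q := by linear_combination z.2
    have h2 : w.1.2 ^ q = -w.1.2 - w.1.1 * w.1.1 ^ q := by linear_combination w.2
    rw [h1, h2]
    simp only [map_add, map_mul, map_sub, map_neg, map_pow]
    ring

theorem le_of_choose {n k : ℕ} (h : ((n.choose k : ℕ) : K) ≠ 0) : k ≤ n := by
  by_contra hcon
  exact h (by rw [Nat.choose_eq_zero_of_lt (by omega), Nat.cast_zero])

theorem cf_ne {a' a'' α i m γ k b : ℕ} (h : cf K a' a'' (α, i, m, γ, k, b) ≠ 0) :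
    α ≤ a' ∧ i ≤ a' - α ∧ m ≤ a'' ∧ γ ≤ m ∧ k ≤ a'' - m ∧ b ≤ a'' - m - k := by
  simp only [cf, ne_eq, mul_eq_zero, not_or] at h
  obtain ⟨⟨h1, h2⟩, ⟨⟨⟨h3, h4⟩, -⟩, h5⟩, h6⟩ := h
  exact ⟨le_of_choose h1, le_of_choose h2, le_of_choose h3, le_of_choose h4, le_of_choose h5, le_of_choose h6⟩

theorem aux11 {a' a'' α i m γ k b α₁ b₁ α₂ b₂ : ℕ} (h1 : α ≤ a') (h2 : i ≤ a' - α) (h6 : b ≤ a'' - m - k)
    (h5 : k ≤ a'' - m) (h7 : b₁ ≤ a'') (h9 : α₂ ≤ a')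
    (e1 : α₁ + (a'' - b₁) = α + b) (e2 : a'' - b₁ = m - γ + b)
    (e3 : 0 = (a' - α - i) + (a'' - m - k - b)) (e4 : α₂ = α + γ) (e5 : 0 = m) (h4 : γ ≤ m) (e6 : a' - α₂ + b₂ = i + k) :
    α = α₁ ∧ α = α₂ ∧ i = a' - α₁ ∧ i = a' - α₂ ∧ m = 0 ∧ γ = 0 ∧ k = b₁ ∧ k = b₂ ∧ b = a'' - b₁ ∧ b = a'' - b₂ := by
  obtain rfl := e5
  obtain rfl : γ = 0 := by omega
  omega

theorem aux12 {a' a'' α i m γ k b α₁ b₁ β₂ i₂ : ℕ} (h1 : α ≤ a') (h2 : i ≤ a' - α) (h6 : b ≤ a'' - m - k)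
    (h5 : k ≤ a'' - m) (h7 : b₁ ≤ a'') (h9 : i₂ ≤ a')
    (e1 : α₁ + (a'' - b₁) = α + b) (e2 : a'' - b₁ = m - γ + b)
    (e3 : 0 = (a' - α - i) + (a'' - m - k - b)) (e4 : 0 = α + γ) (e5 : β₂ = m) (h3 : m ≤ a'') (e6 : i₂ = i + k) :
    α = α₁ ∧ α = 0 ∧ i = a' - α₁ ∧ i = i₂ ∧ m = 0 ∧ m = β₂ ∧ γ = 0 ∧ k = b₁ ∧ k = 0 ∧ b = a'' - b₁ ∧ b = a'' - β₂ := by
  obtain rfl : γ = 0 := by omega
  obtain rfl : α = 0 := by omega
  subst e5
  omega

theorem aux21 {a' a'' α i m γ k b β₁ i₁ α₂ b₂ : ℕ} (h1 : α ≤ a') (h2 : i ≤ a' - α) (h6 : b ≤ a'' - m - k)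
    (h5 : k ≤ a'' - m) (h7 : i₁ ≤ a') (h8 : β₁ ≤ a'') (h9 : α₂ ≤ a')
    (e1 : a'' - β₁ = α + b) (e2 : β₁ + (a'' - β₁) = m - γ + b)
    (e3 : a' - i₁ = (a' - α - i) + (a'' - m - k - b)) (e4 : α₂ = α + γ) (e5 : 0 = m) (h4 : γ ≤ m)
    (e6 : a' - α₂ + b₂ = i + k) :
    α = 0 ∧ α = α₂ ∧ i = i₁ ∧ i = a' - α₂ ∧ m = 0 ∧ m = β₁ ∧ γ = 0 ∧ k = 0 ∧ k = b₂ ∧ b = a'' - β₁ ∧ b = a'' - b₂ := by
  obtain rfl := e5
  obtain rfl : γ = 0 := by omega
  omega

theorem aux22 {a' a'' α i m γ k b β₁ i₁ β₂ i₂ : ℕ} (h1 : α ≤ a') (h2 : i ≤ a' - α) (h6 : b ≤ a'' - m - k)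
    (h5 : k ≤ a'' - m) (h7 : i₁ ≤ a') (h8 : β₁ ≤ a'') (h9 : i₂ ≤ a') (h3 : m ≤ a'')
    (e1 : a'' - β₁ = α + b) (e2 : β₁ + (a'' - β₁) = m - γ + b)
    (e3 : a' - i₁ = (a' - α - i) + (a'' - m - k - b)) (e4 : 0 = α + γ) (e5 : β₂ = m)
    (e6 : i₂ = i + k) :
    α = 0 ∧ i = i₁ ∧ i = i₂ ∧ m = β₁ ∧ m = β₂ ∧ γ = 0 ∧ k = 0 ∧ b = a'' - β₁ ∧ b = a'' - β₂ := by
  obtain rfl : γ = 0 := by omega
  obtain rfl : α = 0 := by omega
  subst e5
  omega

include hF in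
/-- `a = a' + q a''`, `a' + a'' < q` -/
theorem Ker.rank_two [DecidableEq K] {a' a'' : ℕ} (h : Ker q j (a' + q * a'') Φ V) (ha : a' + a'' < q) :
    2 * (((Finset.range q).filter fun i => ((a'.choose i : ℕ) : K) ≠ 0).card *
      ((Finset.range q).filter fun i => ((a''.choose i : ℕ) : K) ≠ 0).card) ≤ Fintype.card κ + 1 := by
  set A := (Finset.range q).filter fun i => ((a'.choose i : ℕ) : K) ≠ 0 with hA
  set B := (Finset.range q).filter fun i => ((a''.choose i : ℕ) : K) ≠ 0 with hB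
  have hAm : ∀ i, i ∈ A ↔ ((a'.choose i : ℕ) : K) ≠ 0 := by
    intro i
    rw [hA, Finset.mem_filter, Finset.mem_range]
    refine ⟨fun h => h.2, fun h => ⟨?_, h⟩⟩
    have := le_of_choose h
    omega
  have hBm : ∀ i, i ∈ B ↔ ((a''.choose i : ℕ) : K) ≠ 0 := by
    intro i
    rw [hB, Finset.mem_filter, Finset.mem_range]
    refine ⟨fun h => h.2, fun h => ⟨?_, h⟩⟩
    have := le_of_choose h
    omega
  let f₁ : ℕ × ℕ → ℕ × ℕ × ℕ × ℕ × ℕ × ℕ := fun t => (t.1, a' - t.1, 0, 0, t.2, a'' - t.2)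
  let f₂ : ℕ × ℕ → ℕ × ℕ × ℕ × ℕ × ℕ × ℕ := fun t => (0, t.2, t.1, 0, 0, a'' - t.1)
  set S := (A ×ˢ B).image f₁ ∪ ((B ×ˢ A).erase (0, a')).image f₂ with hS
  have hcard : S.card = A.card * B.card + (B.card * A.card - 1) := by
    rw [hS, Finset.card_union_of_disjoint, Finset.card_image_of_injective, Finset.card_image_of_injective,
      Finset.card_product, Finset.card_erase_of_mem, Finset.card_product]
    · rw [Finset.mem_product, hAm, hBm]
      simp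
    · rintro ⟨a, b⟩ ⟨c, d⟩ hh
      simp only [f₂, Prod.mk.injEq] at hh ⊢
      exact ⟨hh.2.2.1, hh.2.1⟩
    · rintro ⟨a, b⟩ ⟨c, d⟩ hh
      simp only [f₁, Prod.mk.injEq] at hh ⊢
      exact ⟨hh.1, hh.2.2.2.2.1⟩
    · rw [Finset.disjoint_left]
      intro x hx hx'
      obtain ⟨⟨α, b⟩, -, rfl⟩ := Finset.mem_image.1 hx
      obtain ⟨⟨β, i⟩, h1, h2⟩ := Finset.mem_image.1 hx'
      simp only [f₁, f₂, Prod.mk.injEq] at h2
      rw [Finset.mem_erase] at h1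
      apply h1.1
      rw [Prod.mk.injEq]
      omega
  have hmem : ∀ x ∈ S, (∃ α b, α ≤ a' ∧ b ≤ a'' ∧ ((a'.choose α : ℕ) : K) ≠ 0 ∧ ((a''.choose b : ℕ) : K) ≠ 0 ∧
      x = f₁ (α, b)) ∨ (∃ β i, β ≤ a'' ∧ i ≤ a' ∧ ((a''.choose β : ℕ) : K) ≠ 0 ∧ ((a'.choose i : ℕ) : K) ≠ 0 ∧
      x = f₂ (β, i)) := by
    intro x hx
    rcases Finset.mem_union.1 hx with hx | hx
    · obtain ⟨⟨α, b⟩, h1, rfl⟩ := Finset.mem_image.1 hx
      rw [Finset.mem_product, hAm, hBm] at h1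
      exact Or.inl ⟨α, b, le_of_choose h1.1, le_of_choose h1.2, h1.1, h1.2, rfl⟩
    · obtain ⟨⟨β, i⟩, h1, rfl⟩ := Finset.mem_image.1 hx
      have h2 := Finset.mem_of_mem_erase h1
      rw [Finset.mem_product, hAm, hBm] at h2
      exact Or.inr ⟨β, i, le_of_choose h2.1, le_of_choose h2.2, h2.1, h2.2, rfl⟩
  have hpos : 0 < B.card * A.card := by
    have h0 : (0 : ℕ) ∈ A := by rw [hAm]; simp
    have h0' : (0 : ℕ) ∈ B := by rw [hBm]; simp
    exact Nat.mul_pos (Finset.card_pos.2 ⟨0, h0'⟩) (Finset.card_pos.2 ⟨0, h0⟩)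
  have key : S.card ≤ Fintype.card κ := by
    refine h.pivot_diag hF (Finset.range q ×ˢ Finset.range q ×ˢ Finset.range q ×ˢ Finset.range q ×ˢ Finset.range q ×ˢ
      Finset.range q) (cf K a' a'') (rf a' a'') nf ?_ ?_ ?_ S ?_ ?_ ?_
    · rintro ⟨α, i, m, γ, k, b⟩ - hc
      have := cf_ne hc
      simp only [rf, Small]
      omega
    · rintro ⟨α, i, m, γ, k, b⟩ - hc
      have := cf_ne hc
      simp only [nf, Small]
      omega
    · intro z w
      rw [pow_expand hF, expand (q := q) _ _ _ _ _ _ (by omega) (by omega)]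
      rfl
    · intro x hx
      rcases hmem x hx with ⟨α, b, h1, h2, -, -, rfl⟩ | ⟨β, i, h1, h2, -, -, rfl⟩
      · simp only [f₁, Finset.mem_product, Finset.mem_range]
        omega
      · simp only [f₂, Finset.mem_product, Finset.mem_range]
        omega
    · intro x hx
      rcases hmem x hx with ⟨α, b, h1, h2, h3, h4, rfl⟩ | ⟨β, i, h1, h2, h3, h4, rfl⟩
      · simp [f₁, cf, h3, h4]
      · simp [f₂, cf, h3, h4]
    · rintro s hs s' hs' ⟨α, i, m, γ, k, b⟩ - hc h1 h2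
      have h3 := cf_ne hc
      rcases hmem s hs with ⟨α₁, b₁, h4, h5, -, -, rfl⟩ | ⟨β₁, i₁, h4, h5, -, -, rfl⟩ <;>
        rcases hmem s' hs' with ⟨α₂, b₂, h6, h7, -, -, rfl⟩ | ⟨β₂, i₂, h6, h7, -, -, rfl⟩ <;>
        simp only [f₁, f₂, rf, nf, Prod.mk.injEq] at h1 h2 ⊢
      · have := aux11 (a' := a') (a'' := a'') (α := α) (i := i) (m := m) (γ := γ) (k := k) (b := b) (α₁ := α₁)
          (b₁ := b₁) (α₂ := α₂) (b₂ := b₂) h3.1 h3.2.1 h3.2.2.2.2.2 h3.2.2.2.2.1 h5 h6 h1.1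
          (by have := h1.2.1; omega) (by have := h1.2.2; omega) h2.1 h2.2.1 h3.2.2.2.1 h2.2.2
        omega
      · have := aux12 (a' := a') (a'' := a'') (α := α) (i := i) (m := m) (γ := γ) (k := k) (b := b) (α₁ := α₁)
          (b₁ := b₁) (β₂ := β₂) (i₂ := i₂) h3.1 h3.2.1 h3.2.2.2.2.2 h3.2.2.2.2.1 h5 h7 h1.1
          (by have := h1.2.1; omega) (by have := h1.2.2; omega) (by have := h2.1; omega) h2.2.1 h3.2.2.1
          (by have := h2.2.2; omega)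
        omega
      · have := aux21 (a' := a') (a'' := a'') (α := α) (i := i) (m := m) (γ := γ) (k := k) (b := b) (β₁ := β₁)
          (i₁ := i₁) (α₂ := α₂) (b₂ := b₂) h3.1 h3.2.1 h3.2.2.2.2.2 h3.2.2.2.2.1 h5 h4 h6
          (by have := h1.1; omega) (by have := h1.2.1; omega) (by have := h1.2.2; omega) h2.1 h2.2.1 h3.2.2.2.1 h2.2.2
        omega
      · have := aux22 (a' := a') (a'' := a'') (α := α) (i := i) (m := m) (γ := γ) (k := k) (b := b) (β₁ := β₁)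
          (i₁ := i₁) (β₂ := β₂) (i₂ := i₂) h3.1 h3.2.1 h3.2.2.2.2.2 h3.2.2.2.2.1 h5 h4 h7 h3.2.2.1
          (by have := h1.1; omega) (by have := h1.2.1; omega) (by have := h1.2.2; omega) (by have := h2.1; omega) h2.2.1
          (by have := h2.2.2; omega)
        omega
  have hcomm := mul_comm B.card A.card
  rw [hcomm] at hcard hpos
  omega

end

end Cfsg.Agent.H929.U3
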