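import Cfsg.Agent.H929.UThreeRank

/-!
# Explicit lower bounds for the rank of `h ^ a` (helper929)

* `Ker.rank_21` : `a = 2 + q`, `p ≠ 2`, `4 ≤ q`: rank at least `13`;
* `Ker.rank_q3` : `q = 3`, `a = 5`: rank at least `13`;
* `Ker.rank_q4` : `q = 4`, `a = 7`: rank at least `13`.
-/

set_option autoImplicit false
set_option linter.unusedSectionVars false

namespace Cfsg.Agent.H929.U3

open Cfsg Cfsg.Agent.LieClassical.HermSiegel Cfsg.Agent.LieClassical.HermBasic Matrix Cfsg.Agent.H906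

variable {E : Type*} [Field E] [Fintype E] {q : ℕ} {K : Type*} [Field K] {κ : Type} [Fintype κ] [DecidableEq κ]

/-- entry of the coefficient matrix of a list of terms -/
def ent (T : List (ℤ × (ℕ × ℕ × ℕ) × (ℕ × ℕ × ℕ))) (r c : ℕ × ℕ × ℕ) : ℤ :=
  (T.map fun t => if r = t.2.1 ∧ c = t.2.2 then t.1 else 0).sum

theorem ent_cast (T : List (ℤ × (ℕ × ℕ × ℕ) × (ℕ × ℕ × ℕ))) (r c : ℕ × ℕ × ℕ) :
    ((ent T r c : ℤ) : K) = ∑ t : Fin T.length, if r = T[t.1].2.1 ∧ c = T[t.1].2.2 then ((T[t.1].1 : ℤ) : K) else 0 := by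
  have h1 := Fin.sum_univ_fun_getElem T (fun t => if r = t.2.1 ∧ c = t.2.2 then ((t.1 : ℤ) : K) else 0)
  rw [h1, ent]
  clear h1
  induction T with
  | nil => simp
  | cons t T ih =>
    simp only [List.map_cons, List.sum_cons, Int.cast_add]
    rw [ih]
    split_ifs <;> simp

/-- pivot lemma, list form -/
theorem Ker.pivot_list (hF : Fintype.card E = q ^ 2) {j : E →+* K} {a : ℕ} {Φ V : Iso q E → κ → K} (h : Ker q j a Φ V)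
    (T : List (ℤ × (ℕ × ℕ × ℕ) × (ℕ × ℕ × ℕ))) (hs : ∀ t ∈ T, Small q t.2.1 ∧ Small q t.2.2)
    (hT : ∀ z w : HP q E, j (z.1.2 + w.1.2 + z.1.1 * w.1.1) ^ a =
      (T.map fun t => (t.1 : K) * mono j t.2.1 z * mono j t.2.2 w).sum)
    {n : ℕ} (R C : Fin n → ℕ × ℕ × ℕ) (hR : ∀ s, Small q (R s)) (hC : ∀ s, Small q (C s))
    (A B : Fin n → Fin n → ℤ) (D : ℤ) (hD : (D : K) ≠ 0) (hA : ∀ s s', ent T (R s) (C s') = A s s')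
    (hB : ∀ s s', ∑ t, B s t * A t s' = if s = s' then D else 0) : n ≤ Fintype.card κ := by
  classical
  have h1 := h.pivot hF (Finset.univ : Finset (Fin T.length)) (fun t => (T[t.1].1 : K)) (fun t => T[t.1].2.1)
    (fun t => T[t.1].2.2) (fun t _ _ => (hs _ (List.getElem_mem _)).1) (fun t _ _ => (hs _ (List.getElem_mem _)).2)
    (fun z w => by
      rw [hT, ← Fin.sum_univ_fun_getElem T (fun t => (t.1 : K) * mono j t.2.1 z * mono j t.2.2 w)])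
    R C hR hC ?_
  · rwa [Fintype.card_fin] at h1
  intro x hx
  have h2 : ∀ s, ∑ s', ((A s s' : ℤ) : K) * x s' = 0 := by
    intro s
    rw [← hx s]
    refine Finset.sum_congr rfl fun s' _ => ?_
    rw [← hA, ent_cast]
  funext s
  have h3 : ∑ t, ((B s t : ℤ) : K) * ∑ s', ((A t s' : ℤ) : K) * x s' = (D : K) * x s := by
    simp only [Finset.mul_sum]
    rw [Finset.sum_comm]
    rw [Finset.sum_eq_single s]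
    · have h4 := congrArg (fun y : ℤ => (y : K)) (hB s s)
      simp only [Int.cast_sum, Int.cast_mul, if_pos] at h4
      rw [← h4, Finset.sum_mul]
      exact Finset.sum_congr rfl fun t _ => by ring
    · intro s' _ hs'
      have h4 := congrArg (fun y : ℤ => (y : K)) (hB s s')
      simp only [Int.cast_sum, Int.cast_mul, if_neg (Ne.symm hs'), Int.cast_zero] at h4
      have h5 : ∑ t, ((B s t : ℤ) : K) * (((A t s' : ℤ) : K) * x s') =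
          (∑ t, ((B s t : ℤ) : K) * ((A t s' : ℤ) : K)) * x s' := by
        rw [Finset.sum_mul]
        exact Finset.sum_congr rfl fun t _ => by ring
      rw [h5, h4, zero_mul]
    · intro h
      exact absurd (Finset.mem_univ _) h
  simp only [h2, mul_zero, Finset.sum_const_zero] at h3
  exact (mul_eq_zero.1 h3.symm).resolve_left hD

/-- terms -/
def T21 : List (ℤ × (ℕ × ℕ × ℕ) × (ℕ × ℕ × ℕ)) :=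
  [(-1, (0, 0, 0), (0, 0, 3)), (-1, (0, 0, 0), (1, 1, 2)), (-3, (0, 0, 1), (0, 0, 2)), (-2, (0, 0, 1), (1, 1, 1)), (-3, (0, 0, 2), (0, 0, 1)), (-1, (0, 0, 2), (1, 1, 0)), (-1, (0, 0, 3), (0, 0, 0)), (1, (0, 1, 0), (0, 1, 2)), (2, (0, 1, 1), (0, 1, 1)), (1, (0, 1, 2), (0, 1, 0)), (-2, (1, 0, 0), (1, 0, 2)), (-2, (1, 0, 0), (2, 1, 1)), (-4, (1, 0, 1), (1, 0, 1)), (-2, (1, 0, 1), (2, 1, 0)), (-2, (1, 0, 2), (1, 0, 0)), (-1, (1, 1, 0), (0, 0, 2)), (2, (1, 1, 0), (1, 1, 1)), (-2, (1, 1, 1), (0, 0, 1)), (2, (1, 1, 1), (1, 1, 0)), (-1, (1, 1, 2), (0, 0, 0)), (-1, (2, 0, 0), (2, 0, 1)), (-1, (2, 0, 0), (3, 1, 0)), (-1, (2, 0, 1), (2, 0, 0)), (-2, (2, 1, 0), (1, 0, 1)), (1, (2, 1, 0), (2, 1, 0)), (-2, (2, 1, 1), (1, 0, 0)), (-1, (3, 1, 0), (2, 0, 0))]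

/-- rows -/
def R21 : Fin 13 → ℕ × ℕ × ℕ := ![(1, 1, 2), (1, 1, 1), (1, 1, 0), (0, 0, 0), (0, 0, 2), (2, 1, 1), (2, 1, 0), (1, 0, 0), (3, 1, 0), (2, 0, 0), (0, 1, 2), (0, 1, 1), (0, 1, 0)]

/-- columns -/
def C21 : Fin 13 → ℕ × ℕ × ℕ := ![(0, 0, 0), (0, 0, 1), (0, 0, 2), (0, 0, 3), (1, 1, 0), (1, 0, 0), (1, 0, 1), (1, 0, 2), (2, 0, 0), (2, 0, 1), (0, 1, 0), (0, 1, 1), (0, 1, 2)]

/-- the coefficients -/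
def A21 : Fin 13 → Fin 13 → ℤ :=
  ![![-1, 0, 0, 0, 0, 0, 0, 0, 0, 0, 0, 0, 0],
    ![0, -2, 0, 0, 2, 0, 0, 0, 0, 0, 0, 0, 0],
    ![0, 0, -1, 0, 0, 0, 0, 0, 0, 0, 0, 0, 0],
    ![0, 0, 0, -1, 0, 0, 0, 0, 0, 0, 0, 0, 0],
    ![0, -3, 0, 0, -1, 0, 0, 0, 0, 0, 0, 0, 0],
    ![0, 0, 0, 0, 0, -2, 0, 0, 0, 0, 0, 0, 0],
    ![0, 0, 0, 0, 0, 0, -2, 0, 0, 0, 0, 0, 0],
    ![0, 0, 0, 0, 0, 0, 0, -2, 0, 0, 0, 0, 0],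
    ![0, 0, 0, 0, 0, 0, 0, 0, -1, 0, 0, 0, 0],
    ![0, 0, 0, 0, 0, 0, 0, 0, 0, -1, 0, 0, 0],
    ![0, 0, 0, 0, 0, 0, 0, 0, 0, 0, 1, 0, 0],
    ![0, 0, 0, 0, 0, 0, 0, 0, 0, 0, 0, 2, 0],
    ![0, 0, 0, 0, 0, 0, 0, 0, 0, 0, 0, 0, 1]]

/-- the inverse -/
def B21 : Fin 13 → Fin 13 → ℤ :=
  ![![-8, 0, 0, 0, 0, 0, 0, 0, 0, 0, 0, 0, 0],
    ![0, -1, 0, 0, -2, 0, 0, 0, 0, 0, 0, 0, 0],
    ![0, 0, -8, 0, 0, 0, 0, 0, 0, 0, 0, 0, 0],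
    ![0, 0, 0, -8, 0, 0, 0, 0, 0, 0, 0, 0, 0],
    ![0, 3, 0, 0, -2, 0, 0, 0, 0, 0, 0, 0, 0],
    ![0, 0, 0, 0, 0, -4, 0, 0, 0, 0, 0, 0, 0],
    ![0, 0, 0, 0, 0, 0, -4, 0, 0, 0, 0, 0, 0],
    ![0, 0, 0, 0, 0, 0, 0, -4, 0, 0, 0, 0, 0],
    ![0, 0, 0, 0, 0, 0, 0, 0, -8, 0, 0, 0, 0],
    ![0, 0, 0, 0, 0, 0, 0, 0, 0, -8, 0, 0, 0],
    ![0, 0, 0, 0, 0, 0, 0, 0, 0, 0, 8, 0, 0],
    ![0, 0, 0, 0, 0, 0, 0, 0, 0, 0, 0, 4, 0],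
    ![0, 0, 0, 0, 0, 0, 0, 0, 0, 0, 0, 0, 8]]

/-- terms -/
def T3 : List (ℤ × (ℕ × ℕ × ℕ) × (ℕ × ℕ × ℕ)) :=
  [(1, (0, 0, 0), (0, 0, 1)), (1, (0, 0, 0), (1, 1, 0)), (-1, (0, 0, 0), (1, 1, 2)), (1, (0, 0, 1), (0, 0, 0)), (-3, (0, 0, 1), (0, 0, 2)), (-2, (0, 0, 1), (1, 1, 1)), (-3, (0, 0, 2), (0, 0, 1)), (-1, (0, 0, 2), (1, 1, 0)), (1, (0, 1, 0), (0, 1, 2)), (2, (0, 1, 1), (0, 1, 1)), (1, (0, 1, 2), (0, 1, 0)), (-1, (0, 2, 0), (2, 0, 0)), (-2, (1, 0, 0), (1, 0, 2)), (-2, (1, 0, 0), (2, 1, 1)), (-4, (1, 0, 1), (1, 0, 1)), (-2, (1, 0, 1), (2, 1, 0)), (-2, (1, 0, 2), (1, 0, 0)), (1, (1, 1, 0), (0, 0, 0)), (-1, (1, 1, 0), (0, 0, 2)), (2, (1, 1, 0), (1, 1, 1)), (-2, (1, 1, 1), (0, 0, 1)), (2, (1, 1, 1), (1, 1, 0)), (-1, (1, 1, 2), (0, 0, 0)), (-1, (2, 0, 0), (0, 2, 0)), (-1, (2, 0, 0), (2, 0, 1)),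 (-1, (2, 0, 1), (2, 0, 0)), (-2, (2, 1, 0), (1, 0, 1)), (1, (2, 1, 0), (2, 1, 0)), (-2, (2, 1, 1), (1, 0, 0))]

/-- rows -/
def R3 : Fin 13 → ℕ × ℕ × ℕ := ![(1, 1, 2), (0, 0, 2), (1, 1, 1), (0, 0, 1), (1, 1, 0), (0, 0, 0), (2, 1, 1), (2, 1, 0), (1, 0, 0), (2, 0, 0), (0, 1, 2), (0, 1, 1), (0, 1, 0)]

/-- columns -/
def C3 : Fin 13 → ℕ × ℕ × ℕ := ![(0, 0, 0), (1, 1, 0), (0, 0, 1), (1, 1, 1), (0, 0, 2), (1, 1, 2), (1, 0, 0), (1, 0, 1), (1, 0, 2), (2, 0, 1), (0, 1, 0), (0, 1, 1), (0, 1, 2)]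

/-- the coefficients -/
def A3 : Fin 13 → Fin 13 → ℤ :=
  ![![-1, 0, 0, 0, 0, 0, 0, 0, 0, 0, 0, 0, 0],
    ![0, -1, -3, 0, 0, 0, 0, 0, 0, 0, 0, 0, 0],
    ![0, 2, -2, 0, 0, 0, 0, 0, 0, 0, 0, 0, 0],
    ![1, 0, 0, -2, -3, 0, 0, 0, 0, 0, 0, 0, 0],
    ![1, 0, 0, 2, -1, 0, 0, 0, 0, 0, 0, 0, 0],
    ![0, 1, 1, 0, 0, -1, 0, 0, 0, 0, 0, 0, 0],
    ![0, 0, 0, 0, 0, 0, -2, 0, 0, 0, 0, 0, 0],
    ![0, 0, 0, 0, 0, 0, 0, -2, 0, 0, 0, 0, 0],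
    ![0, 0, 0, 0, 0, 0, 0, 0, -2, 0, 0, 0, 0],
    ![0, 0, 0, 0, 0, 0, 0, 0, 0, -1, 0, 0, 0],
    ![0, 0, 0, 0, 0, 0, 0, 0, 0, 0, 1, 0, 0],
    ![0, 0, 0, 0, 0, 0, 0, 0, 0, 0, 0, 2, 0],
    ![0, 0, 0, 0, 0, 0, 0, 0, 0, 0, 0, 0, 1]]

/-- the inverse -/
def B3 : Fin 13 → Fin 13 → ℤ :=
  ![![-8, 0, 0, 0, 0, 0, 0, 0, 0, 0, 0, 0, 0],
    ![0, -2, 3, 0, 0, 0, 0, 0, 0, 0, 0, 0, 0],
    ![0, -2, -1, 0, 0, 0, 0, 0, 0, 0, 0, 0, 0],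
    ![2, 0, 0, -1, 3, 0, 0, 0, 0, 0, 0, 0, 0],
    ![-4, 0, 0, -2, -2, 0, 0, 0, 0, 0, 0, 0, 0],
    ![0, -4, 2, 0, 0, -8, 0, 0, 0, 0, 0, 0, 0],
    ![0, 0, 0, 0, 0, 0, -4, 0, 0, 0, 0, 0, 0],
    ![0, 0, 0, 0, 0, 0, 0, -4, 0, 0, 0, 0, 0],
    ![0, 0, 0, 0, 0, 0, 0, 0, -4, 0, 0, 0, 0],
    ![0, 0, 0, 0, 0, 0, 0, 0, 0, -8, 0, 0, 0],
    ![0, 0, 0, 0, 0, 0, 0, 0, 0, 0, 8, 0, 0],
    ![0, 0, 0, 0, 0, 0, 0, 0, 0, 0, 0, 4, 0],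
    ![0, 0, 0, 0, 0, 0, 0, 0, 0, 0, 0, 0, 8]]

/-- terms -/
def T4 : List (ℤ × (ℕ × ℕ × ℕ) × (ℕ × ℕ × ℕ)) :=
  [(1, (0, 0, 0), (0, 0, 1)), (1, (0, 0, 0), (1, 1, 0)), (-1, (0, 0, 0), (1, 1, 3)), (1, (0, 0, 1), (0, 0, 0)), (-4, (0, 0, 1), (0, 0, 3)), (-3, (0, 0, 1), (1, 1, 2)), (-6, (0, 0, 2), (0, 0, 2)), (-3, (0, 0, 2), (1, 1, 1)), (-4, (0, 0, 3), (0, 0, 1)), (-1, (0, 0, 3), (1, 1, 0)), (1, (0, 1, 0), (0, 1, 3)), (3, (0, 1, 1), (0, 1, 2)), (3, (0, 1, 2), (0, 1, 1)), (1, (0, 1, 3), (0, 1, 0)), (-1, (0, 2, 0), (3, 0, 0)), (-3, (1, 0, 0), (1, 0, 3)), (-3, (1, 0, 0), (2, 1, 2)), (-9, (1, 0, 1), (1, 0, 2)), (-6, (1, 0, 1), (2, 1, 1)), (-9, (1, 0, 2), (1, 0, 1)), (-3, (1, 0, 2), (2, 1, 0)), (-3, (1, 0, 3), (1, 0, 0)), (1, (1, 1, 0), (0, 0, 0)), (-1, (1, 1, 0), (0, 0, 3)), (3, (1, 1, 0), (1, 1, 2)),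 (-3, (1, 1, 1), (0, 0, 2)), (6, (1, 1, 1), (1, 1, 1)), (-3, (1, 1, 2), (0, 0, 1)), (3, (1, 1, 2), (1, 1, 0)), (-1, (1, 1, 3), (0, 0, 0)), (-3, (2, 0, 0), (2, 0, 2)), (-3, (2, 0, 0), (3, 1, 1)), (-6, (2, 0, 1), (2, 0, 1)), (-3, (2, 0, 1), (3, 1, 0)), (-3, (2, 0, 2), (2, 0, 0)), (-3, (2, 1, 0), (1, 0, 2)), (3, (2, 1, 0), (2, 1, 1)), (-6, (2, 1, 1), (1, 0, 1)), (3, (2, 1, 1), (2, 1, 0)), (-3, (2, 1, 2), (1, 0, 0)), (-1, (3, 0, 0), (0, 2, 0)), (-1, (3, 0, 0), (3, 0, 1)), (-1, (3, 0, 1), (3, 0, 0)), (-3, (3, 1, 0), (2, 0, 1)), (1, (3, 1, 0), (3, 1, 0)), (-3, (3, 1, 1), (2, 0, 0))]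

/-- rows -/
def R4 : Fin 13 → ℕ × ℕ × ℕ := ![(1, 1, 3), (0, 0, 3), (1, 1, 2), (0, 0, 2), (1, 1, 1), (0, 0, 1), (1, 1, 0), (0, 0, 0), (0, 1, 3), (0, 1, 2), (0, 1, 1), (0, 1, 0), (1, 0, 0)]

/-- columns -/
def C4 : Fin 13 → ℕ × ℕ × ℕ := ![(0, 0, 0), (1, 1, 0), (0, 0, 1), (1, 1, 1), (0, 0, 2), (1, 1, 2), (0, 0, 3), (1, 1, 3), (0, 1, 0), (0, 1, 1), (0, 1, 2), (0, 1, 3), (1, 0, 3)]

/-- the coefficients -/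
def A4 : Fin 13 → Fin 13 → ℤ :=
  ![![-1, 0, 0, 0, 0, 0, 0, 0, 0, 0, 0, 0, 0],
    ![0, -1, -4, 0, 0, 0, 0, 0, 0, 0, 0, 0, 0],
    ![0, 3, -3, 0, 0, 0, 0, 0, 0, 0, 0, 0, 0],
    ![0, 0, 0, -3, -6, 0, 0, 0, 0, 0, 0, 0, 0],
    ![0, 0, 0, 6, -3, 0, 0, 0, 0, 0, 0, 0, 0],
    ![1, 0, 0, 0, 0, -3, -4, 0, 0, 0, 0, 0, 0],
    ![1, 0, 0, 0, 0, 3, -1, 0, 0, 0, 0, 0, 0],
    ![0, 1, 1, 0, 0, 0, 0, -1, 0, 0, 0, 0, 0],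
    ![0, 0, 0, 0, 0, 0, 0, 0, 1, 0, 0, 0, 0],
    ![0, 0, 0, 0, 0, 0, 0, 0, 0, 3, 0, 0, 0],
    ![0, 0, 0, 0, 0, 0, 0, 0, 0, 0, 3, 0, 0],
    ![0, 0, 0, 0, 0, 0, 0, 0, 0, 0, 0, 1, 0],
    ![0, 0, 0, 0, 0, 0, 0, 0, 0, 0, 0, 0, -3]]

/-- the inverse -/
def B4 : Fin 13 → Fin 13 → ℤ :=
  ![![-15, 0, 0, 0, 0, 0, 0, 0, 0, 0, 0, 0, 0],
    ![0, -3, 4, 0, 0, 0, 0, 0, 0, 0, 0, 0, 0],
    ![0, -3, -1, 0, 0, 0, 0, 0, 0, 0, 0, 0, 0],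
    ![0, 0, 0, -1, 2, 0, 0, 0, 0, 0, 0, 0, 0],
    ![0, 0, 0, -2, -1, 0, 0, 0, 0, 0, 0, 0, 0],
    ![3, 0, 0, 0, 0, -1, 4, 0, 0, 0, 0, 0, 0],
    ![-6, 0, 0, 0, 0, -3, -3, 0, 0, 0, 0, 0, 0],
    ![0, -6, 3, 0, 0, 0, 0, -15, 0, 0, 0, 0, 0],
    ![0, 0, 0, 0, 0, 0, 0, 0, 15, 0, 0, 0, 0],
    ![0, 0, 0, 0, 0, 0, 0, 0, 0, 5, 0, 0, 0],
    ![0, 0, 0, 0, 0, 0, 0, 0, 0, 0, 5, 0, 0],
    ![0, 0, 0, 0, 0, 0, 0, 0, 0, 0, 0, 15, 0],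
    ![0, 0, 0, 0, 0, 0, 0, 0, 0, 0, 0, 0, -5]]


instance decSmall (q : ℕ) (μ : ℕ × ℕ × ℕ) : Decidable (Small q μ) := by
  unfold Small
  infer_instance

theorem Small.mono {q q' : ℕ} {μ : ℕ × ℕ × ℕ} (h : Small q μ) (hq : q ≤ q') : Small q' μ :=
  ⟨h.1.trans_le hq, h.2.1.trans_le hq, h.2.2.trans_le hq⟩

theorem ent21 : ∀ s s', ent T21 (R21 s) (C21 s') = A21 s s' := by decide +kernel

theorem inv21 : ∀ s s', ∑ t, B21 s t * A21 t s' = if s = s' then 8 else 0 := by decide +kernel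

theorem ent3 : ∀ s s', ent T3 (R3 s) (C3 s') = A3 s s' := by decide +kernel

theorem inv3 : ∀ s s', ∑ t, B3 s t * A3 t s' = if s = s' then 8 else 0 := by decide +kernel

theorem ent4 : ∀ s s', ent T4 (R4 s) (C4 s') = A4 s s' := by decide +kernel

theorem inv4 : ∀ s s', ∑ t, B4 s t * A4 t s' = if s = s' then 15 else 0 := by decide +kernel

section

variable {j : E →+* K} {Φ V : Iso q E → κ → K}

theorem Ker.rank_21 (hF : Fintype.card E = q ^ 2) (h : Ker q j (2 + q * 1) Φ V) (hq : 4 ≤ q) (h2 : (2 : K) ≠ 0) :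
    13 ≤ Fintype.card κ := by
  refine h.pivot_list hF T21 (fun t ht => ?_) ?_ R21 C21 (fun s => ?_) (fun s => ?_) A21 B21 8 ?_ ent21 inv21
  · have : ∀ t ∈ T21, Small 4 t.2.1 ∧ Small 4 t.2.2 := by decide
    exact ⟨(this t ht).1.mono hq, (this t ht).2.mono hq⟩
  · intro z w
    rw [pow_expand hF]
    simp only [T21, List.map_cons, List.map_nil, List.sum_cons, List.sum_nil, Cfsg.Agent.H929.U3.mono]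
    push_cast
    ring
  · have : ∀ s, Small 4 (R21 s) := by decide
    exact (this s).mono hq
  · have : ∀ s, Small 4 (C21 s) := by decide
    exact (this s).mono hq
  · have : ((8 : ℤ) : K) = 2 * 2 * 2 := by norm_num
    rw [this]
    exact mul_ne_zero (mul_ne_zero h2 h2) h2

theorem Ker.rank_q3 (hF : Fintype.card E = 3 ^ 2) {Φ V : Iso 3 E → κ → K} (h : Ker 3 j (2 + 3 * 1) Φ V)
    (h2 : (2 : K) ≠ 0) : 13 ≤ Fintype.card κ := by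
  refine h.pivot_list hF T3 (by decide) ?_ R3 C3 (by decide) (by decide) A3 B3 8 ?_ ent3 inv3
  · intro z w
    rw [pow_expand hF]
    have hz : j z.1.2 + j z.1.2 ^ 3 + j z.1.1 * j z.1.1 ^ 3 = 0 := by
      have := congrArg j z.2
      simpa using this
    have hw : j w.1.2 + j w.1.2 ^ 3 + j w.1.1 * j w.1.1 ^ 3 = 0 := by
      have := congrArg j w.2
      simpa using this
    simp only [T3, List.map_cons, List.map_nil, List.sum_cons, List.sum_nil, Cfsg.Agent.H929.U3.mono]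
    push_cast
    linear_combination (-1) * hz - hw
  · have : ((8 : ℤ) : K) = 2 * 2 * 2 := by norm_num
    rw [this]
    exact mul_ne_zero (mul_ne_zero h2 h2) h2

theorem Ker.rank_q4 (hF : Fintype.card E = 4 ^ 2) {Φ V : Iso 4 E → κ → K} (h : Ker 4 j (3 + 4 * 1) Φ V)
    (h2 : (2 : K) = 0) : 13 ≤ Fintype.card κ := by
  refine h.pivot_list hF T4 (by decide) ?_ R4 C4 (by decide) (by decide) A4 B4 15 ?_ ent4 inv4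
  · intro z w
    rw [pow_expand hF]
    have hz : j z.1.2 + j z.1.2 ^ 4 + j z.1.1 * j z.1.1 ^ 4 = 0 := by
      have := congrArg j z.2
      simpa using this
    have hw : j w.1.2 + j w.1.2 ^ 4 + j w.1.1 * j w.1.1 ^ 4 = 0 := by
      have := congrArg j w.2
      simpa using this
    simp only [T4, List.map_cons, List.map_nil, List.sum_cons, List.sum_nil, Cfsg.Agent.H929.U3.mono]
    push_cast
    linear_combination (-1) * hz - hw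
  · have : ((15 : ℤ) : K) = 2 * 7 + 1 := by norm_num
    rw [this, h2, zero_mul, zero_add]
    exact one_ne_zero

end

end Cfsg.Agent.H929.U3
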